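import Cfsg.Agent.Lib.H3.PBasic
import Cfsg.Agent.Lib.H3.Extraspecial
import Mathlib.Tactic

set_option autoImplicit false

/-! Finite `p`-groups with an abelian or extraspecial subgroup of index `p`. -/

namespace H66.PIndex

open Subgroup
open scoped commutatorElement

variable {S : Type*} [Group S] [Finite S] {p : ℕ} [hp : Fact p.Prime]

/-- A normal subgroup of order `p` of a finite `p`-group is central. -/
theorem le_center_of_card (hS : IsPGroup p S) (N : Subgroup S) [N.Normal] (hN : Nat.card N = p) :
    N ≤ center S := by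
  haveI := hS.isNilpotent
  have hne : N ≠ ⊥ := by
    rintro rfl
    rw [Subgroup.card_bot] at hN
    exact hp.out.one_lt.ne hN
  have hlt := H3.PBasic.commutator_top_lt N hne
  rw [← Subgroup.commutator_top_right_eq_bot_iff_le_center]
  have h1 : Nat.card ↥(⁅N, (⊤ : Subgroup S)⁆) ∣ Nat.card N := Subgroup.card_dvd_of_le hlt.le
  rw [hN, Nat.dvd_prime hp.out] at h1
  rcases h1 with h1 | h1
  · exact Subgroup.card_eq_one.1 h1
  · exfalso
    apply hlt.ne
    apply Subgroup.eq_of_le_of_card_ge hlt.le
    rw [h1, hN]

/-- the centre of a normal extraspecial subgroup is central -/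
theorem center_map_le_center (hS : IsPGroup p S) (Q : Subgroup S) [Q.Normal]
    (hQ : Nat.card (center Q) = p) : (center Q).map Q.subtype ≤ center S := by
  have : ((center Q).map Q.subtype).Normal := ConjAct.normal_of_characteristic_of_normal
  apply le_center_of_card hS
  rw [← hQ]
  exact (Nat.card_congr ((center Q).equivMapOfInjective _ Q.subtype_injective).toEquiv).symm

theorem mem_center_map {Q : Subgroup S} {x : S} :
    x ∈ (center Q).map Q.subtype ↔ x ∈ Q ∧ ∀ q ∈ Q, q * x = x * q := by
  constructor
  · rintro ⟨y, hy, rfl⟩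
    refine ⟨y.2, fun q hq => ?_⟩
    exact congrArg Subtype.val (Subgroup.mem_center_iff.1 hy ⟨q, hq⟩)
  · rintro ⟨hx, h⟩
    refine ⟨⟨x, hx⟩, ?_, rfl⟩
    rw [SetLike.mem_coe, Subgroup.mem_center_iff]
    intro q
    ext
    exact h q q.2

section Abelian

variable (hS : IsPGroup p S) (hna : ¬ IsMulCommutative S) (A : Subgroup S)
  (hA : IsMulCommutative A) (hAi : A.index = p)

include hna in
omit [Finite S] in
/-- the centre lies in every abelian subgroup of prime index -/
theorem center_le_abelian (A : Subgroup S) (hA : IsMulCommutative A) (hAi : A.index = p) :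
    center S ≤ A := by
  by_contra h
  obtain ⟨z, hz, hzA⟩ := Set.not_subset.1 h
  apply hna
  have hc : ∀ a ∈ A, ∀ b ∈ A, a * b = b * a := by
    intro a ha b hb
    exact congrArg Subtype.val (hA.is_comm.comm (⟨a, ha⟩ : A) ⟨b, hb⟩)
  -- centralizer of A is everything
  have h1 : A ≤ centralizer (A : Set S) := by
    intro a ha
    rw [Subgroup.mem_centralizer_iff]
    intro b hb
    exact hc b hb a ha
  have hztop : centralizer (A : Set S) = ⊤ := by
    have h2 : A.relIndex (centralizer (A : Set S)) * (centralizer (A : Set S)).index = p := by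
      rw [Subgroup.relIndex_mul_index h1, hAi]
    have h3 := (Nat.dvd_prime hp.out).1 (Dvd.intro_left _ h2)
    rcases h3 with h3 | h3
    · exact Subgroup.index_eq_one.1 h3
    · exfalso
      rw [h3] at h2
      have h4 : A.relIndex (centralizer (A : Set S)) = 1 := by
        have := hp.out.pos
        exact Nat.eq_of_mul_eq_mul_right this (by rw [h2, one_mul])
      apply hzA
      apply Subgroup.relIndex_eq_one.1 h4
      exact Subgroup.center_le_centralizer _ hz
  have h4 : A ≤ center S := by
    intro a ha
    rw [Subgroup.mem_center_iff]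
    intro g
    have : g ∈ centralizer (A : Set S) := by rw [hztop]; trivial
    exact (Subgroup.mem_centralizer_iff.1 this a ha).symm
  have h5 : center S = ⊤ := by
    have h2 : A.relIndex (center S) * (center S).index = p := by
      rw [Subgroup.relIndex_mul_index h4, hAi]
    rcases (Nat.dvd_prime hp.out).1 (Dvd.intro_left _ h2) with h3 | h3
    · exact Subgroup.index_eq_one.1 h3
    · exfalso
      rw [h3] at h2
      have h6 : A.relIndex (center S) = 1 := by
        have := hp.out.pos
        exact Nat.eq_of_mul_eq_mul_right this (by rw [h2, one_mul])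
      exact hzA (Subgroup.relIndex_eq_one.1 h6 hz)
  refine ⟨⟨fun a b => ?_⟩⟩
  have : b ∈ center S := by rw [h5]; trivial
  exact Subgroup.mem_center_iff.1 this a

include hS hna hA hAi in
/-- `[S : Z(S)] = p |S'|` for a nonabelian `p`-group with an abelian subgroup of index `p`. -/
theorem index_center_eq : (center S).index = p * Nat.card (commutator S) := by
  have hAn : A.Normal := H3.PBasic.normal_of_index hS hAi
  have hZA := center_le_abelian hna A hA hAi
  have hc : ∀ a ∈ A, ∀ b ∈ A, a * b = b * a := by
    intro a ha b hb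
    exact congrArg Subtype.val (hA.is_comm.comm (⟨a, ha⟩ : A) ⟨b, hb⟩)
  have hAt : A ≠ ⊤ := by
    rintro rfl
    rw [Subgroup.index_top] at hAi
    exact hp.out.one_lt.ne hAi
  obtain ⟨x, hx⟩ : ∃ x, x ∉ A := by
    by_contra h
    push Not at h
    exact hAt (eq_top_iff.2 fun x _ => h x)
  have hsup : A ⊔ zpowers x = ⊤ := by
    apply (H3.PBasic.isCoatom_of_index A hAi).2
    refine lt_of_le_of_ne le_sup_left ?_
    intro h
    exact hx (by rw [h]; exact (le_sup_right : zpowers x ≤ _) (mem_zpowers x))
  -- commutator map
  let f : A →* A :=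
    { toFun := fun a => ⟨⁅(a : S), x⁆, by
        rw [commutatorElement_def, mul_assoc, mul_assoc]
        exact mul_mem a.2 (by
          rw [← mul_assoc]; exact hAn.conj_mem _ (inv_mem a.2) x)⟩
      map_one' := by ext; simp
      map_mul' := by
        intro a b
        ext
        simp only [Subgroup.coe_mul]
        -- ⁅ab,x⁆ = a ⁅b,x⁆ a⁻¹ ⁅a,x⁆ = ⁅b,x⁆⁅a,x⁆
        have hb' : x * (b : S)⁻¹ * x⁻¹ ∈ A := hAn.conj_mem _ (inv_mem b.2) x
        have ha' : x * (a : S)⁻¹ * x⁻¹ ∈ A := hAn.conj_mem _ (inv_mem a.2) x
        rw [commutatorElement_def, commutatorElement_def, commutatorElement_def]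
        calc (a : S) * b * x * ((a : S) * b)⁻¹ * x⁻¹
            = (a : S) * b * ((x * (b : S)⁻¹ * x⁻¹) * (x * (a : S)⁻¹ * x⁻¹)) := by group
          _ = (a : S) * b * ((x * (a : S)⁻¹ * x⁻¹) * (x * (b : S)⁻¹ * x⁻¹)) := by
              rw [hc _ hb' _ ha']
          _ = (a : S) * (b * (x * (a : S)⁻¹ * x⁻¹)) * (x * (b : S)⁻¹ * x⁻¹) := by group
          _ = (a : S) * ((x * (a : S)⁻¹ * x⁻¹) * b) * (x * (b : S)⁻¹ * x⁻¹) := by
              rw [hc _ b.2 _ ha']
          _ = _ := by group }
  have hf : ∀ a : A, ((f a : A) : S) = ⁅(a : S), x⁆ := fun a => rfl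
  -- kernel = centre
  have hker : f.ker.map A.subtype = center S := by
    apply le_antisymm
    · rintro _ ⟨a, ha, rfl⟩
      have h1 : ⁅(a : S), x⁆ = 1 := by
        have := congrArg Subtype.val (MonoidHom.mem_ker.1 ha)
        exact this
      rw [commutatorElement_eq_one_iff_mul_comm] at h1
      have h2 : A ⊔ zpowers x ≤ centralizer ({(a : S)} : Set S) := by
        apply sup_le
        · intro b hb
          rw [Subgroup.mem_centralizer_iff]
          rintro _ rfl
          exact hc _ a.2 _ hb
        · rw [Subgroup.zpowers_le, Subgroup.mem_centralizer_iff]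
          rintro _ rfl
          exact h1
      rw [hsup] at h2
      change (a : S) ∈ center S
      rw [Subgroup.mem_center_iff]
      intro g
      exact (Subgroup.mem_centralizer_iff.1 (h2 (Subgroup.mem_top g)) _ rfl).symm
    · intro z hz
      refine ⟨⟨z, hZA hz⟩, ?_, rfl⟩
      rw [SetLike.mem_coe, MonoidHom.mem_ker]
      ext
      rw [hf, Subgroup.coe_one, commutatorElement_eq_one_iff_mul_comm]
      exact (Subgroup.mem_center_iff.1 hz x).symm
  -- range = commutator subgroup
  have hrange : f.range.map A.subtype = commutator S := by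
    apply le_antisymm
    · rintro _ ⟨_, ⟨a, rfl⟩, rfl⟩
      change ⁅(a : S), x⁆ ∈ commutator S
      exact Subgroup.commutator_mem_commutator (Subgroup.mem_top _) (Subgroup.mem_top _)
    · set R := f.range.map A.subtype with hR
      have hRA : R ≤ A := by rintro _ ⟨a, _, rfl⟩; exact a.2
      have hmemR : ∀ a ∈ A, ⁅a, x⁆ ∈ R := fun a ha => ⟨f ⟨a, ha⟩, ⟨⟨a, ha⟩, rfl⟩, rfl⟩
      -- R is normal
      have hxR : x ∈ normalizer (R : Set S) := by
        have hle : ∀ r ∈ R, x * r * x⁻¹ ∈ R := by
          rintro _ ⟨_, ⟨a, rfl⟩, rfl⟩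
          refine ⟨f ⟨x * a * x⁻¹, hAn.conj_mem _ a.2 x⟩, ⟨_, rfl⟩, ?_⟩
          change ⁅x * (a : S) * x⁻¹, x⁆ = x * ⁅(a : S), x⁆ * x⁻¹
          rw [commutatorElement_def, commutatorElement_def]; group
        have hfin : R.map (MulAut.conj x).toMonoidHom = R := by
          apply Subgroup.eq_of_le_of_card_ge
          · rintro _ ⟨r, hr, rfl⟩
            exact hle r hr
          · exact (Nat.card_congr (R.equivMapOfInjective _ (MulAut.conj x).injective).toEquiv).le
        rw [Subgroup.mem_normalizer_iff]
        intro r
        constructor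
        · exact hle r
        · intro h
          have h' : x * r * x⁻¹ ∈ R.map (MulAut.conj x).toMonoidHom := by rw [hfin]; exact h
          obtain ⟨r', hr', he⟩ := h'
          have : r' = r := (MulAut.conj x).injective (by simpa using he)
          rw [← this]; exact hr'
      have hAR : A ≤ normalizer (R : Set S) := by
        intro a ha
        rw [Subgroup.mem_normalizer_iff]
        intro r
        constructor
        · intro hr
          rw [hc a ha r (hRA hr), mul_inv_cancel_right]; exact hr
        · intro hr
          have hrA : r ∈ A := by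
            have h1 := hAn.conj_mem _ (hRA hr) a⁻¹
            simpa [mul_assoc] using h1
          rw [hc a ha r hrA, mul_inv_cancel_right] at hr; exact hr
      have hRn : R.Normal := by
        rw [← Subgroup.normalizer_eq_top_iff, eq_top_iff, ← hsup]
        exact sup_le hAR (by rw [Subgroup.zpowers_le]; exact hxR)
      -- S / R is abelian
      have hcomm : ⁅(⊤ : Subgroup S), ⊤⁆ ≤ R := by
        have hAc : (A.map (QuotientGroup.mk' R)) ≤ centralizer ((A.map (QuotientGroup.mk' R) : Subgroup (S ⧸ R)) : Set (S ⧸ R)) := by
          rintro _ ⟨a, ha, rfl⟩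
          rw [Subgroup.mem_centralizer_iff]
          rintro _ ⟨b, hb, rfl⟩
          rw [← map_mul, ← map_mul, hc b hb a ha]
        have hxc : (QuotientGroup.mk' R) x ∈ centralizer ((A.map (QuotientGroup.mk' R) : Subgroup (S ⧸ R)) : Set (S ⧸ R)) := by
          rw [Subgroup.mem_centralizer_iff]
          rintro _ ⟨b, hb, rfl⟩
          rw [← commutatorElement_eq_one_iff_mul_comm, ← map_commutatorElement]
          rw [QuotientGroup.mk'_apply, QuotientGroup.eq_one_iff]
          exact hmemR b hb
        have htopQ : (⊤ : Subgroup (S ⧸ R)) = A.map (QuotientGroup.mk' R) ⊔ zpowers ((QuotientGroup.mk' R) x) := by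
          rw [← MonoidHom.map_zpowers, ← Subgroup.map_sup, hsup]
          rw [← MonoidHom.range_eq_map, MonoidHom.range_eq_top.2 (QuotientGroup.mk'_surjective R)]
        have h1 : (⊤ : Subgroup (S ⧸ R)) ≤ centralizer ((A.map (QuotientGroup.mk' R) : Subgroup (S ⧸ R)) : Set (S ⧸ R)) := by
          rw [htopQ]
          exact sup_le hAc (by rw [Subgroup.zpowers_le]; exact hxc)
        have h2 : A.map (QuotientGroup.mk' R) ≤ center (S ⧸ R) := by
          intro a ha
          rw [Subgroup.mem_center_iff]
          intro g
          exact (Subgroup.mem_centralizer_iff.1 (h1 (Subgroup.mem_top g)) a ha).symm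
        have h3 : (QuotientGroup.mk' R) x ∈ center (S ⧸ R) := by
          have h4 : (⊤ : Subgroup (S ⧸ R)) ≤ centralizer ({(QuotientGroup.mk' R) x} : Set (S ⧸ R)) := by
            rw [htopQ]
            apply sup_le
            · intro a ha
              rw [Subgroup.mem_centralizer_iff]
              rintro _ rfl
              exact (Subgroup.mem_centralizer_iff.1 hxc a ha).symm
            · rw [Subgroup.zpowers_le, Subgroup.mem_centralizer_iff]
              rintro _ rfl; rfl
          rw [Subgroup.mem_center_iff]
          intro g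
          exact (Subgroup.mem_centralizer_iff.1 (h4 (Subgroup.mem_top g)) _ rfl).symm
        have h5 : (⊤ : Subgroup (S ⧸ R)) ≤ center (S ⧸ R) := by
          rw [htopQ]
          exact sup_le h2 (by rw [Subgroup.zpowers_le]; exact h3)
        rw [Subgroup.commutator_le]
        intro a _ b _
        have h6 : (QuotientGroup.mk' R) ⁅a, b⁆ = 1 := by
          rw [map_commutatorElement, commutatorElement_eq_one_iff_mul_comm]
          exact Subgroup.mem_center_iff.1 (h5 (Subgroup.mem_top _)) _
        rwa [QuotientGroup.mk'_apply, QuotientGroup.eq_one_iff] at h6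
      exact hcomm
  have e1 : Nat.card (center S) = Nat.card f.ker := by
    rw [← hker]
    exact (Nat.card_congr (f.ker.equivMapOfInjective _ A.subtype_injective).toEquiv).symm
  have e2 : Nat.card (commutator S) = Nat.card f.range := by
    rw [← hrange]
    exact (Nat.card_congr (f.range.equivMapOfInjective _ A.subtype_injective).toEquiv).symm
  have e3 : Nat.card f.ker * Nat.card f.range = Nat.card A := by
    rw [← Subgroup.index_ker, Subgroup.card_mul_index]
  have e4 : Nat.card A * p = Nat.card S := by rw [← hAi]; exact Subgroup.card_mul_index A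
  have e5 : Nat.card (center S) * (center S).index = Nat.card S := Subgroup.card_mul_index _
  apply Nat.eq_of_mul_eq_mul_left (Nat.card_pos (α := center S))
  rw [e5, ← e4, ← e3, e1, e2]; ring

end Abelian

end H66.PIndex
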