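import Cfsg.Agent.Lib.H66.LargeE
import Cfsg.Agent.Lib.H76.MaxClass
import Cfsg.Agent.Lib.H1.Cyc

/-!
Bender's theorem on groups with large TI-subgroups: the affine plane case.
-/

set_option autoImplicit false
set_option linter.unusedSectionVars false

open Subgroup MulAction

namespace H66.Large

variable {G : Type*} [Group G] [Finite G] {M : Subgroup G} {z : G}

namespace Hyp

variable (h : Hyp M z)
include h

/-- involutions with a fixed point are conjugate to `z` -/
theorem isConj_of_fix {v : G} (hv : orderOf v = 2) {α : G ⧸ normalizer (M : Set G)} (hvα : v • α = α) : IsConj z v := by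
  obtain ⟨g, rfl⟩ := h.exists_point α
  have h1 : g⁻¹ * v * g⁻¹⁻¹ ∈ normalizer (M : Set G) := by
    rw [← h.fix_base, mul_smul, mul_smul, inv_inv, hvα, inv_smul_smul]
  obtain ⟨y, hy, hyv⟩ := h.exists_conj (h.conj_inv g⁻¹ hv) h1
  rw [isConj_iff]
  refine ⟨g * y, ?_⟩
  calc g * y * z * (g * y)⁻¹ = g * (y * z * y⁻¹) * g⁻¹ := by group
    _ = v := by rw [hyv]; group

theorem card_inv_pt (α : G ⧸ normalizer (M : Set G)) : Nat.card {v : G // orderOf v = 2 ∧ v • α = α} = Nat.card M := by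
  obtain ⟨g, rfl⟩ := h.exists_point α
  symm
  have key : ∀ m ∈ M, orderOf (g * (z * m) * g⁻¹) = 2 ∧ (g * (z * m) * g⁻¹) • g • pt M = g • pt M := by
    intro m hm
    refine ⟨h.conj_inv g (h.mul_inv_of h.hz h.hzN hm), ?_⟩
    rw [mul_smul, inv_smul_smul, mul_smul, (h.fix_pt _).mpr (mul_mem h.hzN (h.M_le hm))]
  refine Nat.card_congr (Equiv.ofBijective (fun m : M => (⟨g * (z * m) * g⁻¹, key m m.2⟩ :
    {v : G // orderOf v = 2 ∧ v • g • pt M = g • pt M})) ⟨?_, ?_⟩)
  · intro x y hxy
    have h1 : g * (z * (x : G)) * g⁻¹ = g * (z * y) * g⁻¹ := congrArg Subtype.val hxy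
    exact Subtype.ext (mul_left_cancel (mul_left_cancel (mul_right_cancel h1)))
  · rintro ⟨v, hv, hvα⟩
    have h1 : g⁻¹ * v * g⁻¹⁻¹ ∈ normalizer (M : Set G) := by
      rw [← h.fix_base, mul_smul, mul_smul, inv_inv, hvα, inv_smul_smul]
    refine ⟨⟨z * (g⁻¹ * v * g⁻¹⁻¹), h.mul_mem_M h.hz h.hzN (h.conj_inv g⁻¹ hv) h1⟩, Subtype.ext ?_⟩
    change g * (z * (z * (g⁻¹ * v * g⁻¹⁻¹))) * g⁻¹ = v
    rw [← mul_assoc z z, inv_sq h.hz, one_mul]; group

theorem card_fix_eq {v : G} (hv : IsConj z v) : Nat.card {α : G ⧸ normalizer (M : Set G) // v • α = α} =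
    Nat.card {α : G ⧸ normalizer (M : Set G) // z • α = α} := by
  obtain ⟨c, rfl⟩ := isConj_iff.mp hv
  symm
  refine Nat.card_congr
    { toFun := fun x => ⟨c • x.1, by rw [mul_smul, mul_smul, inv_smul_smul, x.2]⟩
      invFun := fun x => ⟨c⁻¹ • x.1, by
        have := x.2
        rw [mul_smul, mul_smul] at this
        exact eq_inv_smul_iff.mpr this⟩
      left_inv := fun x => Subtype.ext (inv_smul_smul _ _)
      right_inv := fun x => Subtype.ext (smul_inv_smul _ _) }

theorem isConj_inv {v : G} (hv : IsConj z v) : orderOf v = 2 := by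
  obtain ⟨c, rfl⟩ := isConj_iff.mp hv
  exact h.conj_inv c h.hz

theorem exists_fix_of_conj {v : G} (hv : IsConj z v) : ∃ α : G ⧸ normalizer (M : Set G), v • α = α := by
  obtain ⟨c, rfl⟩ := isConj_iff.mp hv
  exact ⟨c • pt M, by rw [mul_smul, mul_smul, inv_smul_smul, (h.fix_pt z).mpr h.hzN]⟩

section plane

variable (hpl : Nat.card M = Nat.card {α : G ⧸ normalizer (M : Set G) // z • α = α} + 1)
include hpl

/-- parallel lines: involutions without a common fixed point commute -/
theorem comm_of_disjoint {v w : G} (hv : IsConj z v) (hw : IsConj z w)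
    (hdis : ∀ α : G ⧸ normalizer (M : Set G), v • α = α → w • α = α → False) : v * w = w * v := by
  classical
  have hv2 := h.isConj_inv hv
  have hw2 := h.isConj_inv hw
  obtain ⟨α, hα⟩ := h.exists_fix_of_conj hw
  have hvα : v • α ≠ α := fun h1 => hdis α h1 hα
  obtain ⟨x, hx2, hxα, hxv⟩ := h.exists_fix (Ne.symm hvα)
  have hvv : v • v • α = α := by rw [← mul_smul, inv_sq hv2, one_smul]
  have hvx : v * x * v⁻¹ = x := by
    apply h.uniq_fix (Ne.symm hvα) (h.conj_inv v hx2) hx2 _ _ hxα hxv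
    · rw [mul_smul, mul_smul, inv_inv' hv2, hxv, hvv]
    · rw [mul_smul, mul_smul, inv_inv' hv2, hvv, hxα]
  have hvx' : v * x = x * v := mul_inv_eq_iff_eq_mul.mp hvx
  by_cases hxw : x = w
  · rw [← hxw]; exact hvx'
  exfalso
  -- count the involutions fixing `α`
  have hch : ∀ γ : {γ : G ⧸ normalizer (M : Set G) // v • γ = γ}, ∃ y : G, orderOf y = 2 ∧ y • α = α ∧ y • γ.1 = γ.1 := by
    rintro ⟨γ, hγ⟩
    have hne : α ≠ γ := by rintro rfl; exact hvα hγ
    exact h.exists_fix hne
  choose y hy1 hy2 hy3 using hch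
  have hinj : Function.Injective y := by
    intro γ δ hγδ
    by_contra hne
    have h1 : y γ = v := by
      apply h.uniq_fix (fun h1 => hne (Subtype.ext h1)) (hy1 γ) hv2 (hy3 γ) (by rw [hγδ]; exact hy3 δ) γ.2 δ.2
    have h2 := hy2 γ
    rw [h1] at h2
    exact hvα h2
  let F : Option (Option {γ : G ⧸ normalizer (M : Set G) // v • γ = γ}) → {v : G // orderOf v = 2 ∧ v • α = α} :=
    fun p => p.elim ⟨x, hx2, hxα⟩ (fun p => p.elim ⟨w, hw2, hα⟩ (fun γ => ⟨y γ, hy1 γ, hy2 γ⟩))
  have hyx : ∀ γ, y γ ≠ x := by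
    intro γ h1
    have h2 : x • γ.1 = γ.1 := by rw [← h1]; exact hy3 γ
    have h3 := h.eq_of_comm hv2 hx2 γ.2 h2 hvx'
    apply hvα
    rw [h3, hxα]
  have hyw : ∀ γ, y γ ≠ w := by
    intro γ h1
    exact hdis γ.1 γ.2 (by rw [← h1]; exact hy3 γ)
  have hF : Function.Injective F := by
    intro p q hpq
    have h1 := congrArg Subtype.val hpq
    rcases p with _ | (_ | p) <;> rcases q with _ | (_ | q)
    · rfl
    · exact absurd h1 hxw
    · exact absurd h1.symm (hyx q)
    · exact absurd h1.symm hxw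
    · rfl
    · exact absurd h1.symm (hyw q)
    · exact absurd h1 (hyx p)
    · exact absurd h1 (hyw p)
    · rw [hinj h1]
  have h1 := Nat.card_le_card_of_injective F hF
  rw [Finite.card_option, Finite.card_option, h.card_inv_pt, h.card_fix_eq hv, hpl] at h1
  omega

/-- a fixed point free involution commutes "up to parallelism" -/
theorem conj_fpf {a v : G} (ha2 : orderOf a = 2) (hafix : ∀ α : G ⧸ normalizer (M : Set G), a • α ≠ α)
    (hv : IsConj z v) : v * (a * v * a⁻¹) = (a * v * a⁻¹) * v := by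
  have hv2 := h.isConj_inv hv
  have haa : ∀ β : G ⧸ normalizer (M : Set G), a • a • β = β := by
    intro β; rw [← mul_smul, inv_sq ha2, one_smul]
  by_cases heq : a * v * a⁻¹ = v
  · rw [heq]
  apply h.comm_of_disjoint hpl hv
  · obtain ⟨c, rfl⟩ := isConj_iff.mp hv
    rw [isConj_iff]
    exact ⟨a * c, by group⟩
  · intro β hvβ haβ
    apply heq
    rw [mul_smul, mul_smul, inv_inv' ha2] at haβ
    -- v fixes a β
    have h1 : v • a • β = a • β := by
      rw [← haa (v • a • β), haβ]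
    apply h.uniq_fix (hafix β) (h.conj_inv a hv2) hv2 _ _ h1 hvβ
    · rw [mul_smul, mul_smul, inv_inv' ha2, haa, hvβ]
    · rw [mul_smul, mul_smul, inv_inv' ha2, h1, haa]

end plane

section caseII

variable (hII : ∀ d ∈ normalizer (M : Set G), d * z = z * d → d = 1 ∨ d = z)
include hII

theorem frob (hN : normalizer (M : Set G) ≠ ⊤) {f : ℕ}
    (hf : Nat.card {α : G ⧸ normalizer (M : Set G) // z • α = α} = f) (hM : Nat.card M = f + 1) :
    ∃ (d : ℕ) (E : Subgroup G), 1 ≤ d ∧ E.Normal ∧ Cfsg.IsElementaryAbelian 2 E ∧ Nat.card E = 2 ^ (2 * d) ∧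
        E ⊓ Subgroup.normalizer (M : Set G) = ⊥ ∧ E ⊔ Subgroup.normalizer (M : Set G) = ⊤ ∧
        Nonempty (↥(Subgroup.normalizer (M : Set G)) ≃* DihedralGroup (2 ^ d + 1)) := by
  classical
  obtain ⟨k, hfk, hk1, hE, hG, hP, hJ, hJ1, -⟩ := h.numbers hII hN hf
  have hf2 : 2 ≤ f := by
    rw [hfk]
    calc 2 = 2 ^ 1 := by norm_num
      _ ≤ 2 ^ k := Nat.pow_le_pow_right (by norm_num) hk1
  have hpl : Nat.card M = Nat.card {α : G ⧸ normalizer (M : Set G) // z • α = α} + 1 := by rw [hf, hM]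
  have hPc : Nat.card (G ⧸ normalizer (M : Set G)) = f ^ 2 := by
    rw [hP, hM]
    obtain ⟨F, rfl⟩ : ∃ F, f = F + 1 := ⟨f - 1, by omega⟩
    rw [Nat.add_sub_cancel]; ring
  set E := centralizer ({z} : Set G) with hEdef
  set Q : Subgroup G := (normalizer (E : Set G)).normalCore with hQ
  have hQn : Q.Normal := inferInstance
  -- fixed point free involutions lie in Q
  have hA0 : ∀ a : G, orderOf a = 2 → (∀ α : G ⧸ normalizer (M : Set G), a • α ≠ α) → a ∈ normalizer (E : Set G) := by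
    intro a ha2 hafix
    have h1 := h.conj_fpf hpl ha2 hafix (IsConj.refl z)
    -- `E ≤ a E a⁻¹`
    have h2 : E ≤ E.map (MulAut.conj a).toMonoidHom := by
      intro x hx
      refine ⟨a⁻¹ * x * a, ?_, by simp [MulAut.conj_apply, mul_assoc]⟩
      rw [SetLike.mem_coe, hEdef, mem_centralizer_singleton_iff]
      have h3 : x * (a * z * a⁻¹) = (a * z * a⁻¹) * x :=
        h.comm_E hII (mem_centralizer_singleton_iff.mp hx) h1.symm
      calc a⁻¹ * x * a * z = a⁻¹ * (x * (a * z * a⁻¹)) * a := by group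
        _ = a⁻¹ * ((a * z * a⁻¹) * x) * a := by rw [h3]
        _ = z * (a⁻¹ * x * a) := by group
    have h3 : E.map (MulAut.conj a).toMonoidHom = E := by
      symm
      apply Subgroup.eq_of_le_of_card_ge h2
      rw [Nat.card_congr (E.equivMapOfInjective _ (MulAut.conj a).injective).toEquiv.symm]
    rw [mem_normalizer_iff]
    intro y
    constructor
    · intro hy
      rw [← h3]
      exact ⟨y, hy, rfl⟩
    · intro hy
      rw [← h3] at hy
      obtain ⟨w, hw, hwy⟩ := hy
      have : a * w * a⁻¹ = a * y * a⁻¹ := hwy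
      rw [← mul_left_cancel (mul_right_cancel this)]
      exact hw
  have hA : ∀ a : G, orderOf a = 2 → (∀ α : G ⧸ normalizer (M : Set G), a • α ≠ α) → a ∈ Q := by
    intro a ha2 hafix
    intro b
    apply hA0 _ (h.conj_inv b ha2)
    intro α hα
    apply hafix (b⁻¹ • α)
    rw [mul_smul, mul_smul] at hα
    exact eq_inv_smul_iff.mpr hα
  -- elements of Q normalize all conjugates of E
  have hQE : ∀ q ∈ Q, ∀ v : G, IsConj z v → v * (q * v * q⁻¹) = (q * v * q⁻¹) * v := by
    intro q hq v hv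
    obtain ⟨c, rfl⟩ := isConj_iff.mp hv
    have h1 := hq c⁻¹
    have h2 := (mem_normalizer_iff.mp h1 z).mp (mem_centralizer_singleton_iff.mpr rfl)
    have h3 := mem_centralizer_singleton_iff.mp h2
    rw [inv_inv] at h3
    calc c * z * c⁻¹ * (q * (c * z * c⁻¹) * q⁻¹) = c * (z * (c⁻¹ * q * c * z * (c⁻¹ * q * c)⁻¹)) * c⁻¹ := by group
      _ = c * ((c⁻¹ * q * c * z * (c⁻¹ * q * c)⁻¹) * z) * c⁻¹ := by rw [h3]
      _ = _ := by group
  have hQN : ∀ q ∈ Q, q ∈ normalizer (M : Set G) → q = 1 := by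
    intro q hq hqN
    have key : ∀ v : G, orderOf v = 2 → v ∈ normalizer (M : Set G) → q * v = v * q := by
      intro v hv hvN
      have h1 := hQE q hq v (h.isConj_of_fix hv ((h.fix_pt v).mpr hvN))
      have h2 := h.eq_of_comm (α := pt M) hv (h.conj_inv q hv) ((h.fix_pt v).mpr hvN)
        ((h.fix_pt _).mpr (mul_mem (mul_mem hqN hvN) (inv_mem hqN))) h1
      exact mul_inv_eq_iff_eq_mul.mp h2.symm
    rcases hII q hqN (key z h.hz h.hzN) with h1 | h1
    · exact h1
    · exfalso
      obtain ⟨m, hm, hm1⟩ := h.exists_ne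
      have h2 := key (z * m) (h.mul_inv_of h.hz h.hzN hm) (mul_mem h.hzN (h.M_le hm))
      rw [h1, mul_assoc] at h2
      exact hm1 (h.fix_z h.hz hm (mul_left_cancel h2))
  -- the cardinality of Q
  have hQle : Nat.card Q ≤ f ^ 2 := by
    rw [← hPc]
    apply Nat.card_le_card_of_injective (fun q : Q => (q : G) • pt M)
    intro a b hab
    have hab' : (a : G) • pt M = (b : G) • pt M := hab
    have h1 := hQN _ (mul_mem (inv_mem b.2) a.2) ((h.fix_pt _).mp (by rw [mul_smul, hab', inv_smul_smul]))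
    rw [inv_mul_eq_one] at h1
    exact Subtype.ext h1.symm
  have hsplit := card_split (fun g : G => orderOf g = 2) (fun g => ∃ α : G ⧸ normalizer (M : Set G), g • α = α)
  have hJ1' : Nat.card {g : G // orderOf g = 2 ∧ ∃ α : G ⧸ normalizer (M : Set G), g • α = α} =
      Nat.card {g : G // IsConj z g} := by
    refine Nat.card_congr (Equiv.subtypeEquivRight (fun g => ?_))
    constructor
    · rintro ⟨h1, α, h2⟩
      exact h.isConj_of_fix h1 h2
    · intro h1
      exact ⟨h.isConj_inv h1, h.exists_fix_of_conj h1⟩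
  have hAc : Nat.card {g : G // orderOf g = 2 ∧ ¬ ∃ α : G ⧸ normalizer (M : Set G), g • α = α} = f ^ 2 - 1 := by
    rw [hJ1', hJ, hM] at hsplit
    rw [hG, hM] at hJ1
    obtain ⟨F, rfl⟩ : ∃ F, f = F + 1 := ⟨f - 1, by omega⟩
    rw [Nat.add_sub_cancel] at hJ1
    have e1 : 2 * (F + 1) - 1 = 2 * F + 1 := by omega
    rw [e1] at hsplit
    have h1 : Nat.card {g : G // IsConj z g} = (F + 2) * (F + 1) := by
      apply Nat.eq_of_mul_eq_mul_right (show 0 < 2 * (F + 1) by omega)
      rw [hJ1]; ring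
    rw [h1] at hsplit
    have e2 : (F + 1) ^ 2 = F ^ 2 + 2 * F + 1 := by ring
    have e3 : (F + 1 + 1) * (2 * F + 1) = (F + 2) * (F + 1) + (F ^ 2 + 2 * F) := by ring
    omega
  let ψ : Option {g : G // orderOf g = 2 ∧ ¬ ∃ α : G ⧸ normalizer (M : Set G), g • α = α} → Q :=
    fun p => p.elim 1 (fun g => ⟨g.1, hA g.1 g.2.1 (fun α hα => g.2.2 ⟨α, hα⟩)⟩)
  have hψinj : Function.Injective ψ := by
    intro p q hpq
    have h1 := congrArg Subtype.val hpq
    rcases p with _ | p <;> rcases q with _ | q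
    · rfl
    · exact absurd h1.symm (inv_ne q.2.1)
    · exact absurd h1 (inv_ne p.2.1)
    · have h2 : p.1 = q.1 := h1
      rw [Subtype.ext h2]
  have hoc : Nat.card (Option {g : G // orderOf g = 2 ∧ ¬ ∃ α : G ⧸ normalizer (M : Set G), g • α = α}) = f ^ 2 := by
    rw [Finite.card_option, hAc]
    have : 1 ≤ f ^ 2 := Nat.one_le_pow _ _ (by omega)
    omega
  have hQc : Nat.card Q = f ^ 2 := by
    apply le_antisymm hQle
    rw [← hoc]
    exact Nat.card_le_card_of_injective ψ hψinj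
  have hψbij : Function.Bijective ψ := by
    rw [Nat.bijective_iff_injective_and_card]
    exact ⟨hψinj, by rw [hoc, hQc]⟩
  have hQsq : ∀ q ∈ Q, q * q = 1 := by
    intro q hq
    obtain ⟨p, hp⟩ := hψbij.2 ⟨q, hq⟩
    have h1 : (ψ p : G) = q := congrArg Subtype.val hp
    rw [← h1]
    rcases p with _ | p
    · exact one_mul 1
    · exact inv_sq p.2.1
  have hQcomm : ∀ a ∈ Q, ∀ b ∈ Q, a * b = b * a := by
    intro a ha b hb
    calc a * b = a * (a * b * (a * b)) * b := by rw [hQsq _ (mul_mem ha hb), mul_one]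
      _ = (a * a) * (b * a) * (b * b) := by group
      _ = b * a := by rw [hQsq a ha, hQsq b hb, one_mul, mul_one]
  have hQab : IsMulCommutative Q := ⟨⟨fun a b => Subtype.ext (hQcomm a a.2 b b.2)⟩⟩
  have hQne : Q ≠ ⊥ := by
    intro h1
    rw [h1, Subgroup.card_bot] at hQc
    nlinarith
  have hcyc : IsCyclic M := by
    apply H1.Cyc.isCyclic_of_fpf_subgroup M Q hQne (by rw [normalizer_eq_top]; exact le_top)
    · intro x hx hx1
      rw [eq_bot_iff]
      rintro q ⟨hq, hqx⟩
      rw [mem_bot]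
      exact h.comm_odd hx hx1 (mem_centralizer_singleton_iff.mp hqx) (hQsq q hq)
    · left
      exact ⟨⟨fun a b => Subtype.ext (h.comm a.2 b.2)⟩⟩
  refine ⟨k, Q, hk1, hQn, ⟨hQab, fun a ha => by rw [pow_two]; exact hQsq a ha⟩, ?_, ?_, ?_, ?_⟩
  · rw [hQc, hfk, ← pow_mul, mul_comm]
  · rw [eq_bot_iff]
    rintro q ⟨hq, hqN⟩
    rw [mem_bot]
    exact hQN q hq hqN
  · rw [eq_top_iff]
    intro g _
    have hbij : Function.Bijective (fun q : Q => (q : G) • pt M) := by
      rw [Nat.bijective_iff_injective_and_card]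
      refine ⟨?_, by rw [hQc, hPc]⟩
      intro a b hab
      have hab' : (a : G) • pt M = (b : G) • pt M := hab
      have h1 := hQN _ (mul_mem (inv_mem b.2) a.2) ((h.fix_pt _).mp (by rw [mul_smul, hab', inv_smul_smul]))
      rw [inv_mul_eq_one] at h1
      exact Subtype.ext h1.symm
    obtain ⟨q, hq⟩ := hbij.2 (g • pt M)
    have hq' : (q : G) • pt M = g • pt M := hq
    have h1 : (q : G)⁻¹ * g ∈ normalizer (M : Set G) := (h.fix_pt _).mp (by rw [mul_smul, ← hq', inv_smul_smul])
    have h2 : g = q * ((q : G)⁻¹ * g) := by group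
    rw [h2]
    exact mul_mem_sup q.2 h1
  · -- dihedral
    obtain ⟨g, hg⟩ := IsCyclic.exists_generator (α := M)
    have hgz : zpowers (g : G) = M := by
      ext x
      constructor
      · rintro ⟨n, rfl⟩
        exact M.zpow_mem g.2 n
      · intro hx
        obtain ⟨n, hn⟩ := hg ⟨x, hx⟩
        exact ⟨n, congrArg Subtype.val hn⟩
    have hgo : orderOf (g : G) = 2 ^ k + 1 := by
      rw [← Nat.card_zpowers, hgz, hM, hfk]
    have hNc := h.card_N hII
    let a : normalizer (M : Set G) := ⟨g, h.M_le g.2⟩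
    let t : normalizer (M : Set G) := ⟨z, h.hzN⟩
    have ha : orderOf a = 2 ^ k + 1 := by
      rw [← hgo]; exact Subgroup.orderOf_mk _ _
    have hzp : (zpowers a).map (normalizer (M : Set G)).subtype = M := by
      rw [MonoidHom.map_zpowers]; exact hgz
    have hzc : Nat.card (zpowers a) = Nat.card M := by
      rw [Nat.card_zpowers, ha, hM, hfk]
    apply H76.MaxClass.dihedral_of (a := a) (t := t) ha
    · apply Subtype.ext
      change z * g * z⁻¹ = (g : G)⁻¹
      exact h.inverts h.hz h.hzN g.2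
    · apply Subtype.ext
      change z ^ 2 = 1
      rw [pow_two]; exact inv_sq h.hz
    · intro h1
      apply h.not_mem h.hz
      rw [← hzp]
      exact ⟨t, h1, rfl⟩
    · have h1 := Subgroup.card_mul_index (zpowers a)
      rw [hzc, hNc] at h1
      have h2 := h.two_lt_card
      have h3 : Nat.card M * (zpowers a).index = Nat.card M * 2 := by rw [h1]; ring
      exact Nat.eq_of_mul_eq_mul_left (by omega) h3

end caseII

end Hyp

end H66.Large
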