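import Mathlib

/-!
Semiregular actions on the nonidentity cosets: divisibility; and the arithmetic of `2 ^ d + 1 = p ^ n`.
-/

set_option autoImplicit false

open Subgroup
open scoped commutatorElement

namespace H66.FreeAct

/-- a finite group acting with exactly one fixed point for every nonidentity element -/
theorem card_dvd_sub_one {A α : Type*} [Group A] [Finite A] [MulAction A α] [Finite α] (x0 : α)
    (h0 : ∀ a : A, a • x0 = x0) (h : ∀ a : A, a ≠ 1 → ∀ x : α, a • x = x → x = x0) :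
    Nat.card A ∣ Nat.card α - 1 := by
  classical
  have := Fintype.ofFinite A
  have := Fintype.ofFinite α
  have := Fintype.ofFinite (Quotient (MulAction.orbitRel A α))
  have hb := MulAction.sum_card_fixedBy_eq_card_orbits_mul_card_group A α
  have h1 : ∀ a : A, Fintype.card (MulAction.fixedBy α a) = if a = 1 then Fintype.card α else 1 := by
    intro a
    split_ifs with ha
    · subst ha
      apply Fintype.card_congr
      exact (Equiv.setCongr (by ext x; simp)).trans (Equiv.Set.univ α)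
    · have : MulAction.fixedBy α a = {x0} := by
        ext x
        rw [MulAction.mem_fixedBy, Set.mem_singleton_iff]
        exact ⟨h a ha x, by rintro rfl; exact h0 a⟩
      have h2 : Fintype.card (MulAction.fixedBy α a) = Nat.card (MulAction.fixedBy α a) :=
        (Nat.card_eq_fintype_card).symm
      rw [h2, this]
      simp
  rw [Finset.sum_congr rfl (fun a _ => h1 a), Finset.sum_ite, Finset.sum_const, Finset.sum_const,
    Finset.filter_eq' Finset.univ (1 : A)] at hb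
  simp only [Finset.mem_univ, if_true, Finset.card_singleton, smul_eq_mul, one_mul, mul_one] at hb
  have h3 : (Finset.univ.filter (fun a : A => ¬ a = 1)).card = Fintype.card A - 1 := by
    have := Finset.card_filter_add_card_filter_not (s := (Finset.univ : Finset A)) (fun a => a = 1)
    rw [Finset.filter_eq' Finset.univ (1 : A)] at this
    simp only [Finset.mem_univ, if_true, Finset.card_singleton, Finset.card_univ] at this
    omega
  rw [h3] at hb
  have hα : 0 < Fintype.card α := Fintype.card_pos_iff.mpr ⟨x0⟩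
  have hA : 0 < Fintype.card A := Fintype.card_pos_iff.mpr ⟨1⟩
  rw [Nat.card_eq_fintype_card, Nat.card_eq_fintype_card]
  set o := Fintype.card (Quotient (MulAction.orbitRel A α))
  have ho : 0 < o := Fintype.card_pos_iff.mpr ⟨Quotient.mk _ x0⟩
  refine ⟨o - 1, ?_⟩
  obtain ⟨t, ht⟩ : ∃ t, o = t + 1 := ⟨o - 1, by omega⟩
  rw [ht] at hb ⊢
  rw [Nat.add_sub_cancel, mul_comm]
  have : (t + 1) * Fintype.card A = t * Fintype.card A + Fintype.card A := by ring
  rw [this] at hb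
  omega

section coset

variable {X : Type*} [Group X]

/-- conjugation action of `A` on the cosets `Q / N` -/
def cosetAction (A Q N : Subgroup X) (hAQ : A ≤ normalizer (Q : Set X)) (hAN : A ≤ normalizer (N : Set X)) :
    MulAction A (Q ⧸ N.subgroupOf Q) where
  smul := fun a => Quotient.map' (fun x : Q => (⟨(a : X) * x * (a : X)⁻¹,
      (mem_normalizer_iff.mp (hAQ a.2) x).mp x.2⟩ : Q)) (by
    intro x y hxy
    have h1 : x⁻¹ * y ∈ N.subgroupOf Q := QuotientGroup.leftRel_apply.mp hxy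
    apply QuotientGroup.leftRel_apply.mpr
    have h2 : (x : X)⁻¹ * y ∈ N := h1
    have h3 := (mem_normalizer_iff.mp (hAN a.2) _).mp h2
    change ((a : X) * x * (a : X)⁻¹)⁻¹ * ((a : X) * y * (a : X)⁻¹) ∈ N
    have e : ((a : X) * x * (a : X)⁻¹)⁻¹ * ((a : X) * y * (a : X)⁻¹) = a * ((x : X)⁻¹ * y) * (a : X)⁻¹ := by
      group
    rw [e]; exact h3)
  one_smul := by
    intro q
    obtain ⟨x, rfl⟩ := QuotientGroup.mk_surjective q
    change (QuotientGroup.mk (⟨((1 : A) : X) * x * ((1 : A) : X)⁻¹, _⟩ : Q) : Q ⧸ N.subgroupOf Q) = _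
    congr 1
    apply Subtype.ext
    simp
  mul_smul := by
    intro a b q
    obtain ⟨x, rfl⟩ := QuotientGroup.mk_surjective q
    change (QuotientGroup.mk (⟨((a * b : A) : X) * x * ((a * b : A) : X)⁻¹, _⟩ : Q) : Q ⧸ N.subgroupOf Q) =
      QuotientGroup.mk (⟨(a : X) * ((b : X) * x * (b : X)⁻¹) * (a : X)⁻¹, _⟩ : Q)
    congr 1
    apply Subtype.ext
    change ((a * b : A) : X) * x * ((a * b : A) : X)⁻¹ = (a : X) * ((b : X) * x * (b : X)⁻¹) * (a : X)⁻¹
    rw [Subgroup.coe_mul]; group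

/-- `A` acting semiregularly on the nonidentity cosets of `N` in `Q`. -/
theorem card_dvd_relIndex_sub_one [Finite X] (A Q N : Subgroup X) (hAQ : A ≤ normalizer (Q : Set X))
    (hAN : A ≤ normalizer (N : Set X))
    (h : ∀ a ∈ A, a ≠ 1 → ∀ x ∈ Q, ⁅x, a⁆ ∈ N → x ∈ N) : Nat.card A ∣ N.relIndex Q - 1 := by
  letI := cosetAction A Q N hAQ hAN
  have hsm : ∀ (a : A) (x : Q), a • (QuotientGroup.mk x : Q ⧸ N.subgroupOf Q) =
      QuotientGroup.mk (⟨(a : X) * x * (a : X)⁻¹, (mem_normalizer_iff.mp (hAQ a.2) x).mp x.2⟩ : Q) :=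
    fun _ _ => rfl
  have h1 := card_dvd_sub_one (A := A) (α := Q ⧸ N.subgroupOf Q) (QuotientGroup.mk 1) (by
    intro a
    rw [hsm]
    congr 1
    apply Subtype.ext
    simp) (by
    intro a ha q hq
    obtain ⟨x, rfl⟩ := QuotientGroup.mk_surjective q
    rw [hsm, QuotientGroup.eq] at hq
    have h2 : ((a : X) * x * (a : X)⁻¹)⁻¹ * x ∈ N := hq
    have h3 : ⁅(x : X)⁻¹, (a : X)⁆ ∈ N := by
      have h4 := N.inv_mem h2
      have e : (((a : X) * x * (a : X)⁻¹)⁻¹ * x)⁻¹ = ⁅(x : X)⁻¹, (a : X)⁆ := by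
        rw [commutatorElement_def]; group
      rwa [e] at h4
    have h4 := h a a.2 (fun h => ha (Subtype.ext h)) _ (Q.inv_mem x.2) h3
    rw [QuotientGroup.eq]
    have h5 : (x : X)⁻¹ * 1 ∈ N := by rw [mul_one]; exact h4
    exact h5)
  exact h1

end coset

/-! ### arithmetic -/

theorem two_pow_dvd_aux {P d c : ℕ} (hP : 2 ^ d + 1 = P) (hc : c < 2 * d) (hdvd : P ∣ 2 ^ c - 1) : c = 0 := by
  by_contra hc0
  rcases Nat.lt_or_ge d c with h | h
  · -- 2^c = 2^d 2^{c-d}
    obtain ⟨e, rfl⟩ : ∃ e, c = d + e := ⟨c - d, by omega⟩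
    have he : e < d := by omega
    have h1 : P ∣ 2 ^ e * P := dvd_mul_left _ _
    have h2 : 2 ^ e * P = (2 ^ (d + e) - 1) + (2 ^ e + 1) := by
      rw [← hP, pow_add]
      have : 0 < 2 ^ d * 2 ^ e := by positivity
      have e1 : 2 ^ e * (2 ^ d + 1) = 2 ^ d * 2 ^ e + 2 ^ e := by ring
      rw [e1]; omega
    rw [h2] at h1
    have h3 := (Nat.dvd_add_right hdvd).mp h1
    have h4 := Nat.le_of_dvd (by positivity) h3
    have h5 : 2 ^ e < 2 ^ d := Nat.pow_lt_pow_right (by norm_num) he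
    omega
  · have h1 : 2 ^ c ≤ 2 ^ d := Nat.pow_le_pow_right (by norm_num) h
    have h2 : 1 < 2 ^ c := Nat.one_lt_pow hc0 (by norm_num)
    have h4 := Nat.le_of_dvd (by omega) hdvd
    omega

/-- `2 d` divides every `a` with `2 ^ d + 1 ∣ 2 ^ a - 1`. -/
theorem two_mul_dvd {P d a : ℕ} (hd : 0 < d) (hP : 2 ^ d + 1 = P) (hdvd : P ∣ 2 ^ a - 1) : 2 * d ∣ a := by
  have h0 : P ∣ 2 ^ (2 * d) - 1 := by
    refine ⟨2 ^ d - 1, ?_⟩
    rw [← hP]
    have hpos : 0 < 2 ^ d := by positivity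
    obtain ⟨t, ht⟩ : ∃ t, 2 ^ d = t + 1 := ⟨2 ^ d - 1, by omega⟩
    rw [mul_comm 2 d, pow_mul, ht, Nat.add_sub_cancel]
    have : (t + 1) ^ 2 = (t + 1 + 1) * t + 1 := by ring
    rw [this, Nat.add_sub_cancel]
  have hP1 : 1 < P := by
    have : 0 < 2 ^ d := by positivity
    omega
  have hmod : ∀ n, P ∣ 2 ^ n - 1 ↔ 2 ^ n ≡ 1 [MOD P] := by
    intro n
    rw [Nat.ModEq.comm, Nat.modEq_iff_dvd' (Nat.one_le_pow _ _ (by norm_num))]
  rw [hmod] at h0 hdvd
  have h1 : 2 ^ (a % (2 * d)) ≡ 1 [MOD P] := by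
    have h2 : 2 ^ a = (2 ^ (2 * d)) ^ (a / (2 * d)) * 2 ^ (a % (2 * d)) := by
      rw [← pow_mul, ← pow_add, Nat.div_add_mod]
    have h3 : (2 ^ (2 * d)) ^ (a / (2 * d)) ≡ 1 [MOD P] := by
      have := h0.pow (a / (2 * d))
      rwa [one_pow] at this
    have h4 := h3.mul_right (2 ^ (a % (2 * d)))
    rw [← h2, one_mul] at h4
    exact h4.symm.trans hdvd
  rw [← hmod] at h1
  have h2 := two_pow_dvd_aux hP (Nat.mod_lt a (by omega)) h1
  exact Nat.dvd_of_mod_eq_zero h2

/-- if `2 ^ d + 1 = p ^ n` and `p ^ (n + t)` divides `2 ^ a - 1` then `2 d p ^ t ≤ a`. -/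
theorem le_of_dvd {p d n t a : ℕ} [hp : Fact p.Prime] (hp2 : p ≠ 2) (hd : 0 < d) (hP : 2 ^ d + 1 = p ^ n)
    (ha : 0 < a) (hdvd : p ^ (n + t) ∣ 2 ^ a - 1) : 2 * d * p ^ t ≤ a := by
  have hn : n ≠ 0 := by
    rintro rfl
    have : 0 < 2 ^ d := by positivity
    rw [pow_zero] at hP
    omega
  obtain ⟨b, rfl⟩ := two_mul_dvd hd hP ((pow_dvd_pow p (Nat.le_add_right n t)).trans hdvd)
  have hb : b ≠ 0 := by rintro rfl; simp at ha
  apply Nat.mul_le_mul_left
  apply Nat.le_of_dvd (Nat.pos_of_ne_zero hb)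
  have hpodd : Odd p := hp.out.odd_of_ne_two hp2
  -- valuation of 2^{2d} - 1
  have hfac : 2 ^ (2 * d) - 1 = (2 ^ d - 1) * p ^ n := by
    rw [← hP]
    have hpos : 0 < 2 ^ d := by positivity
    obtain ⟨s, hs⟩ : ∃ s, 2 ^ d = s + 1 := ⟨2 ^ d - 1, by omega⟩
    rw [mul_comm 2 d, pow_mul, hs, Nat.add_sub_cancel]
    have : (s + 1) ^ 2 = s * (s + 1 + 1) + 1 := by ring
    rw [this, Nat.add_sub_cancel]
  have hpn : p ∣ 2 ^ d + 1 := by rw [hP]; exact dvd_pow_self p hn
  have hnd : ¬ p ∣ 2 ^ d - 1 := by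
    intro h
    have h1 : 2 ^ d + 1 = (2 ^ d - 1) + 2 := by
      have : 0 < 2 ^ d := by positivity
      omega
    rw [h1] at hpn
    have h2 := (Nat.dvd_add_right h).mp hpn
    have h3 := (Nat.prime_dvd_prime_iff_eq hp.out Nat.prime_two).mp h2
    exact hp2 h3
  have h1 : 2 ^ d - 1 ≠ 0 := fun h => hnd (by rw [h]; exact dvd_zero p)
  have hval : padicValNat p (2 ^ (2 * d) - 1) = n := by
    rw [hfac, padicValNat.mul h1 (pow_ne_zero _ hp.out.ne_zero), padicValNat.prime_pow,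
      padicValNat.eq_zero_of_not_dvd hnd, zero_add]
  have h2 : 1 < 2 ^ (2 * d) := Nat.one_lt_pow (by omega) (by norm_num)
  have hlte := padicValNat.pow_sub_pow (p := p) hpodd (x := 2 ^ (2 * d)) (y := 1) h2 (by
    rw [hfac]
    exact (dvd_pow_self p hn).mul_left _) (by
    intro h
    have := hp.out.dvd_of_dvd_pow h
    exact hp2 ((Nat.prime_dvd_prime_iff_eq hp.out Nat.prime_two).mp this)) hb
  rw [one_pow, ← pow_mul, hval] at hlte
  have h3 : 2 ^ (2 * d * b) - 1 ≠ 0 := by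
    have : 1 < 2 ^ (2 * d * b) := Nat.one_lt_pow (by omega) (by norm_num)
    omega
  have h4 := (padicValNat_dvd_iff_le h3).mp hdvd
  rw [hlte] at h4
  exact (padicValNat_dvd_iff_le hb).mpr (by omega)

end H66.FreeAct
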