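import Cfsg.Agent.Lib.H1.Coprime2
import Cfsg.Agent.Lib.H66.CopAb
import Cfsg.Agent.Lib.H66.Commutators

/-!
Minimal `C`-invariant `q`-subgroups `Q` on which `D ⊲ C` acts nontrivially.
-/

set_option autoImplicit false

open Subgroup H1.Coprime2 H1.Coprime
open scoped commutatorElement

namespace H66.MinQ

variable {X : Type*} [Group X]

/-- `Q` is a minimal `C`-invariant subgroup not centralized by `D`. -/
structure MQ (C D Q : Subgroup X) : Prop where
  DC : D ≤ C
  CD : C ≤ normalizer (D : Set X)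
  inv : C ≤ normalizer (Q : Set X)
  ne : ¬ D ≤ centralizer (Q : Set X)
  min : ∀ Y : Subgroup X, Y ≤ Q → Y ≠ Q → C ≤ normalizer (Y : Set X) → D ≤ centralizer (Y : Set X)

theorem exists_MQ [Finite X] {C D Q0 : Subgroup X} (hDC : D ≤ C) (hCD : C ≤ normalizer (D : Set X))
    (hC : C ≤ normalizer (Q0 : Set X)) (hne : ¬ D ≤ centralizer (Q0 : Set X)) :
    ∃ Q, Q ≤ Q0 ∧ MQ C D Q := by
  classical
  have hex : ∃ n, ∃ Q : Subgroup X, Q ≤ Q0 ∧ C ≤ normalizer (Q : Set X) ∧ ¬ D ≤ centralizer (Q : Set X) ∧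
      Nat.card Q = n := ⟨_, Q0, le_rfl, hC, hne, rfl⟩
  obtain ⟨Q, hQ0, hQC, hQne, hQn⟩ := Nat.find_spec hex
  refine ⟨Q, hQ0, hDC, hCD, hQC, hQne, ?_⟩
  intro Y hYQ hY hYC
  by_contra hcon
  have h1 := Nat.find_min' hex ⟨Y, hYQ.trans hQ0, hYC, hcon, rfl⟩
  rw [← hQn] at h1
  exact hY (Subgroup.eq_of_le_of_card_ge hYQ h1)

section

variable {C D Q : Subgroup X} (h : MQ C D Q)
include h

theorem MQ.invD : D ≤ normalizer (Q : Set X) := h.DC.trans h.inv

theorem MQ.ne_bot : Q ≠ ⊥ := by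
  rintro rfl
  apply h.ne
  intro d _
  rw [mem_centralizer_iff]
  intro x hx
  rw [SetLike.mem_coe, mem_bot] at hx
  rw [hx, one_mul, mul_one]

theorem MQ.commutator_eq [Finite X] (hcop : (Nat.card D).Coprime (Nat.card Q)) (hs : Group.IsSolvable Q) :
    ⁅Q, D⁆ = Q := by
  by_contra hne
  have h1 : ⁅Q, D⁆ ≤ Q := commutator_le_left h.invD
  have h2 := h.min _ h1 hne (le_normalizer_commutator h.inv h.CD)
  have h3 : ⁅⁅Q, D⁆, D⁆ = ⊥ := by
    rw [commutator_eq_bot_iff_le_centralizer]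
    exact Subgroup.le_centralizer_iff.mp h2
  have h4 := commutator_eq_bot_of D Q h.invD hcop (Or.inr hs) h3
  apply h.ne
  rw [commutator_eq_bot_iff_le_centralizer] at h4
  exact Subgroup.le_centralizer_iff.mp h4

/-- a proper invariant subgroup lies in `C_Q(D)` -/
theorem MQ.le_of_ne {Y : Subgroup X} (hY : Y ≤ Q) (hne : Y ≠ Q) (hYC : C ≤ normalizer (Y : Set X)) :
    Y ≤ Q ⊓ centralizer (D : Set X) :=
  le_inf hY (Subgroup.le_centralizer_iff.mp (h.min Y hY hne hYC))

theorem MQ.inv_fix : C ≤ normalizer ((Q ⊓ centralizer (D : Set X) : Subgroup X) : Set X) :=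
  le_normalizer_inf h.inv (le_normalizer_centralizer h.CD)

theorem MQ.fix_ne : Q ⊓ centralizer (D : Set X) ≠ Q := by
  intro hcon
  apply h.ne
  rw [inf_eq_left] at hcon
  exact Subgroup.le_centralizer_iff.mp hcon

/-- abelian case -/
theorem MQ.abelian [Finite X] (hcop : (Nat.card D).Coprime (Nat.card Q))
    (hab : ∀ x ∈ Q, ∀ y ∈ Q, x * y = y * x) : Q ⊓ centralizer (D : Set X) = ⊥ := by
  have hs : Group.IsSolvable Q := by
    have hc : ∀ a b : Q, a * b = b * a := fun a b => Subtype.ext (hab a a.2 b b.2)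
    exact Group.isSolvable_of_comm hc
  have h1 := H66.CopAb.commutator_inf_centralizer D Q hab h.invD hcop
  rwa [h.commutator_eq hcop hs] at h1

/-- centralizing the derived group -/
theorem MQ.derived [Finite X] (hnil : Group.IsNilpotent Q) :
    ⁅Q, Q⁆ ≤ Q ⊓ centralizer (D : Set X) := by
  apply h.le_of_ne (commutator_le_left le_normalizer)
  · intro hcon
    have : Q = ⊥ := by
      by_contra hne
      have hQn : Nontrivial Q := (Subgroup.nontrivial_iff_ne_bot Q).mpr hne
      have hlt := commutator_lt_of_isNilpotent (X := Q) ⊤ top_ne_bot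
      apply hlt.ne
      apply Subgroup.map_injective Q.subtype_injective
      rw [Subgroup.map_commutator, ← MonoidHom.range_eq_map, Subgroup.range_subtype]
      exact hcon
    exact h.ne_bot this
  · exact le_normalizer_commutator h.inv h.inv

/-- nonabelian case: `C_Q(D) = Z(Q)` -/
theorem MQ.nonabelian [Finite X] (hcop : (Nat.card D).Coprime (Nat.card Q)) (hnil : Group.IsNilpotent Q)
    (hab : ¬ ∀ x ∈ Q, ∀ y ∈ Q, x * y = y * x) :
    Q ⊓ centralizer (D : Set X) = Q ⊓ centralizer (Q : Set X) := by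
  have hs : Group.IsSolvable Q := inferInstance
  have hQD := h.commutator_eq hcop hs
  apply le_antisymm
  · apply le_inf inf_le_left
    set F := Q ⊓ centralizer (D : Set X) with hF
    rw [← commutator_eq_bot_iff_le_centralizer]
    -- [D, Q, F] = 1 since [Q, F, D] = 1 = [F, D, Q]
    have h1 : ⁅⁅Q, F⁆, D⁆ = ⊥ := by
      have h2 : ⁅Q, F⁆ ≤ centralizer (D : Set X) :=
        ((commutator_mono le_rfl inf_le_left).trans (h.derived hnil)).trans inf_le_right
      rwa [commutator_eq_bot_iff_le_centralizer]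
    have h2 : ⁅⁅F, D⁆, Q⁆ = ⊥ := by
      have h3 : ⁅F, D⁆ = ⊥ := by
        rw [commutator_eq_bot_iff_le_centralizer]; exact inf_le_right
      rw [h3, commutator_bot_left]
    have h3 : ⁅⁅D, Q⁆, F⁆ = ⊥ := Subgroup.commutator_commutator_eq_bot_of_rotate h1 h2
    rw [commutator_comm D Q, hQD, commutator_comm] at h3
    exact h3
  · apply h.le_of_ne inf_le_left
    · intro hcon
      apply hab
      rw [inf_eq_left] at hcon
      intro x hx y hy
      exact (mem_centralizer_iff.mp (hcon hy) x hx)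
    · exact le_normalizer_inf h.inv (le_normalizer_centralizer h.inv)

/-- fixed cosets -/
theorem MQ.mem_of_coset [Finite X] (hcop : (Nat.card D).Coprime (Nat.card Q)) (hs : Group.IsSolvable Q)
    {N : Subgroup X} (hNQ : N ≤ Q) (hQN : Q ≤ normalizer (N : Set X)) (hND : D ≤ normalizer (N : Set X))
    (hfix : Q ⊓ centralizer (D : Set X) ≤ N) {x : X} (hx : x ∈ Q)
    (hxD : ∀ d ∈ D, d * x * d⁻¹ * x⁻¹ ∈ N) : x ∈ N := by
  obtain ⟨c, hc, hxc⟩ := exists_fixed_of_coset_fixed D Q h.invD hcop (Or.inr hs) N hNQ hQN hND x hx hxD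
  have h1 := hfix hc
  have h2 := N.mul_mem h1 (N.inv_mem hxc)
  rwa [mul_inv_rev, inv_inv, mul_inv_cancel_left] at h2

end

end H66.MinQ
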