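import Mathlib

/-!
The critical configuration: a group `E` of class at most 2 acting irreducibly with `Z` acting by scalars and
nondegenerate commutator form on `E / Z`, normalized by an element `g` acting fixed-point-freely on `E / Z`.
-/

set_option autoImplicit false

open scoped commutatorElement

namespace H66.Crit

variable {K V Γ : Type*} [Field K] [AddCommGroup V] [Module K V] [Group Γ]
  (ρ : Representation K Γ V)

/-- `Z ≤ E`, `Z` acts by scalars, `[E, E] ≤ Z`, and the commutator form is nondegenerate on `E / Z`. -/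
structure Data (E Z : Subgroup Γ) : Prop where
  le : Z ≤ E
  scal : ∀ z ∈ Z, ∃ c : K, ρ z = c • (1 : Module.End K V)
  comm : ∀ x ∈ E, ∀ y ∈ E, ⁅x, y⁆ ∈ Z
  nondeg : ∀ x ∈ E, (∀ y ∈ E, ρ ⁅x, y⁆ = 1) → x ∈ Z

variable {ρ}

theorem mul_inv_self (x : Γ) : (ρ x : Module.End K V) * ρ x⁻¹ = 1 := by
  rw [← map_mul, mul_inv_cancel, map_one]

theorem inv_mul_self (x : Γ) : (ρ x⁻¹ : Module.End K V) * ρ x = 1 := by
  rw [← map_mul, inv_mul_cancel, map_one]

theorem rho_ne_zero [Nontrivial V] (x : Γ) : (ρ x : Module.End K V) ≠ 0 := by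
  intro h
  have := mul_inv_self (ρ := ρ) x
  rw [h, zero_mul] at this
  exact zero_ne_one this

section P

variable (ρ) (E : Subgroup Γ) [Fintype E]

/-- averaging of an endomorphism over `E`. -/
def P (T : Module.End K V) : Module.End K V := ∑ y : E, ρ (y : Γ) * T * ρ (y : Γ)⁻¹

theorem P_add (T S : Module.End K V) : P ρ E (T + S) = P ρ E T + P ρ E S := by
  simp only [P, mul_add, add_mul, Finset.sum_add_distrib]

theorem P_smul (c : K) (T : Module.End K V) : P ρ E (c • T) = c • P ρ E T := by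
  simp only [P, mul_smul_comm, smul_mul_assoc, Finset.smul_sum]

theorem commute_P (T : Module.End K V) {x : Γ} (hx : x ∈ E) : ρ x * P ρ E T = P ρ E T * ρ x := by
  have h1 : ρ x * P ρ E T = ∑ y : E, ρ (x * y) * T * ρ (y : Γ)⁻¹ := by
    rw [P, Finset.mul_sum]
    apply Finset.sum_congr rfl
    intro y _
    rw [map_mul]; simp only [mul_assoc]
  have h2 : P ρ E T * ρ x = ∑ y : E, ρ (y : Γ) * T * ρ ((y : Γ)⁻¹ * x) := by
    rw [P, Finset.sum_mul]
    apply Finset.sum_congr rfl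
    intro y _
    rw [map_mul]; simp only [mul_assoc]
  rw [h1, h2]
  refine Fintype.sum_equiv (Equiv.mulLeft (⟨x, hx⟩ : E)) _ _ ?_
  intro y
  simp only [Equiv.coe_mulLeft, Subgroup.coe_mul]
  congr 2
  group

theorem P_conj (T : Module.End K V) {g : Γ} (hg : g ∈ Subgroup.normalizer (E : Set Γ)) :
    P ρ E (ρ g * T * ρ g⁻¹) = ρ g * P ρ E T * ρ g⁻¹ := by
  have h1 : ρ g * P ρ E T * ρ g⁻¹ = ∑ y : E, ρ (g * y) * T * ρ ((y : Γ)⁻¹ * g⁻¹) := by
    rw [P, Finset.mul_sum, Finset.sum_mul]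
    apply Finset.sum_congr rfl
    intro y _
    rw [map_mul, map_mul]; simp only [mul_assoc]
  have h2 : P ρ E (ρ g * T * ρ g⁻¹) = ∑ y : E, ρ (y * g) * T * ρ (g⁻¹ * (y : Γ)⁻¹) := by
    rw [P]
    apply Finset.sum_congr rfl
    intro y _
    rw [map_mul, map_mul]; simp only [mul_assoc]
  rw [h1, h2]
  let e : E ≃ E :=
    { toFun := fun y => ⟨g * y * g⁻¹, (Subgroup.mem_normalizer_iff.mp hg y).mp y.2⟩
      invFun := fun y => ⟨g⁻¹ * y * g, by
        have := (Subgroup.mem_normalizer_iff''.mp hg y).mp y.2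
        exact this⟩
      left_inv := by intro y; ext; simp [mul_assoc]
      right_inv := by intro y; ext; simp [mul_assoc] }
  symm
  refine Fintype.sum_equiv e _ _ ?_
  intro y
  simp only [e, Equiv.coe_fn_mk]
  have e1 : g * (y : Γ) * g⁻¹ * g = g * y := by group
  have e2 : g⁻¹ * (g * (y : Γ) * g⁻¹)⁻¹ = (y : Γ)⁻¹ * g⁻¹ := by group
  rw [e1, e2]

end P

section data

variable {E Z : Subgroup Γ} (D : Data ρ E Z) [Fintype E]

include D

theorem Data.central {z : Γ} (hz : z ∈ Z) (T : Module.End K V) : ρ z * T = T * ρ z := by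
  obtain ⟨c, hc⟩ := D.scal z hz
  rw [hc, smul_mul_assoc, mul_smul_comm, one_mul, mul_one]

theorem Data.conj_eq {x y : Γ} : (ρ y * ρ x * ρ y⁻¹ : Module.End K V) = ρ ⁅y, x⁆ * ρ x := by
  rw [← map_mul, ← map_mul, ← map_mul, commutatorElement_def]
  congr 1; group

theorem Data.comm_mul_left {x y w : Γ} (hx : x ∈ E) (hw : w ∈ E) :
    (ρ ⁅y * w, x⁆ : Module.End K V) = ρ ⁅y, x⁆ * ρ ⁅w, x⁆ := by
  have h1 : ⁅y * w, x⁆ = (y * ⁅w, x⁆ * y⁻¹) * ⁅y, x⁆ := by
    rw [commutatorElement_def, commutatorElement_def, commutatorElement_def]; group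
  rw [h1, map_mul, map_mul, map_mul, ← D.central (D.comm w hw x hx), mul_assoc (ρ ⁅w, x⁆),
    mul_inv_self, mul_one, D.central (D.comm w hw x hx)]

theorem Data.sum_zero {x : Γ} (hx : x ∈ E) (hxZ : x ∉ Z) :
    ∑ y : E, (ρ ⁅(y : Γ), x⁆ : Module.End K V) = 0 := by
  have h1 : ∃ y₀ ∈ E, ρ ⁅y₀, x⁆ ≠ 1 := by
    by_contra hcon
    push Not at hcon
    apply hxZ
    apply D.nondeg x hx
    intro y hy
    have h2 := hcon y hy
    have h3 : ⁅x, y⁆ = ⁅y, x⁆⁻¹ := (commutatorElement_inv y x).symm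
    rw [h3]
    have h4 := inv_mul_self (ρ := ρ) ⁅y, x⁆
    rw [h2, mul_one] at h4
    exact h4
  obtain ⟨y₀, hy₀, hne⟩ := h1
  have h2 : (ρ ⁅y₀, x⁆ : Module.End K V) * ∑ y : E, ρ ⁅(y : Γ), x⁆ = ∑ y : E, ρ ⁅(y : Γ), x⁆ := by
    rw [Finset.mul_sum]
    refine Fintype.sum_equiv (Equiv.mulLeft (⟨y₀, hy₀⟩ : E)) _ _ ?_
    intro y
    simp only [Equiv.coe_mulLeft, Subgroup.coe_mul]
    rw [D.comm_mul_left hx y.2]
  obtain ⟨c, hc⟩ := D.scal _ (D.comm y₀ hy₀ x hx)
  rw [hc, smul_mul_assoc, one_mul] at h2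
  have hc1 : c ≠ 1 := by
    rintro rfl
    apply hne
    rw [hc, one_smul]
  have h3 : (c - 1) • ∑ y : E, (ρ ⁅(y : Γ), x⁆ : Module.End K V) = 0 := by
    rw [sub_smul, one_smul, h2, sub_self]
  exact (smul_eq_zero.mp h3).resolve_left (sub_ne_zero.mpr hc1)

theorem Data.P_of_notMem {x : Γ} (hx : x ∈ E) (hxZ : x ∉ Z) : P ρ E (ρ x) = 0 := by
  rw [P]
  have h1 : ∀ y : E, (ρ (y : Γ) * ρ x * ρ (y : Γ)⁻¹ : Module.End K V) = ρ ⁅(y : Γ), x⁆ * ρ x :=
    fun y => D.conj_eq
  rw [Finset.sum_congr rfl (fun y _ => h1 y), ← Finset.sum_mul, D.sum_zero hx hxZ, zero_mul]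

theorem Data.P_of_mem {x : Γ} (hxZ : x ∈ Z) : P ρ E (ρ x) = (Fintype.card E : K) • ρ x := by
  rw [P]
  have h1 : ∀ y : E, (ρ (y : Γ) * ρ x * ρ (y : Γ)⁻¹ : Module.End K V) = ρ x := by
    intro y
    rw [← D.central hxZ, mul_assoc, mul_inv_self, mul_one]
  rw [Finset.sum_congr rfl (fun y _ => h1 y), Finset.sum_const, Finset.card_univ]
  rw [← Nat.cast_smul_eq_nsmul K]

end data

/-- irreducibility of `V` under `E`. -/
def Irr (ρ : Representation K Γ V) (E : Subgroup Γ) : Prop :=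
  ∀ W : Submodule K V, (∀ x ∈ E, ∀ v ∈ W, ρ x v ∈ W) → W = ⊥ ∨ W = ⊤

theorem schur [IsAlgClosed K] [FiniteDimensional K V] [Nontrivial V] {E : Subgroup Γ}
    (hirr : Irr ρ E) (T : Module.End K V) (hT : ∀ x ∈ E, ρ x * T = T * ρ x) :
    ∃ c : K, T = c • (1 : Module.End K V) := by
  obtain ⟨c, hc⟩ := Module.End.exists_eigenvalue T
  refine ⟨c, ?_⟩
  rcases hirr (Module.End.eigenspace T c) (by
    intro x hx v hv
    rw [Module.End.mem_eigenspace_iff] at hv ⊢
    have h1 := LinearMap.congr_fun (hT x hx) v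
    rw [Module.End.mul_apply, Module.End.mul_apply, hv, map_smul] at h1
    exact h1.symm) with h | h
  · exact absurd h hc
  · ext v
    have : v ∈ Module.End.eigenspace T c := by rw [h]; trivial
    rw [Module.End.mem_eigenspace_iff] at this
    rw [this]; simp

section expand

variable {E Z : Subgroup Γ} (D : Data ρ E Z) [Fintype E] [Fintype Z]

include D

/-- expansion of an endomorphism in terms of `ρ w`, `w ∈ E`. -/
theorem Data.expand (T : Module.End K V) :
    ∑ w : E, P ρ E (T * ρ (w : Γ)⁻¹) * ρ (w : Γ) = ((Fintype.card E : K) * Fintype.card Z) • T := by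
  classical
  have h1 : ∑ w : E, P ρ E (T * ρ (w : Γ)⁻¹) * ρ (w : Γ) =
      ∑ y : E, ρ (y : Γ) * T * ρ (y : Γ)⁻¹ * ∑ w : E, ρ ⁅(w : Γ), ((y : Γ))⁆⁻¹ := by
    simp only [P, Finset.sum_mul]
    rw [Finset.sum_comm]
    apply Finset.sum_congr rfl
    intro y _
    rw [Finset.mul_sum]
    -- reindex w ↦ w⁻¹
    rw [← Equiv.sum_comp (Equiv.inv E)]
    apply Finset.sum_congr rfl
    intro w _
    simp only [Equiv.inv_apply, Subgroup.coe_inv, inv_inv]
    simp only [mul_assoc]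
    congr 1
    congr 1
    rw [← map_mul, ← map_mul, ← map_mul]
    congr 1
    rw [commutatorElement_def]
    group
  rw [h1]
  have h2 : ∀ y : E, (∑ w : E, (ρ ⁅(w : Γ), (y : Γ)⁆⁻¹ : Module.End K V)) =
      if (y : Γ) ∈ Z then (Fintype.card E : K) • 1 else 0 := by
    intro y
    split_ifs with hy
    · have h3 : ∀ w : E, (ρ ⁅(w : Γ), (y : Γ)⁆⁻¹ : Module.End K V) = 1 := by
        intro w
        have h4 : (ρ ⁅(w : Γ), (y : Γ)⁆ : Module.End K V) = 1 := by
          rw [commutatorElement_def, map_mul, map_mul, map_mul, ← D.central hy, mul_assoc (ρ (y : Γ)),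
            mul_inv_self, mul_one, mul_inv_self]
        have h5 := inv_mul_self (ρ := ρ) ⁅(w : Γ), (y : Γ)⁆
        rw [h4, mul_one] at h5
        exact h5
      rw [Finset.sum_congr rfl (fun w _ => h3 w), Finset.sum_const, Finset.card_univ,
        ← Nat.cast_smul_eq_nsmul K]
    · have h3 := D.sum_zero y.2 hy
      have h4 : ∀ w : E, (ρ ⁅(w : Γ), (y : Γ)⁆⁻¹ : Module.End K V) = ρ ⁅((w⁻¹ : E) : Γ), (y : Γ)⁆ := by
        intro w
        have h5 := D.comm_mul_left (y := ((w⁻¹ : E) : Γ)) y.2 w.2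
        have h6 : ((w⁻¹ : E) : Γ) * w = 1 := by simp
        rw [h6, commutatorElement_one_left, map_one] at h5
        have h7 := mul_inv_self (ρ := ρ) ⁅(w : Γ), (y : Γ)⁆
        calc (ρ ⁅(w : Γ), (y : Γ)⁆⁻¹ : Module.End K V) = 1 * ρ ⁅(w : Γ), (y : Γ)⁆⁻¹ := by rw [one_mul]
          _ = ρ ⁅((w⁻¹ : E) : Γ), (y : Γ)⁆ * ρ ⁅(w : Γ), (y : Γ)⁆ * ρ ⁅(w : Γ), (y : Γ)⁆⁻¹ := by rw [← h5]
          _ = _ := by rw [mul_assoc, h7, mul_one]
      rw [Finset.sum_congr rfl (fun w _ => h4 w)]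
      rw [← h3]
      exact Equiv.sum_comp (Equiv.inv E) (fun w : E => (ρ ⁅(w : Γ), (y : Γ)⁆ : Module.End K V))
  have h3 : ∀ y : E, (ρ (y : Γ) * T * ρ (y : Γ)⁻¹ * ∑ w : E, ρ ⁅(w : Γ), ((y : Γ))⁆⁻¹ : Module.End K V) =
      if (y : Γ) ∈ Z then (Fintype.card E : K) • T else 0 := by
    intro y
    rw [h2 y]
    split_ifs with hy
    · rw [mul_smul_comm, mul_one, D.central hy, mul_assoc, mul_inv_self, mul_one]
    · rw [mul_zero]
  rw [Finset.sum_congr rfl (fun y _ => h3 y), ← Finset.sum_filter, Finset.sum_const]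
  have h4 : (Finset.univ.filter (fun y : E => (y : Γ) ∈ Z)).card = Fintype.card Z := by
    rw [← Fintype.card_subtype]
    apply Fintype.card_congr
    exact
      { toFun := fun y => ⟨y.1, y.2⟩
        invFun := fun z => ⟨⟨z, D.le z.2⟩, z.2⟩
        left_inv := fun _ => rfl
        right_inv := fun _ => rfl }
  rw [h4, ← Nat.cast_smul_eq_nsmul K, smul_smul, mul_comm]

end expand

section g

variable {E Z : Subgroup Γ} (D : Data ρ E Z) [Fintype E] [Fintype Z]

include D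

/-- `Z` is also normalized by the normalizer of `E`. -/
theorem Data.conj_mem_Z {g : Γ} (hg : g ∈ Subgroup.normalizer (E : Set Γ)) {x : Γ} (hx : x ∈ Z) :
    g * x * g⁻¹ ∈ Z := by
  apply D.nondeg _ ((Subgroup.mem_normalizer_iff.mp hg x).mp (D.le hx))
  intro y hy
  have h1 : (ρ (g * x * g⁻¹) : Module.End K V) = ρ x := by
    rw [map_mul, map_mul, ← D.central hx, mul_assoc, mul_inv_self, mul_one]
  have h2 : (ρ (g * x * g⁻¹)⁻¹ : Module.End K V) = ρ x⁻¹ := by
    calc (ρ (g * x * g⁻¹)⁻¹ : Module.End K V) = ρ (g * x * g⁻¹)⁻¹ * (ρ x * ρ x⁻¹) := by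
          rw [mul_inv_self, mul_one]
      _ = ρ (g * x * g⁻¹)⁻¹ * ρ (g * x * g⁻¹) * ρ x⁻¹ := by rw [h1]; exact (mul_assoc _ _ _).symm
      _ = ρ x⁻¹ := by rw [inv_mul_self, one_mul]
  rw [commutatorElement_def, map_mul, map_mul, map_mul, h1, h2, D.central hx, mul_assoc (ρ y),
    mul_inv_self, mul_one, mul_inv_self]

/-- If `V` is irreducible under `E` and `g`, and `g` acts fixed-point-freely on `E / Z`, then `V` is
irreducible under `E`. -/
theorem Data.irr_of_irr [IsAlgClosed K] [FiniteDimensional K V] [Nontrivial V] {g : Γ}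
    (hg : g ∈ Subgroup.normalizer (E : Set Γ)) (hE : (Fintype.card E : K) ≠ 0)
    (hZ : (Fintype.card Z : K) ≠ 0)
    (hfix : ∀ x ∈ E, ⁅x, g⁆ ∈ Z → x ∈ Z) (hfin : IsOfFinOrder g)
    (hirr : ∀ W : Submodule K V, (∀ x ∈ E, ∀ v ∈ W, ρ x v ∈ W) → (∀ v ∈ W, ρ g v ∈ W) →
      W = ⊥ ∨ W = ⊤) : Irr ρ E := by
  classical
  -- the element c = ∑ ρ (x g x⁻¹)
  set c : Module.End K V := ∑ x : E, ρ (x * g * (x : Γ)⁻¹) with hc
  have hcP : c = P ρ E (ρ g) := by
    rw [hc, P]
    apply Finset.sum_congr rfl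
    intro x _
    rw [map_mul, map_mul]
  have hcE : ∀ x ∈ E, ρ x * c = c * ρ x := by
    intro x hx
    rw [hcP]; exact commute_P ρ E _ hx
  have hcg : ρ g * c * ρ g⁻¹ = c := by
    rw [hcP, ← P_conj ρ E _ hg]
    congr 1
    rw [mul_assoc, mul_inv_self, mul_one]
  have hcg' : ρ g * c = c * ρ g := by
    calc ρ g * c = ρ g * c * (ρ g⁻¹ * ρ g) := by rw [inv_mul_self, mul_one]
      _ = (ρ g * c * ρ g⁻¹) * ρ g := by simp only [mul_assoc]
      _ = c * ρ g := by rw [hcg]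
  -- c is a scalar
  obtain ⟨s, hs⟩ := Module.End.exists_eigenvalue c
  have hsc : c = s • (1 : Module.End K V) := by
    rcases hirr (Module.End.eigenspace c s) (by
      intro x hx v hv
      rw [Module.End.mem_eigenspace_iff] at hv ⊢
      have h1 := LinearMap.congr_fun (hcE x hx) v
      rw [Module.End.mul_apply, Module.End.mul_apply, hv, map_smul] at h1
      exact h1.symm) (by
      intro v hv
      rw [Module.End.mem_eigenspace_iff] at hv ⊢
      have h1 := LinearMap.congr_fun hcg' v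
      rw [Module.End.mul_apply, Module.End.mul_apply, hv, map_smul] at h1
      exact h1.symm) with h | h
    · exact absurd h hs
    · ext v
      have : v ∈ Module.End.eigenspace c s := by rw [h]; trivial
      rw [Module.End.mem_eigenspace_iff] at this
      rw [this]; simp
  -- the element b
  set b : Module.End K V := ∑ x : E, ρ ⁅(x : Γ), g⁆ with hb
  have hbc : b * ρ g = c := by
    rw [hb, hc, Finset.sum_mul]
    apply Finset.sum_congr rfl
    intro x _
    rw [← map_mul]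
    congr 1
    rw [commutatorElement_def]; group
  have hmemE : ∀ x ∈ E, ⁅x, g⁆ ∈ E := by
    intro x hx
    have h1 := (Subgroup.mem_normalizer_iff.mp hg x⁻¹).mp (E.inv_mem hx)
    have h2 := E.mul_mem hx h1
    have h3 : ⁅x, g⁆ = x * (g * x⁻¹ * g⁻¹) := by rw [commutatorElement_def]; group
    rw [h3]; exact h2
  have hPb : P ρ E b = ((Fintype.card E : K) * Fintype.card Z) • 1 := by
    have h1 : P ρ E b = ∑ x : E, P ρ E (ρ ⁅(x : Γ), g⁆) := by
      rw [hb]
      simp only [P, Finset.mul_sum, Finset.sum_mul]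
      rw [Finset.sum_comm]
    have h2 : ∀ x : E, P ρ E (ρ ⁅(x : Γ), g⁆) = if (x : Γ) ∈ Z then (Fintype.card E : K) • 1 else 0 := by
      intro x
      split_ifs with hx
      · have h3 : (ρ ⁅(x : Γ), g⁆ : Module.End K V) = 1 := by
          rw [commutatorElement_def, map_mul, map_mul, map_mul, D.central hx, mul_assoc (ρ g),
            mul_inv_self, mul_one, mul_inv_self]
        rw [h3, P]
        have h4 : ∀ y : E, (ρ (y : Γ) * 1 * ρ (y : Γ)⁻¹ : Module.End K V) = 1 := by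
          intro y; rw [mul_one, mul_inv_self]
        rw [Finset.sum_congr rfl (fun y _ => h4 y), Finset.sum_const, Finset.card_univ,
          ← Nat.cast_smul_eq_nsmul K]
      · exact D.P_of_notMem (hmemE x x.2) (fun h => hx (hfix x x.2 h))
    rw [h1, Finset.sum_congr rfl (fun x _ => h2 x), ← Finset.sum_filter, Finset.sum_const]
    have h4 : (Finset.univ.filter (fun y : E => (y : Γ) ∈ Z)).card = Fintype.card Z := by
      rw [← Fintype.card_subtype]
      apply Fintype.card_congr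
      exact
        { toFun := fun y => ⟨y.1, y.2⟩
          invFun := fun z => ⟨⟨z, D.le z.2⟩, z.2⟩
          left_inv := fun _ => rfl
          right_inv := fun _ => rfl }
    rw [h4, ← Nat.cast_smul_eq_nsmul K, smul_smul, mul_comm]
  have hb0 : b ≠ 0 := by
    intro h
    rw [h] at hPb
    have h1 : P ρ E (0 : Module.End K V) = 0 := by simp [P]
    rw [h1] at hPb
    have h2 := (smul_eq_zero.mp hPb.symm).resolve_right one_ne_zero
    exact (mul_ne_zero hE hZ) h2
  have hs0 : s ≠ 0 := by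
    rintro rfl
    rw [zero_smul] at hsc
    apply hb0
    calc b = b * (ρ g * ρ g⁻¹) := by rw [mul_inv_self, mul_one]
      _ = (b * ρ g) * ρ g⁻¹ := by rw [mul_assoc]
      _ = 0 := by rw [hbc, hsc, zero_mul]
  -- so ρ g⁻¹ = s⁻¹ b
  have hginv : (ρ g⁻¹ : Module.End K V) = s⁻¹ • b := by
    have h1 : b = s • ρ g⁻¹ := by
      calc b = b * (ρ g * ρ g⁻¹) := by rw [mul_inv_self, mul_one]
        _ = (b * ρ g) * ρ g⁻¹ := by rw [mul_assoc]
        _ = s • ρ g⁻¹ := by rw [hbc, hsc, smul_mul_assoc, one_mul]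
    rw [h1, smul_smul, inv_mul_cancel₀ hs0, one_smul]
  intro W hW
  apply hirr W hW
  -- W is invariant under ρ g⁻¹, hence under ρ g
  have h1 : ∀ v ∈ W, ρ g⁻¹ v ∈ W := by
    intro v hv
    rw [hginv, LinearMap.smul_apply, hb, LinearMap.sum_apply]
    apply W.smul_mem
    apply W.sum_mem
    intro x _
    exact hW _ (hmemE x x.2) v hv
  obtain ⟨n, hn0, hn⟩ := isOfFinOrder_iff_pow_eq_one.mp hfin
  have h2 : ∀ k : ℕ, ∀ v ∈ W, ρ (g⁻¹ ^ k) v ∈ W := by
    intro k
    induction k with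
    | zero => intro v hv; simpa using hv
    | succ k ih =>
      intro v hv
      rw [pow_succ, map_mul, Module.End.mul_apply]
      exact ih _ (h1 v hv)
  intro v hv
  have h3 : g = g⁻¹ ^ (n - 1) := by
    have h4 : g⁻¹ ^ (n - 1) * g⁻¹ = 1 := by
      rw [← pow_succ, Nat.sub_add_cancel hn0, inv_pow, hn, inv_one]
    exact (mul_inv_eq_one.mp h4).symm
  rw [h3]
  exact h2 _ v hv

end g

end H66.Crit
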