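import Mathlib

/-!
Eigenbases of operators of finite order prime to the characteristic and lower bounds for the dimension of
centralizers.
-/

set_option autoImplicit false

open Module

namespace H66.EigB

variable {K V : Type*} [Field K] [AddCommGroup V] [Module K V]

/-- the centralizer of an endomorphism -/
def C (f : Module.End K V) : Submodule K (Module.End K V) where
  carrier := {T | f * T = T * f}
  zero_mem' := by simp
  add_mem' := by
    intro a b ha hb
    change f * (a + b) = (a + b) * f
    rw [mul_add, add_mul, ha, hb]
  smul_mem' := by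
    intro c a ha
    change f * (c • a) = (c • a) * f
    rw [mul_smul_comm, smul_mul_assoc, ha]

theorem mem_C {f T : Module.End K V} : T ∈ C f ↔ f * T = T * f := Iff.rfl

theorem isSemisimple_of_pow_eq_one [FiniteDimensional K V] (f : Module.End K V) {M : ℕ} (hM : (M : K) ≠ 0)
    (hf : f ^ M = 1) : f.IsSemisimple := by
  have h1 : (Polynomial.X ^ M - 1 : Polynomial K).Separable :=
    Polynomial.X_pow_sub_one_separable_iff.mpr hM
  apply Module.End.isSemisimple_of_squarefree_aeval_eq_zero h1.squarefree
  rw [map_sub, map_pow, Polynomial.aeval_X, map_one, hf, sub_self]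

theorem iSup_eigenspace [IsAlgClosed K] [FiniteDimensional K V] (f : Module.End K V) {M : ℕ}
    (hM : (M : K) ≠ 0) (hf : f ^ M = 1) : ⨆ μ : K, f.eigenspace μ = ⊤ :=
  (isSemisimple_of_pow_eq_one f hM hf).iSup_eigenspace_eq_top

theorem exists_eigenbasis [IsAlgClosed K] [FiniteDimensional K V] (f : Module.End K V) {M : ℕ}
    (hM : (M : K) ≠ 0) (hf : f ^ M = 1) : ∃ (b : Basis (Fin (finrank K V)) K V)
      (ε : Fin (finrank K V) → K), ∀ j, f (b j) = ε j • b j := by
  classical
  have hint : DirectSum.IsInternal f.eigenspace :=
    DirectSum.isInternal_submodule_of_iSupIndep_of_iSup_eq_top f.eigenspaces_iSupIndep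
      (iSup_eigenspace f hM hf)
  let B := hint.collectedBasis (fun μ => Module.finBasis K (f.eigenspace μ))
  let e := B.indexEquiv (Module.finBasis K V)
  refine ⟨B.reindex e, fun j => (e.symm j).1, ?_⟩
  intro j
  rw [Basis.reindex_apply]
  have := hint.collectedBasis_mem (fun μ => Module.finBasis K (f.eigenspace μ)) (e.symm j)
  rwa [Module.End.mem_eigenspace_iff] at this

/-- number of pairs with equal eigenvalue -/
theorem card_pairs_le [FiniteDimensional K V] {n : ℕ} (f : Module.End K V) (b : Basis (Fin n) K V)
    (ε : Fin n → K) (hb : ∀ j, f (b j) = ε j • b j) [DecidableEq K] :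
    Fintype.card {x : Fin n × Fin n // ε x.1 = ε x.2} ≤ finrank K (C f) := by
  classical
  let B : Basis (Fin n × Fin n) K (Module.End K V) := (Matrix.stdBasis K (Fin n) (Fin n)).map (Matrix.toLin b b)
  have hB : ∀ i j k, B (i, j) (b k) = if j = k then b i else 0 := by
    intro i j k
    have h1 : B (i, j) = Matrix.toLin b b (Matrix.single i j 1) := by
      rw [Basis.map_apply, Matrix.stdBasis_eq_single]
    rw [h1, Matrix.toLin_self]
    split_ifs with h
    · subst h
      rw [Finset.sum_eq_single i]
      · simp [Matrix.single]
      · intro l _ hl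
        simp [Matrix.single, hl.symm]
      · intro h; exact absurd (Finset.mem_univ i) h
    · apply Finset.sum_eq_zero
      intro l _
      simp [Matrix.single, h]
  have hmem : ∀ x : {x : Fin n × Fin n // ε x.1 = ε x.2}, B x.1 ∈ C f := by
    rintro ⟨⟨i, j⟩, hij⟩
    rw [mem_C]
    apply b.ext
    intro k
    rw [Module.End.mul_apply, Module.End.mul_apply, hb, map_smul, hB]
    split_ifs with h
    · subst h
      rw [hb]
      exact congrArg (· • b i) hij
    · rw [map_zero, smul_zero]
  let u : {x : Fin n × Fin n // ε x.1 = ε x.2} → C f := fun x => ⟨B x.1, hmem x⟩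
  have hu : LinearIndependent K u := by
    apply LinearIndependent.of_comp (C f).subtype
    exact B.linearIndependent.comp Subtype.val Subtype.val_injective
  exact hu.fintype_card_le_finrank

theorem sq_le_card_pairs {α β : Type*} [Fintype α] [DecidableEq β] (ε : α → β) (S : Finset β)
    (hS : ∀ j, ε j ∈ S) :
    Fintype.card α ^ 2 ≤ S.card * Fintype.card {x : α × α // ε x.1 = ε x.2} := by
  classical
  have h1 : Fintype.card α = ∑ s ∈ S, (Finset.univ.filter (fun j => ε j = s)).card := by
    rw [← Finset.card_univ]
    exact Finset.card_eq_sum_card_fiberwise (fun j _ => hS j)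
  have h2 : Fintype.card {x : α × α // ε x.1 = ε x.2} =
      ∑ s ∈ S, (Finset.univ.filter (fun j => ε j = s)).card ^ 2 := by
    rw [Fintype.card_subtype]
    rw [Finset.card_eq_sum_card_fiberwise (f := fun x : α × α => ε x.1) (t := S)
      (fun x _ => hS x.1)]
    apply Finset.sum_congr rfl
    intro s _
    rw [sq, ← Finset.card_product]
    congr 1
    ext ⟨i, j⟩
    simp only [Finset.mem_filter, Finset.mem_univ, true_and, Finset.mem_product]
    constructor
    · rintro ⟨h, h'⟩; exact ⟨h', by rw [← h, h']⟩
    · rintro ⟨h, h'⟩; exact ⟨by rw [h, h'], h⟩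
  rw [h1, h2]
  exact sq_sum_le_card_mul_sum_sq

/-- the set of possible eigenvalues different from `1` -/
theorem card_nthRoots_erase [DecidableEq K] (M : ℕ) (hM : 0 < M) :
    ((Polynomial.nthRootsFinset M (1 : K)).erase 1).card ≤ M - 1 := by
  have h1 : (1 : K) ∈ Polynomial.nthRootsFinset M (1 : K) := by
    rw [Polynomial.mem_nthRootsFinset hM]; simp
  rw [Finset.card_erase_of_mem h1]
  have h2 : (Polynomial.nthRootsFinset M (1 : K)).card ≤ M := by
    have h3 := (Multiset.toFinset_card_le (Polynomial.nthRoots M (1 : K))).trans (Polynomial.card_nthRoots M 1)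
    have h4 : (Polynomial.nthRootsFinset M (1 : K)).card = (Polynomial.nthRoots M (1 : K)).toFinset.card := by
      unfold Polynomial.nthRootsFinset
      congr
      exact Subsingleton.elim _ _
    rw [h4]; exact h3
  omega

theorem eigenvalue_mem [DecidableEq K] (f : Module.End K V) {M : ℕ} (hM0 : 0 < M) (hf : f ^ M = 1)
    (hfix : ∀ v, f v = v → v = 0) {v : V} (hv : v ≠ 0) {c : K} (hc : f v = c • v) :
    c ∈ (Polynomial.nthRootsFinset M (1 : K)).erase 1 := by
  rw [Finset.mem_erase, Polynomial.mem_nthRootsFinset hM0]
  constructor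
  · rintro rfl
    rw [one_smul] at hc
    exact hv (hfix v hc)
  · have h1 : ∀ k : ℕ, (f ^ k) v = c ^ k • v := by
      intro k
      induction k with
      | zero => simp
      | succ k ih => rw [pow_succ, Module.End.mul_apply, hc, map_smul, ih, smul_smul, pow_succ, mul_comm]
    have h2 := h1 M
    rw [hf, Module.End.one_apply] at h2
    have h3 : (c ^ M - 1) • v = 0 := by rw [sub_smul, one_smul, ← h2, sub_self]
    exact sub_eq_zero.mp ((smul_eq_zero.mp h3).resolve_right hv)

/-- An operator of order `M` without nonzero fixed vectors has centralizer of dimension at least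
`N² / (M - 1)`. -/
theorem sq_finrank_le [IsAlgClosed K] [FiniteDimensional K V] (f : Module.End K V) {M : ℕ}
    (hM : (M : K) ≠ 0) (hf : f ^ M = 1) (hfix : ∀ v, f v = v → v = 0) :
    finrank K V ^ 2 ≤ (M - 1) * finrank K (C f) := by
  classical
  have hM0 : 0 < M := Nat.pos_of_ne_zero (by rintro rfl; simp at hM)
  obtain ⟨b, ε, hb⟩ := exists_eigenbasis f hM hf
  have h1 := sq_le_card_pairs ε _ (fun j => eigenvalue_mem f hM0 hf hfix (b.ne_zero j) (hb j))
  rw [Fintype.card_fin] at h1
  refine h1.trans (Nat.mul_le_mul (card_nthRoots_erase M hM0) (card_pairs_le f b ε hb))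

/-- If the centralizer of `f` has dimension at most `dim V`, the eigenvalues are distinct. -/
theorem injective_of_finrank_le [FiniteDimensional K V] {n : ℕ} (f : Module.End K V) (b : Basis (Fin n) K V)
    (ε : Fin n → K) (hb : ∀ j, f (b j) = ε j • b j) (h : finrank K (C f) ≤ n) :
    Function.Injective ε := by
  classical
  have h1 := (card_pairs_le f b ε hb).trans h
  intro i j hij
  by_contra hne
  -- the diagonal together with (i, j) gives n + 1 elements
  let u : Option (Fin n) → {x : Fin n × Fin n // ε x.1 = ε x.2} := fun o =>
    match o with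
    | none => ⟨(i, j), hij⟩
    | some k => ⟨(k, k), rfl⟩
  have hu : Function.Injective u := by
    intro a c hac
    match a, c with
    | none, none => rfl
    | none, some k =>
      have := congrArg Subtype.val hac
      simp only [u, Prod.mk.injEq] at this
      exact absurd (this.1.trans this.2.symm) hne
    | some k, none =>
      have := congrArg Subtype.val hac
      simp only [u, Prod.mk.injEq] at this
      exact absurd (this.1.symm.trans this.2) hne
    | some k, some l =>
      have := congrArg Subtype.val hac
      simp only [u, Prod.mk.injEq] at this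
      rw [this.1]
  have h2 := Fintype.card_le_of_injective u hu
  rw [Fintype.card_option, Fintype.card_fin] at h2
  omega

/-- If `f` has distinct eigenvalues, everything commuting with `f` has the same eigenbasis. -/
theorem diag_of_commute {n : ℕ} (f : Module.End K V) (b : Basis (Fin n) K V)
    (ε : Fin n → K) (hb : ∀ j, f (b j) = ε j • b j) (hinj : Function.Injective ε)
    (g : Module.End K V) (hg : f * g = g * f) : ∃ δ : Fin n → K, ∀ j, g (b j) = δ j • b j := by
  classical
  refine ⟨fun j => b.repr (g (b j)) j, ?_⟩
  intro j
  have h1 : ∀ k, k ≠ j → b.repr (g (b j)) k = 0 := by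
    intro k hk
    have h2 : f (g (b j)) = ε j • g (b j) := by
      have := LinearMap.congr_fun hg (b j)
      rw [Module.End.mul_apply, Module.End.mul_apply, hb, map_smul] at this
      exact this
    have h3 : b.repr (f (g (b j))) k = ε k * b.repr (g (b j)) k := by
      conv_lhs => rw [← b.sum_repr (g (b j))]
      rw [map_sum, map_sum]
      simp only [map_smul, hb, Finsupp.coe_finsetSum, Finset.sum_apply, Finsupp.smul_apply, Basis.repr_self,
        smul_eq_mul]
      rw [Finset.sum_eq_single k]
      · rw [Finsupp.single_eq_same]; ring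
      · intro l _ hl
        rw [Finsupp.single_eq_of_ne hl.symm]; ring
      · intro h; exact absurd (Finset.mem_univ k) h
    rw [h2, map_smul, Finsupp.smul_apply, smul_eq_mul] at h3
    have h4 : (ε j - ε k) * b.repr (g (b j)) k = 0 := by rw [sub_mul, h3, sub_self]
    exact (mul_eq_zero.mp h4).resolve_left (sub_ne_zero.mpr (fun h => hk (hinj h).symm))
  conv_lhs => rw [← b.sum_repr (g (b j))]
  rw [Finset.sum_eq_single j]
  · intro k _ hk
    rw [h1 k hk, zero_smul]
  · intro h; exact absurd (Finset.mem_univ j) h

/-- Diagonal operators have centralizer of dimension at least `dim V`. -/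
theorem le_finrank_of_diag [FiniteDimensional K V] {n : ℕ} (f : Module.End K V) (b : Basis (Fin n) K V)
    (ε : Fin n → K) (hb : ∀ j, f (b j) = ε j • b j) : n ≤ finrank K (C f) := by
  classical
  refine le_trans ?_ (card_pairs_le f b ε hb)
  have : Function.Injective (fun k : Fin n => (⟨(k, k), rfl⟩ : {x : Fin n × Fin n // ε x.1 = ε x.2})) := by
    intro a c hac
    have := congrArg Subtype.val hac
    simp only [Prod.mk.injEq] at this
    exact this.1
  have h2 := Fintype.card_le_of_injective _ this
  rwa [Fintype.card_fin] at h2

end H66.EigB
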