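import Cfsg.Agent.Lib.H66.Crit
import Cfsg.Agent.Lib.H66.EigB

/-!
Dimension formulas for critical configurations: `(dim V)² |Z| = |E|` and the bound for the dimension of the
centralizer of an element `g` normalizing `E`, in terms of the orbits of `g` on `E / Z`.
-/

set_option autoImplicit false

open scoped commutatorElement
open Module H66.EigB

namespace H66.Crit

variable {K V Γ : Type*} [Field K] [AddCommGroup V] [Module K V] [Group Γ]
  {ρ : Representation K Γ V}

section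

variable [IsAlgClosed K] [FiniteDimensional K V] [Nontrivial V] {E Z : Subgroup Γ} [Fintype E]

open Classical in
/-- coefficient of `T` at `w`. -/
noncomputable def coef (ρ : Representation K Γ V) (E : Subgroup Γ) [Fintype E] (T : Module.End K V) (w : Γ) : K :=
  if h : ∃ c : K, P ρ E (T * ρ w⁻¹) = c • (1 : Module.End K V) then h.choose else 0

theorem smul_one_inj {a b : K} (h : a • (1 : Module.End K V) = b • 1) : a = b := by
  have h1 : (a - b) • (1 : Module.End K V) = 0 := by rw [sub_smul, h, sub_self]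
  exact sub_eq_zero.mp ((smul_eq_zero.mp h1).resolve_right one_ne_zero)

theorem coef_spec (hirr : Irr ρ E) (T : Module.End K V) (w : Γ) :
    P ρ E (T * ρ w⁻¹) = coef ρ E T w • (1 : Module.End K V) := by
  have h : ∃ c : K, P ρ E (T * ρ w⁻¹) = c • (1 : Module.End K V) :=
    schur hirr _ (fun x hx => commute_P ρ E _ hx)
  rw [coef, dif_pos h]
  exact h.choose_spec

theorem coef_unique (hirr : Irr ρ E) {T : Module.End K V} {w : Γ} {c : K}
    (h : P ρ E (T * ρ w⁻¹) = c • (1 : Module.End K V)) : coef ρ E T w = c :=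
  smul_one_inj ((coef_spec hirr T w).symm.trans h)

/-- the coefficient as a linear map -/
noncomputable def coefL (hirr : Irr ρ E) (w : Γ) : Module.End K V →ₗ[K] K where
  toFun := fun T => coef ρ E T w
  map_add' := by
    intro S T
    apply coef_unique hirr
    rw [add_mul, P_add, coef_spec hirr, coef_spec hirr, add_smul]
  map_smul' := by
    intro c T
    apply coef_unique hirr
    rw [smul_mul_assoc, P_smul, coef_spec hirr, smul_smul, RingHom.id_apply, smul_eq_mul]

variable [Fintype Z] (D : Data ρ E Z)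

include D

theorem coef_eq_zero_mul (hirr : Irr ρ E) {T : Module.End K V} {w z : Γ} (hz : z ∈ Z)
    (h : coef ρ E T w = 0) : coef ρ E T (w * z) = 0 := by
  apply coef_unique hirr
  obtain ⟨c, hc⟩ := D.scal z⁻¹ (inv_mem hz)
  rw [mul_inv_rev, map_mul, hc, smul_mul_assoc, one_mul, mul_smul_comm, P_smul, coef_spec hirr, h]
  simp

omit D [Fintype Z] in
theorem coef_conj (hirr : Irr ρ E) {T : Module.End K V} {g : Γ} (hg : g ∈ Subgroup.normalizer (E : Set Γ))
    (hT : ρ g * T = T * ρ g) (w : Γ) : coef ρ E T (g * w * g⁻¹) = coef ρ E T w := by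
  apply coef_unique hirr
  have h1 : T * ρ (g * w * g⁻¹)⁻¹ = ρ g * (T * ρ w⁻¹) * ρ g⁻¹ := by
    have e : (g * w * g⁻¹)⁻¹ = g * w⁻¹ * g⁻¹ := by group
    rw [e, map_mul, map_mul, ← mul_assoc, ← mul_assoc, ← hT]
    simp only [mul_assoc]
  rw [h1, P_conj ρ E _ hg, coef_spec hirr, mul_smul_comm, mul_one, smul_mul_assoc, mul_inv_self]

omit D [Fintype Z] in
theorem coef_conj_pow (hirr : Irr ρ E) {T : Module.End K V} {g : Γ} (hg : g ∈ Subgroup.normalizer (E : Set Γ))
    (hT : ρ g * T = T * ρ g) (w : Γ) (i : ℤ) : coef ρ E T (g ^ i * w * g ^ (-i)) = coef ρ E T w := by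
  have h1 : ∀ i : ℕ, ∀ w, coef ρ E T (g ^ i * w * (g ^ i)⁻¹) = coef ρ E T w := by
    intro i
    induction i with
    | zero => intro w; simp
    | succ i ih =>
      intro w
      have e : g ^ (i + 1) * w * (g ^ (i + 1))⁻¹ = g ^ i * (g * w * g⁻¹) * (g ^ i)⁻¹ := by
        rw [pow_succ]; group
      rw [e, ih, coef_conj hirr hg hT]
  rcases Int.eq_nat_or_neg i with ⟨n, rfl | rfl⟩
  · rw [zpow_natCast, zpow_neg, zpow_natCast]; exact h1 n w
  · rw [neg_neg, zpow_natCast, zpow_neg, zpow_natCast]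
    have h2 := h1 n ((g ^ n)⁻¹ * w * g ^ n)
    rw [← h2]
    congr 1
    group

/-- if all coefficients vanish then `T = 0`. -/
theorem eq_zero_of_coef (hirr : Irr ρ E) (hE : (Fintype.card E : K) ≠ 0) (hZ : (Fintype.card Z : K) ≠ 0)
    {T : Module.End K V} (h : ∀ w ∈ E, coef ρ E T w = 0) : T = 0 := by
  have h1 := D.expand T
  have h2 : ∑ w : E, P ρ E (T * ρ (w : Γ)⁻¹) * ρ (w : Γ) = 0 := by
    apply Finset.sum_eq_zero
    intro w _
    rw [coef_spec hirr, h w w.2, zero_smul, zero_mul]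
  rw [h2] at h1
  exact (smul_eq_zero.mp h1.symm).resolve_left (mul_ne_zero hE hZ)

omit [IsAlgClosed K] [FiniteDimensional K V] [Nontrivial V] [Fintype E] [Fintype Z] in
theorem Data.conj_mem {x z : Γ} (hx : x ∈ E) (hz : z ∈ Z) : x * z * x⁻¹ ∈ Z := by
  have h1 := D.comm x hx z (D.le hz)
  have h2 : x * z * x⁻¹ = ⁅x, z⁆ * z := by rw [commutatorElement_def]; group
  rw [h2]; exact Z.mul_mem h1 hz

/-- representatives of the cosets -/
noncomputable def rep (E Z : Subgroup Γ) (x : E ⧸ (Z.subgroupOf E)) : Γ := ((Quotient.out x : E) : Γ)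

omit [IsAlgClosed K] [FiniteDimensional K V] [Nontrivial V] [Fintype E] [Fintype Z] in
omit D [Module K V] [AddCommGroup V] [Field K] in
theorem rep_mem (x : E ⧸ (Z.subgroupOf E)) : rep E Z x ∈ E := ((Quotient.out x : E)).2

omit [IsAlgClosed K] [FiniteDimensional K V] [Nontrivial V] [Fintype E] [Fintype Z] in
omit D [Module K V] [AddCommGroup V] [Field K] in
theorem exists_rep {w : Γ} (hw : w ∈ E) : ∃ x : E ⧸ (Z.subgroupOf E), ∃ z ∈ Z, w = rep E Z x * z := by
  refine ⟨QuotientGroup.mk ⟨w, hw⟩, (rep E Z (QuotientGroup.mk ⟨w, hw⟩))⁻¹ * w, ?_, by group⟩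
  have h1 : (Quotient.out (QuotientGroup.mk ⟨w, hw⟩ : E ⧸ (Z.subgroupOf E)) : E)⁻¹ * ⟨w, hw⟩ ∈ Z.subgroupOf E := by
    rw [← QuotientGroup.eq]
    exact Quotient.out_eq _
  exact h1

omit [IsAlgClosed K] [FiniteDimensional K V] [Nontrivial V] [Fintype E] [Fintype Z] in
omit D [Module K V] [AddCommGroup V] [Field K] in
theorem rep_eq {x y : E ⧸ (Z.subgroupOf E)} (h : (rep E Z x)⁻¹ * rep E Z y ∈ Z) : x = y := by
  rw [← Quotient.out_eq x, ← Quotient.out_eq y]
  exact QuotientGroup.eq.mpr h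

/-- **dimension formula** -/
theorem sq_finrank_mul (hirr : Irr ρ E) (hE : (Fintype.card E : K) ≠ 0) (hZ : (Fintype.card Z : K) ≠ 0) :
    finrank K V ^ 2 * Nat.card Z = Nat.card E := by
  classical
  have hfinX : Finite (E ⧸ (Z.subgroupOf E)) := inferInstance
  have := Fintype.ofFinite (E ⧸ (Z.subgroupOf E))
  -- the coefficient map
  let Φ : Module.End K V →ₗ[K] ((E ⧸ (Z.subgroupOf E)) → K) :=
    LinearMap.pi (fun x => coefL hirr (rep E Z x))
  have hΦ : ∀ T x, Φ T x = coef ρ E T (rep E Z x) := fun T x => rfl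
  have hinj : Function.Injective Φ := by
    rw [← LinearMap.ker_eq_bot, LinearMap.ker_eq_bot']
    intro T hT
    apply eq_zero_of_coef D hirr hE hZ
    intro w hw
    obtain ⟨x, z, hz, rfl⟩ := exists_rep (Z := Z) hw
    apply coef_eq_zero_mul D hirr hz
    rw [← hΦ, hT]; rfl
  have hsurj : Function.Surjective Φ := by
    intro c
    refine ⟨∑ x, (c x * (Fintype.card E : K)⁻¹) • ρ (rep E Z x), ?_⟩
    funext y
    rw [map_sum, Finset.sum_apply, Finset.sum_eq_single y]
    · rw [map_smul, Pi.smul_apply, hΦ]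
      have h1 : coef ρ E (ρ (rep E Z y)) (rep E Z y) = Fintype.card E := by
        apply coef_unique hirr
        rw [mul_inv_self]
        have := D.P_of_mem (x := 1) (one_mem Z)
        rwa [map_one] at this
      rw [h1, smul_eq_mul, mul_assoc, inv_mul_cancel₀ hE, mul_one]
    · intro x _ hxy
      rw [map_smul, Pi.smul_apply, hΦ]
      have h1 : coef ρ E (ρ (rep E Z x)) (rep E Z y) = 0 := by
        apply coef_unique hirr
        rw [← map_mul, zero_smul]
        apply D.P_of_notMem (E.mul_mem (rep_mem x) (E.inv_mem (rep_mem y)))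
        intro hmem
        apply hxy
        symm
        apply rep_eq
        have h2 := D.conj_mem (E.inv_mem (rep_mem y)) hmem
        have h3 : (rep E Z y)⁻¹ * (rep E Z x * (rep E Z y)⁻¹) * ((rep E Z y)⁻¹)⁻¹ = (rep E Z y)⁻¹ * rep E Z x := by
          group
        rwa [h3] at h2
      rw [h1, smul_zero]
    · intro h; exact absurd (Finset.mem_univ y) h
  have h1 := (LinearEquiv.ofBijective Φ ⟨hinj, hsurj⟩).finrank_eq
  rw [Module.finrank_linearMap, Module.finrank_fintype_fun_eq_card] at h1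
  rw [sq, h1, ← Nat.card_eq_fintype_card]
  have h2 := Subgroup.card_eq_card_quotient_mul_card_subgroup (Z.subgroupOf E)
  rw [h2]
  congr 1
  exact Nat.card_congr (Subgroup.subgroupOfEquivOfLe D.le).toEquiv.symm

/-- **orbit bound** for the dimension of the centralizer of `g`. -/
theorem finrank_C_le (hirr : Irr ρ E) (hE : (Fintype.card E : K) ≠ 0) (hZ : (Fintype.card Z : K) ≠ 0)
    {g : Γ} (hg : g ∈ Subgroup.normalizer (E : Set Γ)) {M : ℕ}
    (hfix : ∀ i : ℕ, 0 < i → i < M → ∀ x ∈ E, ⁅x, g ^ i⁆ ∈ Z → x ∈ Z) :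
    M * finrank K (C (ρ g)) + 1 ≤ finrank K V ^ 2 + M := by
  classical
  have hconjZ : ∀ (i : ℤ) (z : Γ), z ∈ Z → g ^ i * z * g ^ (-i) ∈ Z := by
    intro i z hz
    rw [zpow_neg]
    exact D.conj_mem_Z (Subgroup.zpow_mem _ hg i) hz
  have hconjE : ∀ (i : ℤ) (z : Γ), z ∈ E → g ^ i * z * g ^ (-i) ∈ E := by
    intro i z hz
    rw [zpow_neg]
    exact (Subgroup.mem_normalizer_iff.mp (Subgroup.zpow_mem _ hg i) z).mp hz
  -- the equivalence relation
  let r : Setoid E :=
    { r := fun w w' => ∃ i : ℤ, ∃ z ∈ Z, (w' : Γ) = g ^ i * w * g ^ (-i) * z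
      iseqv :=
        { refl := fun w => ⟨0, 1, one_mem _, by simp⟩
          symm := by
            rintro w w' ⟨i, z, hz, h⟩
            refine ⟨-i, g ^ (-i) * z⁻¹ * g ^ (- -i), hconjZ (-i) _ (inv_mem hz), ?_⟩
            rw [h]; group
          trans := by
            rintro w w' w'' ⟨i, z, hz, h⟩ ⟨j, z', hz', h'⟩
            refine ⟨j + i, (g ^ j * z * g ^ (-j)) * z', mul_mem (hconjZ j z hz) hz', ?_⟩
            rw [h', h]; group } }
  have hr : ∀ w w' : E, r w w' ↔ ∃ i : ℤ, ∃ z ∈ Z, (w' : Γ) = g ^ i * w * g ^ (-i) * z := fun _ _ => Iff.rfl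
  have hfinO : Finite (Quotient r) := inferInstance
  have := Fintype.ofFinite (Quotient r)
  have hfinX : Finite (E ⧸ (Z.subgroupOf E)) := inferInstance
  have := Fintype.ofFinite (E ⧸ (Z.subgroupOf E))
  -- injection of the centralizer
  let Φ : C (ρ g) →ₗ[K] (Quotient r → K) :=
    (LinearMap.pi (fun x => coefL hirr ((Quotient.out x : E) : Γ))).comp (C (ρ g)).subtype
  have hΦ : ∀ T x, Φ T x = coef ρ E (T : Module.End K V) ((Quotient.out x : E) : Γ) := fun T x => rfl
  have hinj : Function.Injective Φ := by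
    rw [← LinearMap.ker_eq_bot, LinearMap.ker_eq_bot']
    intro T hT
    apply Subtype.ext
    change (T : Module.End K V) = 0
    apply eq_zero_of_coef D hirr hE hZ
    intro w hw
    have h1 : r (Quotient.out (Quotient.mk r ⟨w, hw⟩)) ⟨w, hw⟩ := Quotient.mk_out (s := r) ⟨w, hw⟩
    obtain ⟨i, z, hz, h2⟩ := (hr _ _).mp h1
    have h3 : w = g ^ i * ((Quotient.out (Quotient.mk r ⟨w, hw⟩) : E) : Γ) * g ^ (-i) * z := h2
    rw [h3]
    apply coef_eq_zero_mul D hirr hz
    rw [coef_conj_pow hirr hg T.2, ← hΦ, hT]; rfl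
  have h1 : finrank K (C (ρ g)) ≤ Fintype.card (Quotient r) := by
    have := LinearMap.finrank_le_finrank_of_injective hinj
    rwa [Module.finrank_fintype_fun_eq_card] at this
  -- count of orbits
  have h2 : (Fintype.card (Quotient r) - 1) * M ≤ Fintype.card (E ⧸ (Z.subgroupOf E)) - 1 := by
    let o1 : Quotient r := Quotient.mk r 1
    let x1 : E ⧸ (Z.subgroupOf E) := QuotientGroup.mk 1
    have hc1 : Fintype.card {o : Quotient r // o ≠ o1} = Fintype.card (Quotient r) - 1 := by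
      rw [Fintype.card_subtype_compl, Fintype.card_subtype_eq]
    have hc2 : Fintype.card {x : E ⧸ (Z.subgroupOf E) // x ≠ x1} = Fintype.card (E ⧸ (Z.subgroupOf E)) - 1 := by
      rw [Fintype.card_subtype_compl, Fintype.card_subtype_eq]
    have hnot : ∀ o : Quotient r, o ≠ o1 → ((Quotient.out o : E) : Γ) ∉ Z := by
      intro o ho hmem
      apply ho
      rw [← Quotient.out_eq o]
      apply Quotient.sound
      change r _ _
      rw [hr]
      exact ⟨0, ((Quotient.out o : E) : Γ)⁻¹, inv_mem hmem, by simp⟩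
    let F : {o : Quotient r // o ≠ o1} × Fin M → {x : E ⧸ (Z.subgroupOf E) // x ≠ x1} := fun p =>
      ⟨QuotientGroup.mk (⟨g ^ ((p.2 : ℕ) : ℤ) * ((Quotient.out p.1.1 : E) : Γ) * g ^ (-((p.2 : ℕ) : ℤ)),
        hconjE _ _ (Quotient.out p.1.1 : E).2⟩ : E), by
          intro h
          have h3 := QuotientGroup.eq.mp h.symm
          have h4 : g ^ ((p.2 : ℕ) : ℤ) * ((Quotient.out p.1.1 : E) : Γ) * g ^ (-((p.2 : ℕ) : ℤ)) ∈ Z := by
            have h5 : (1 : Γ)⁻¹ * (g ^ ((p.2 : ℕ) : ℤ) * ((Quotient.out p.1.1 : E) : Γ) *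
              g ^ (-((p.2 : ℕ) : ℤ))) ∈ Z := h3
            rwa [inv_one, one_mul] at h5
          apply hnot p.1.1 p.1.2
          have h6 := hconjZ (-((p.2 : ℕ) : ℤ)) _ h4
          have h7 : g ^ (-((p.2 : ℕ) : ℤ)) * (g ^ ((p.2 : ℕ) : ℤ) * ((Quotient.out p.1.1 : E) : Γ) *
              g ^ (-((p.2 : ℕ) : ℤ))) * g ^ (- -((p.2 : ℕ) : ℤ)) = ((Quotient.out p.1.1 : E) : Γ) := by group
          rwa [h7] at h6⟩
    have hF : Function.Injective F := by
      have key : ∀ (w w' : E) (i j : ℕ), i ≤ j → j < M → (w : Γ) ∉ Z →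
          (g ^ (i : ℤ) * (w : Γ) * g ^ (-(i : ℤ)))⁻¹ * (g ^ (j : ℤ) * (w' : Γ) * g ^ (-(j : ℤ))) ∈ Z →
            r w w' ∧ (w = w' → i = j) := by
        intro w w' i j hij hj hw h
        constructor
        · rw [hr]
          refine ⟨-(j : ℤ) + i, g ^ (-(j : ℤ)) * ((g ^ (i : ℤ) * (w : Γ) * g ^ (-(i : ℤ)))⁻¹ *
            (g ^ (j : ℤ) * (w' : Γ) * g ^ (-(j : ℤ)))) * g ^ (- -(j : ℤ)), hconjZ (-(j : ℤ)) _ h, ?_⟩
          group
        · intro hww
          subst hww
          by_contra hne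
          have hlt : i < j := lt_of_le_of_ne hij hne
          have h3 := hconjZ (-(i : ℤ)) _ h
          have h4 : g ^ (-(i : ℤ)) * ((g ^ (i : ℤ) * (w : Γ) * g ^ (-(i : ℤ)))⁻¹ *
              (g ^ (j : ℤ) * (w : Γ) * g ^ (-(j : ℤ)))) * g ^ (- -(i : ℤ)) = ⁅(w : Γ)⁻¹, g ^ (j - i)⁆ := by
            have e : g ^ (j - i) = g ^ (j : ℤ) * g ^ (-(i : ℤ)) := by
              rw [← zpow_natCast, ← zpow_add, Nat.cast_sub hij]; rfl
            rw [commutatorElement_def, e]; group
          rw [h4] at h3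
          have h5 := hfix (j - i) (by omega) (by omega) _ (E.inv_mem w.2) h3
          exact hw (by simpa using Z.inv_mem h5)
      rintro ⟨⟨o, ho⟩, i⟩ ⟨⟨o', ho'⟩, j⟩ h
      have h3 := QuotientGroup.eq.mp (congrArg Subtype.val h)
      have h4 : (g ^ ((i : ℕ) : ℤ) * ((Quotient.out o : E) : Γ) * g ^ (-((i : ℕ) : ℤ)))⁻¹ *
          (g ^ ((j : ℕ) : ℤ) * ((Quotient.out o' : E) : Γ) * g ^ (-((j : ℕ) : ℤ))) ∈ Z := h3
      rcases le_total (i : ℕ) (j : ℕ) with hij | hij
      · obtain ⟨h5, h6⟩ := key _ _ _ _ hij j.2 (hnot o ho) h4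
        have h7 : o = o' := by
          rw [← Quotient.out_eq o, ← Quotient.out_eq o']
          exact Quotient.sound h5
        subst h7
        have h8 := h6 rfl
        rw [Prod.mk.injEq]
        exact ⟨rfl, Fin.ext h8⟩
      · have h4' : (g ^ ((j : ℕ) : ℤ) * ((Quotient.out o' : E) : Γ) * g ^ (-((j : ℕ) : ℤ)))⁻¹ *
          (g ^ ((i : ℕ) : ℤ) * ((Quotient.out o : E) : Γ) * g ^ (-((i : ℕ) : ℤ))) ∈ Z := by
          have := Z.inv_mem h4
          rwa [mul_inv_rev, inv_inv] at this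
        obtain ⟨h5, h6⟩ := key _ _ _ _ hij i.2 (hnot o' ho') h4'
        have h7 : o' = o := by
          rw [← Quotient.out_eq o, ← Quotient.out_eq o']
          exact Quotient.sound h5
        subst h7
        have h8 := h6 rfl
        rw [Prod.mk.injEq]
        exact ⟨rfl, Fin.ext h8.symm⟩
    have h3 := Fintype.card_le_of_injective F hF
    rwa [Fintype.card_prod, hc1, hc2, Fintype.card_fin] at h3
  have h3 : Fintype.card (E ⧸ (Z.subgroupOf E)) = finrank K V ^ 2 := by
    have h4 := sq_finrank_mul D hirr hE hZ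
    have h5 := Subgroup.card_eq_card_quotient_mul_card_subgroup (Z.subgroupOf E)
    have h6 : Nat.card (Z.subgroupOf E) = Nat.card Z := Nat.card_congr (Subgroup.subgroupOfEquivOfLe D.le).toEquiv
    rw [h6, ← h4] at h5
    rw [← Nat.card_eq_fintype_card]
    exact (Nat.eq_of_mul_eq_mul_right Nat.card_pos h5).symm
  rw [h3] at h2
  have h4 : 0 < Fintype.card (Quotient r) := Fintype.card_pos_iff.mpr ⟨Quotient.mk r 1⟩
  have h5 : 0 < finrank K V := finrank_pos
  have h6 : 0 < finrank K V ^ 2 := by positivity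
  have h7 : M * finrank K (C (ρ g)) ≤ M * Fintype.card (Quotient r) := Nat.mul_le_mul le_rfl h1
  obtain ⟨t, ht⟩ : ∃ t, Fintype.card (Quotient r) = t + 1 := ⟨_, (Nat.succ_pred_eq_of_pos h4).symm⟩
  rw [ht] at h2 h7
  rw [Nat.add_sub_cancel] at h2
  have h8 : M * (t + 1) = t * M + M := by ring
  rw [h8] at h7
  omega

/-- **critical bound** (coprime characteristic): if `g` has order `M` on `V`, no nonzero fixed vectors, and
acts with regular orbits on `E / Z`, then `dim V ≤ M - 1`. -/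
theorem finrank_le (hirr : Irr ρ E) (hE : (Fintype.card E : K) ≠ 0) (hZ : (Fintype.card Z : K) ≠ 0)
    {g : Γ} (hg : g ∈ Subgroup.normalizer (E : Set Γ)) {M : ℕ} (hM : (M : K) ≠ 0)
    (hfix : ∀ i : ℕ, 0 < i → i < M → ∀ x ∈ E, ⁅x, g ^ i⁆ ∈ Z → x ∈ Z) (hgM : ρ g ^ M = 1)
    (hv : ∀ v, ρ g v = v → v = 0) : finrank K V ≤ M - 1 := by
  have h1 := finrank_C_le D hirr hE hZ hg hfix
  have h2 := sq_finrank_le (ρ g) hM hgM hv
  have hM0 : 0 < M := Nat.pos_of_ne_zero (by rintro rfl; simp at hM)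
  obtain ⟨m, rfl⟩ : ∃ m, M = m + 1 := ⟨M - 1, by omega⟩
  rw [Nat.add_sub_cancel] at h2 ⊢
  set c := finrank K (C (ρ g))
  set N := finrank K V
  have h3 : (m + 1) * N ^ 2 ≤ m * (N ^ 2 + m) := by
    calc (m + 1) * N ^ 2 ≤ (m + 1) * (m * c) := Nat.mul_le_mul le_rfl h2
      _ = m * ((m + 1) * c) := by ring
      _ ≤ m * (N ^ 2 + m) := Nat.mul_le_mul le_rfl (by omega)
  have h4 : N ^ 2 ≤ m ^ 2 := by nlinarith
  exact (Nat.pow_le_pow_iff_left two_ne_zero).mp h4

end

end H66.Crit
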