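import Cfsg.Agent.Lib.H66.Crit2

/-!
Final forms of the critical lemma, for an invariant subspace `W` of a representation of a finite group.
-/

set_option autoImplicit false

open scoped commutatorElement
open Module H66.EigB

namespace H66.Crit

variable {K V Γ : Type*} [Field K] [AddCommGroup V] [Module K V] [Group Γ] [Finite Γ]
  (ρ : Representation K Γ V)

/-- stabilizer of a subspace -/
def stab (W : Submodule K V) : Subgroup Γ where
  carrier := {x | ∀ w ∈ W, ρ x w ∈ W}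
  one_mem' := by intro w hw; simpa using hw
  mul_mem' := by
    intro a b ha hb w hw
    rw [map_mul, Module.End.mul_apply]
    exact ha _ (hb w hw)
  inv_mem' := by
    intro a ha
    have h1 : ∀ n : ℕ, ∀ w ∈ W, ρ (a ^ n) w ∈ W := by
      intro n
      induction n with
      | zero => intro w hw; simpa using hw
      | succ n ih =>
        intro w hw
        rw [pow_succ, map_mul, Module.End.mul_apply]
        exact ih _ (ha w hw)
    have h2 : a⁻¹ = a ^ (orderOf a - 1) := by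
      rw [inv_eq_iff_mul_eq_one, ← pow_succ', Nat.sub_add_cancel (orderOf_pos a), pow_orderOf_eq_one]
    change ∀ w ∈ W, ρ a⁻¹ w ∈ W
    rw [h2]; exact h1 _

theorem mem_stab {W : Submodule K V} {x : Γ} : x ∈ stab ρ W ↔ ∀ w ∈ W, ρ x w ∈ W := Iff.rfl

/-- restriction of a representation to an invariant subspace -/
def res (W : Submodule K V) : Representation K (stab ρ W) W where
  toFun := fun x => (ρ (x : Γ)).restrict (fun w hw => x.2 w hw)
  map_one' := by
    ext w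
    simp
  map_mul' := by
    intro x y
    ext w
    simp

theorem res_apply (W : Submodule K V) (x : stab ρ W) (w : W) : ((res ρ W x w : W) : V) = ρ (x : Γ) w := rfl

/-- minimal invariant subspaces -/
theorem exists_minimal [FiniteDimensional K V] (S : Set Γ) (W : Submodule K V) (hW : W ≠ ⊥)
    (hinv : ∀ x ∈ S, ∀ w ∈ W, ρ x w ∈ W) : ∃ U : Submodule K V, U ≤ W ∧ U ≠ ⊥ ∧
      (∀ x ∈ S, ∀ w ∈ U, ρ x w ∈ U) ∧
      ∀ U' : Submodule K V, U' ≤ U → (∀ x ∈ S, ∀ w ∈ U', ρ x w ∈ U') → U' = ⊥ ∨ U' = U := by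
  classical
  have hex : ∃ n, ∃ U : Submodule K V, U ≤ W ∧ U ≠ ⊥ ∧ (∀ x ∈ S, ∀ w ∈ U, ρ x w ∈ U) ∧ finrank K U = n :=
    ⟨_, W, le_rfl, hW, hinv, rfl⟩
  obtain ⟨U, hUW, hU, hUinv, hUn⟩ := Nat.find_spec hex
  refine ⟨U, hUW, hU, hUinv, ?_⟩
  intro U' hU' hinv'
  by_cases h : U' = ⊥
  · exact Or.inl h
  · right
    have h1 := Nat.find_min' hex ⟨U', hU'.trans hUW, h, hinv', rfl⟩
    rw [← hUn] at h1
    exact Submodule.eq_of_le_of_finrank_le hU' h1

/-- The data of a critical configuration on a subspace `W`. -/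
structure CData (W : Submodule K V) (E Z : Subgroup Γ) : Prop where
  inv : ∀ x ∈ E, ∀ w ∈ W, ρ x w ∈ W
  le : Z ≤ E
  scal : ∀ z ∈ Z, ∃ c : K, ∀ w ∈ W, ρ z w = c • w
  comm : ∀ x ∈ E, ∀ y ∈ E, ⁅x, y⁆ ∈ Z
  nondeg : ∀ x ∈ E, (∀ y ∈ E, ∀ w ∈ W, ρ ⁅x, y⁆ w = w) → x ∈ Z

variable {ρ}

theorem CData.mono {W W' : Submodule K V} {E Z : Subgroup Γ} (D : CData ρ W E Z) (hW' : W' ≤ W)
    (h0 : W' ≠ ⊥) (hinv : ∀ x ∈ E, ∀ w ∈ W', ρ x w ∈ W') : CData ρ W' E Z where
  inv := hinv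
  le := D.le
  scal := by
    intro z hz
    obtain ⟨c, hc⟩ := D.scal z hz
    exact ⟨c, fun w hw => hc w (hW' hw)⟩
  comm := D.comm
  nondeg := by
    intro x hx h
    apply D.nondeg x hx
    intro y hy w hw
    obtain ⟨c, hc⟩ := D.scal _ (D.comm x hx y hy)
    obtain ⟨v, hv, hv0⟩ := (Submodule.ne_bot_iff _).mp h0
    have h1 := h y hy v hv
    rw [hc v (hW' hv)] at h1
    have h2 : (c - 1) • v = 0 := by rw [sub_smul, one_smul, h1, sub_self]
    have h3 : c = 1 := sub_eq_zero.mp ((smul_eq_zero.mp h2).resolve_right hv0)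
    rw [hc w hw, h3, one_smul]

theorem CData.data {W : Submodule K V} {E Z : Subgroup Γ} (D : CData ρ W E Z) :
    Data (res ρ W) (E.subgroupOf (stab ρ W)) (Z.subgroupOf (stab ρ W)) where
  le := by
    intro x hx
    exact D.le hx
  scal := by
    intro z hz
    obtain ⟨c, hc⟩ := D.scal z hz
    refine ⟨c, ?_⟩
    ext w
    rw [res_apply, hc w w.2]
    simp
  comm := by
    intro x hx y hy
    exact D.comm _ hx _ hy
  nondeg := by
    intro x hx h
    apply D.nondeg _ hx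
    intro y hy w hw
    have h1 := h ⟨y, D.inv y hy⟩ hy
    have h2 := LinearMap.congr_fun h1 (⟨w, hw⟩ : W)
    exact congrArg Subtype.val h2

theorem CData.E_le {W : Submodule K V} {E Z : Subgroup Γ} (D : CData ρ W E Z) : E ≤ stab ρ W :=
  fun x hx => D.inv x hx

theorem CData.card_E {W : Submodule K V} {E Z : Subgroup Γ} (D : CData ρ W E Z) :
    Nat.card (E.subgroupOf (stab ρ W)) = Nat.card E :=
  Nat.card_congr (Subgroup.subgroupOfEquivOfLe D.E_le).toEquiv

theorem CData.card_Z {W : Submodule K V} {E Z : Subgroup Γ} (D : CData ρ W E Z) :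
    Nat.card (Z.subgroupOf (stab ρ W)) = Nat.card Z :=
  Nat.card_congr (Subgroup.subgroupOfEquivOfLe (D.le.trans D.E_le)).toEquiv

theorem cast_card_ne_zero {E Z : Subgroup Γ} (h : Z ≤ E) (hE : (Nat.card E : K) ≠ 0) :
    (Nat.card Z : K) ≠ 0 := by
  intro h0
  obtain ⟨k, hk⟩ := Subgroup.card_dvd_of_le h
  apply hE
  rw [hk, Nat.cast_mul, h0, zero_mul]

/-- irreducible submodules in a critical configuration. -/
theorem CData.exists_irr [IsAlgClosed K] [FiniteDimensional K V] {W : Submodule K V} {E Z : Subgroup Γ}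
    (D : CData ρ W E Z) (hW : W ≠ ⊥) (hE : (Nat.card E : K) ≠ 0) {g : Γ}
    (hg : g ∈ Subgroup.normalizer (E : Set Γ)) (hWg : ∀ w ∈ W, ρ g w ∈ W)
    (hfix : ∀ x ∈ E, ⁅x, g⁆ ∈ Z → x ∈ Z) :
    ∃ U : Submodule K V, U ≤ W ∧ U ≠ ⊥ ∧ (∀ w ∈ U, ρ g w ∈ U) ∧ CData ρ U E Z ∧
      Irr (res ρ U) (E.subgroupOf (stab ρ U)) := by
  classical
  obtain ⟨U, hUW, hU, hUinv, hUmin⟩ := exists_minimal ρ ((E : Set Γ) ∪ {g}) W hW (by
    rintro x (hx | hx) w hw
    · exact D.inv x hx w hw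
    · rw [Set.mem_singleton_iff.mp hx]; exact hWg w hw)
  have hUE : ∀ x ∈ E, ∀ w ∈ U, ρ x w ∈ U := fun x hx => hUinv x (Or.inl hx)
  have hUg : ∀ w ∈ U, ρ g w ∈ U := hUinv g (Or.inr rfl)
  have D' : CData ρ U E Z := D.mono hUW hU hUE
  refine ⟨U, hUW, hU, hUg, D', ?_⟩
  have : Nontrivial U := by
    obtain ⟨v, hv, hv0⟩ := (Submodule.ne_bot_iff _).mp hU
    exact ⟨⟨⟨v, hv⟩, 0, fun h => hv0 (congrArg Subtype.val h)⟩⟩
  have hgS : g ∈ stab ρ U := hUg
  letI := Fintype.ofFinite (E.subgroupOf (stab ρ U))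
  letI := Fintype.ofFinite (Z.subgroupOf (stab ρ U))
  apply D'.data.irr_of_irr (g := ⟨g, hgS⟩)
  · rw [Subgroup.mem_normalizer_iff]
    intro x
    exact Subgroup.mem_normalizer_iff.mp hg x
  · rw [← Nat.card_eq_fintype_card, D'.card_E]; exact hE
  · rw [← Nat.card_eq_fintype_card, D'.card_Z]; exact cast_card_ne_zero D'.le hE
  · intro x hx h
    exact hfix x hx h
  · exact isOfFinOrder_of_finite _
  · intro X hXE hXg
    rcases hUmin (X.map U.subtype) (Submodule.map_subtype_le U X) (by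
      rintro x hx w ⟨v, hv, rfl⟩
      rcases hx with hx | hx
      · exact ⟨_, hXE ⟨x, hUE x hx⟩ hx v hv, rfl⟩
      · rw [Set.mem_singleton_iff.mp hx]
        exact ⟨_, hXg v hv, rfl⟩) with h | h
    · left
      rw [eq_bot_iff]
      intro v hv
      have : (v : V) ∈ X.map U.subtype := ⟨v, hv, rfl⟩
      rw [h] at this
      exact Subtype.ext this
    · right
      rw [eq_top_iff]
      intro v _
      have : (v : V) ∈ X.map U.subtype := by rw [h]; exact v.2
      obtain ⟨v', hv', e⟩ := this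
      rw [← Subtype.ext e]; exact hv'

/-- **critical lemma** -/
theorem crit_final [IsAlgClosed K] [FiniteDimensional K V] {W : Submodule K V} {E Z : Subgroup Γ}
    (D : CData ρ W E Z) (hW : W ≠ ⊥) (hE : (Nat.card E : K) ≠ 0) {g : Γ}
    (hg : g ∈ Subgroup.normalizer (E : Set Γ)) (hWg : ∀ w ∈ W, ρ g w ∈ W) {M : ℕ} (hM : (M : K) ≠ 0)
    (hfix : ∀ i : ℕ, 0 < i → i < M → ∀ x ∈ E, ⁅x, g ^ i⁆ ∈ Z → x ∈ Z)
    (hgM : ∀ w ∈ W, ρ (g ^ M) w = w) (hv : ∀ w ∈ W, ρ g w = w → w = 0) :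
    ∃ N : ℕ, 0 < N ∧ N ^ 2 * Nat.card Z = Nat.card E ∧ N ≤ M - 1 := by
  classical
  have hM1 : 1 < M := by
    by_contra hcon
    have h1 : M ≠ 0 := by rintro rfl; simp at hM
    have h2 : M = 1 := by omega
    obtain ⟨v, hv', hv0⟩ := (Submodule.ne_bot_iff _).mp hW
    apply hv0
    apply hv v hv'
    have := hgM v hv'
    rwa [h2, pow_one] at this
  obtain ⟨U, hUW, hU, hUg, D', hirr⟩ := D.exists_irr hW hE hg hWg (by
    have := hfix 1 (by norm_num) hM1
    simpa using this)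
  have : Nontrivial U := by
    obtain ⟨v, hv, hv0⟩ := (Submodule.ne_bot_iff _).mp hU
    exact ⟨⟨⟨v, hv⟩, 0, fun h => hv0 (congrArg Subtype.val h)⟩⟩
  letI := Fintype.ofFinite (E.subgroupOf (stab ρ U))
  letI := Fintype.ofFinite (Z.subgroupOf (stab ρ U))
  have hE' : (Fintype.card (E.subgroupOf (stab ρ U)) : K) ≠ 0 := by
    rw [← Nat.card_eq_fintype_card, D'.card_E]; exact hE
  have hZ' : (Fintype.card (Z.subgroupOf (stab ρ U)) : K) ≠ 0 := by
    rw [← Nat.card_eq_fintype_card, D'.card_Z]; exact cast_card_ne_zero D'.le hE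
  have hgS : g ∈ stab ρ U := hUg
  refine ⟨finrank K U, finrank_pos, ?_, ?_⟩
  · have := sq_finrank_mul D'.data hirr hE' hZ'
    rwa [D'.card_E, D'.card_Z] at this
  · apply finrank_le D'.data hirr hE' hZ' (g := ⟨g, hgS⟩) (M := M) _ hM
    · intro i hi0 hiM x hx h
      exact hfix i hi0 hiM x hx h
    · rw [← map_pow]
      ext w
      rw [res_apply]
      exact hgM w (hUW w.2)
    · intro v hv'
      have h1 := congrArg Subtype.val hv'
      rw [res_apply] at h1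
      exact Subtype.ext (hv v (hUW v.2) h1)
    · rw [Subgroup.mem_normalizer_iff]
      intro x
      exact Subgroup.mem_normalizer_iff.mp hg x

/-- second form: no element `x` commuting with `g` such that `g x` has regular orbits longer than
`dim V + 1`. -/
theorem crit_final2 [IsAlgClosed K] [FiniteDimensional K V] {W : Submodule K V} {E Z : Subgroup Γ}
    (D : CData ρ W E Z) (hW : W ≠ ⊥) (hE : (Nat.card E : K) ≠ 0) {a x : Γ} (hax : Commute a x)
    (ha : a ∈ Subgroup.normalizer (E : Set Γ)) (hx : x ∈ Subgroup.normalizer (E : Set Γ))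
    (hWa : ∀ w ∈ W, ρ a w ∈ W) (hWx : ∀ w ∈ W, ρ x w ∈ W)
    (haz : a ∈ Subgroup.zpowers (a * x)) {p : ℕ} (hp3 : 3 ≤ p) (hpK : (p : K) ≠ 0)
    (hfixa : ∀ i : ℕ, 0 < i → i < p → ∀ x ∈ E, ⁅x, a ^ i⁆ ∈ Z → x ∈ Z)
    (hap : ∀ w ∈ W, ρ (a ^ p) w = w)
    (hcard : (p - 1) ^ 2 * Nat.card Z = Nat.card E) {M : ℕ} (hM : p < M)
    (hfixg : ∀ i : ℕ, 0 < i → i < M → ∀ y ∈ E, ⁅y, (a * x) ^ i⁆ ∈ Z → y ∈ Z) : False := by
  classical
  have hg : a * x ∈ Subgroup.normalizer (E : Set Γ) := mul_mem ha hx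
  obtain ⟨U, hUW, hU, hUg, D', hirr⟩ := D.exists_irr hW hE hg (by
    intro w hw
    rw [map_mul, Module.End.mul_apply]
    exact hWa _ (hWx w hw)) (by
    have := hfixg 1 (by norm_num) (by omega)
    simpa using this)
  have : Nontrivial U := by
    obtain ⟨v, hv, hv0⟩ := (Submodule.ne_bot_iff _).mp hU
    exact ⟨⟨⟨v, hv⟩, 0, fun h => hv0 (congrArg Subtype.val h)⟩⟩
  letI := Fintype.ofFinite (E.subgroupOf (stab ρ U))
  letI := Fintype.ofFinite (Z.subgroupOf (stab ρ U))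
  have hE' : (Fintype.card (E.subgroupOf (stab ρ U)) : K) ≠ 0 := by
    rw [← Nat.card_eq_fintype_card, D'.card_E]; exact hE
  have hZ' : (Fintype.card (Z.subgroupOf (stab ρ U)) : K) ≠ 0 := by
    rw [← Nat.card_eq_fintype_card, D'.card_Z]; exact cast_card_ne_zero D'.le hE
  have hgS : a * x ∈ stab ρ U := hUg
  have haS : a ∈ stab ρ U := by
    have : Subgroup.zpowers (a * x) ≤ stab ρ U := by
      rw [Subgroup.zpowers_le]; exact hgS
    exact this haz
  have hxS : x ∈ stab ρ U := by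
    have := mul_mem (inv_mem haS) hgS
    rwa [inv_mul_cancel_left] at this
  -- dimension
  have hN : finrank K U = p - 1 := by
    have h1 := sq_finrank_mul D'.data hirr hE' hZ'
    rw [D'.card_E, D'.card_Z, ← hcard] at h1
    have h2 := Nat.eq_of_mul_eq_mul_right Nat.card_pos h1
    exact Nat.pow_left_injective (by norm_num : 2 ≠ 0) h2
  have hnorm : ∀ (y : Γ) (hyS : y ∈ stab ρ U), y ∈ Subgroup.normalizer (E : Set Γ) →
      (⟨y, hyS⟩ : stab ρ U) ∈ Subgroup.normalizer ((E.subgroupOf (stab ρ U) : Subgroup (stab ρ U)) : Set (stab ρ U)) := by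
    intro y hyS hy
    rw [Subgroup.mem_normalizer_iff]
    intro z
    exact Subgroup.mem_normalizer_iff.mp hy z
  have h1 := finrank_C_le D'.data hirr hE' hZ' (g := ⟨a, haS⟩) (M := p) (hnorm a haS ha) (by
    intro i hi0 hiM x hx h
    exact hfixa i hi0 hiM x hx h)
  have h2 := finrank_C_le D'.data hirr hE' hZ' (g := ⟨a * x, hgS⟩) (M := M) (hnorm _ hgS hg) (by
    intro i hi0 hiM x hx h
    exact hfixg i hi0 hiM x hx h)
  obtain ⟨b, ε, hb⟩ := exists_eigenbasis (res ρ U ⟨a, haS⟩) (M := p) hpK (by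
    rw [← map_pow]
    ext w
    rw [res_apply]
    exact hap w (hUW w.2))
  have hc1 : finrank K (C (res ρ U ⟨a, haS⟩)) ≤ finrank K U := by
    rw [hN] at h1 ⊢
    obtain ⟨m, rfl⟩ : ∃ m, p = m + 1 := ⟨p - 1, by omega⟩
    rw [Nat.add_sub_cancel] at h1 ⊢
    have h3 : (m + 1) * finrank K (C (res ρ U ⟨a, haS⟩)) ≤ (m + 1) * m := by nlinarith
    exact Nat.le_of_mul_le_mul_left h3 (by omega)
  have hinj := injective_of_finrank_le _ b ε hb hc1
  obtain ⟨δ, hδ⟩ := diag_of_commute _ b ε hb hinj (res ρ U ⟨x, hxS⟩) (by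
    rw [← map_mul, ← map_mul]
    congr 1
    exact Subtype.ext hax)
  have hc2 := le_finrank_of_diag (res ρ U ⟨a * x, hgS⟩) b (fun j => ε j * δ j) (by
    intro j
    have e : (⟨a * x, hgS⟩ : stab ρ U) = ⟨a, haS⟩ * ⟨x, hxS⟩ := rfl
    rw [e, map_mul, Module.End.mul_apply, hδ, map_smul, hb, smul_smul, mul_comm])
  rw [hN] at h2 hc2
  have h4 : M * (p - 1) + 1 ≤ (p - 1) ^ 2 + M := le_trans (by
    have := Nat.mul_le_mul (le_refl M) hc2
    omega) h2
  obtain ⟨m, rfl⟩ : ∃ m, p = m + 2 := ⟨p - 2, by omega⟩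
  have e : m + 2 - 1 = m + 1 := by omega
  rw [e] at h4
  -- M (m + 1) + 1 ≤ (m+1)² + M with M ≥ m + 3
  have h5 : M * m ≤ (m + 2) * m := by nlinarith
  have h6 := Nat.le_of_mul_le_mul_right h5 (by omega : 0 < m)
  omega

end H66.Crit
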