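import Mathlib
import Cfsg.Agent.Lib.H16.Suz2

/-!
The weight argument and the key lemma on equivariant biadditive maps for a multiplier `lam` of order `(2^n - 1)/d`
with `d ∣ n` (generalisation of `H16.Suz.keyLemma`).
-/

set_option autoImplicit false

namespace H66.Hig

open Finset


/-- `x` is a cyclic predecessor of `p` at distance less than `g` -/
def Q (n g x p : ℕ) : Prop := (x < p ∧ p < x + g) ∨ (p < x ∧ p + n < x + g)

theorem shift_aux {n g a b c d : ℕ} (hg : 4 * g < n + 4) (ha : a < n) (hb : b < n) (hc : c < n) (hd : d < n)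
   (h1 : Q n g b a ∨ Q n g c a ∨ Q n g d a) (h2 : Q n g a b ∨ Q n g c b ∨ Q n g d b)
   (h3 : Q n g a c ∨ Q n g b c ∨ Q n g d c) (h4 : Q n g a d ∨ Q n g b d ∨ Q n g c d) : False := by
  unfold Q at *
  rcases h1 with h1 | h1 | h1 <;>
  rcases h2 with h2 | h2 | h2 <;>
  rcases h3 with h3 | h3 | h3 <;> omega

/-- cyclic shift by `p` on `{0, ..., n-1}` -/
def sh (n p q : ℕ) : ℕ := if p ≤ q then q - p else q + n - p

theorem sh_le_aux {n g p q : ℕ} (hp : p < n) (hq : q < n) (h : ¬ sh n p q ≤ n - g) (hg : g ≤ n) :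
    Q n g q p := by
  unfold sh at h
  unfold Q
  split_ifs at h with h1
  · right; omega
  · left; omega

theorem shift_exists {n g a b c d : ℕ} (hg : 4 * g < n + 4) (ha : a < n) (hb : b < n) (hc : c < n) (hd : d < n) :
    ∃ p < n, sh n p a ≤ n - g ∧ sh n p b ≤ n - g ∧ sh n p c ≤ n - g ∧ sh n p d ≤ n - g := by
  have hgn : g ≤ n := by omega
  by_contra hcon
  push Not at hcon
  have key : ∀ p < n, ∃ q, (q = a ∨ q = b ∨ q = c ∨ q = d) ∧ ¬ sh n p q ≤ n - g := by
    intro p hp
    by_contra h0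
    push Not at h0
    have := hcon p hp (h0 a (by simp)) (h0 b (by simp)) (h0 c (by simp))
    have h1 := h0 d (by simp)
    omega
  have key2 : ∀ p < n, Q n g a p ∨ Q n g b p ∨ Q n g c p ∨ Q n g d p := by
    intro p hp
    obtain ⟨q, hq, h1⟩ := key p hp
    rcases hq with rfl | rfl | rfl | rfl
    · exact Or.inl (sh_le_aux hp ha h1 hgn)
    · exact Or.inr (Or.inl (sh_le_aux hp hb h1 hgn))
    · exact Or.inr (Or.inr (Or.inl (sh_le_aux hp hc h1 hgn)))
    · exact Or.inr (Or.inr (Or.inr (sh_le_aux hp hd h1 hgn)))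
  have hir : ∀ x, ¬ Q n g x x := by
    intro x hx
    rcases hx with hx | hx <;> exact lt_irrefl _ hx.1
  have h1 := (key2 a ha).resolve_left (hir a)
  have h2 : Q n g a b ∨ Q n g c b ∨ Q n g d b := by
    rcases key2 b hb with h | h | h | h
    · exact Or.inl h
    · exact absurd h (hir b)
    · exact Or.inr (Or.inl h)
    · exact Or.inr (Or.inr h)
  have h3 : Q n g a c ∨ Q n g b c ∨ Q n g d c := by
    rcases key2 c hc with h | h | h | h
    · exact Or.inl h
    · exact Or.inr (Or.inl h)
    · exact absurd h (hir c)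
    · exact Or.inr (Or.inr h)
  have h4 : Q n g a d ∨ Q n g b d ∨ Q n g c d := by
    rcases key2 d hd with h | h | h | h
    · exact Or.inl h
    · exact Or.inr (Or.inl h)
    · exact Or.inr (Or.inr h)
    · exact absurd h (hir d)
  exact shift_aux hg ha hb hc hd h1 h2 h3 h4

theorem sh_inj {n p a b : ℕ} (hp : p < n) (ha : a < n) (hb : b < n) (h : sh n p a = sh n p b) : a = b := by
  unfold sh at h
  split_ifs at h <;> omega

theorem four_mul_le {g : ℕ} (hg : 6 ≤ g) : 4 * g ≤ 2 ^ (g - 1) := by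
  obtain ⟨t, rfl⟩ := Nat.exists_eq_add_of_le hg
  induction t with
  | zero => norm_num
  | succ t ih =>
    have h1 : 6 + (t + 1) - 1 = (6 + t - 1) + 1 := by omega
    rw [h1, pow_succ]
    have := ih (by omega)
    omega

/-- the possible indices `d` -/
theorem cases_d {n d : ℕ} (hn : 1 ≤ n) (hd : d ∣ n) (hd2 : d ∣ 2 ^ n - 1) :
    d = 1 ∨ (n = 6 ∧ d = 3) ∨ ∃ g, 1 ≤ g ∧ 4 * g < n + 4 ∧ d ≤ 2 ^ (g - 1) := by
  rcases Nat.lt_or_ge n 21 with h | h
  · have hg : d ∣ Nat.gcd n (2 ^ n - 1) := Nat.dvd_gcd hd hd2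
    have hle := fun h0 : 0 < Nat.gcd n (2 ^ n - 1) => Nat.le_of_dvd h0 hg
    interval_cases n
    all_goals norm_num at hg hle
    all_goals first
      | exact Or.inl hg
      | skip
    · -- n = 6
      have h3 : d ∣ 3 := hg
      rcases (Nat.dvd_prime Nat.prime_three).mp h3 with h4 | h4
      · exact Or.inl h4
      · exact Or.inr (Or.inl ⟨rfl, h4⟩)
    · right; right
      exact ⟨3, by norm_num, by norm_num, by norm_num; omega⟩
    · right; right
      exact ⟨5, by norm_num, by norm_num, by norm_num; omega⟩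
    · right; right
      exact ⟨5, by norm_num, by norm_num, by norm_num; omega⟩
  · right; right
    refine ⟨(n + 3) / 4, by omega, by omega, ?_⟩
    have h1 : d ≤ n := Nat.le_of_dvd (by omega) hd
    have h2 := four_mul_le (g := (n + 3) / 4) (by omega)
    omega

theorem six_case : ∀ i < 6, ∀ j < 6, ∀ k < 6, (2 ^ k + 2 ^ j) % 21 = (1 + 2 ^ ((i + k) % 6)) % 21 → j = i := by
  decide

section
variable {F : Type*} [Field F] [Fintype F]

theorem weight2 {n d : ℕ} (hn : Fintype.card F = 2 ^ n) (hn2 : 2 ≤ n) {lam : F} (hlam : orderOf lam * d = 2 ^ n - 1)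
    (hdn : d ∣ n) {i j k : ℕ} (hi : i < n) (hj : j < n) (hk : k < n)
    (h : lam ^ (2 ^ k) * lam ^ (2 ^ j) = lam ^ (2 ^ 0) * lam ^ (2 ^ ((i + k) % n))) : j = i := by
  have h4 : 4 ≤ 2 ^ n := by
    calc 4 = 2 ^ 2 := rfl
      _ ≤ 2 ^ n := Nat.pow_le_pow_right (by norm_num) hn2
  have hlt : (i + k) % n < n := Nat.mod_lt _ (by omega)
  have hl0 : lam ≠ 0 := by
    rintro rfl
    have : orderOf (0 : F) = 0 := by
      rw [orderOf_eq_zero_iff']
      intro m hm
      rw [zero_pow hm.ne']
      exact zero_ne_one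
    rw [this, zero_mul] at hlam
    omega
  have hper : ∀ x : ℕ, lam ^ (2 ^ (x + n)) = lam ^ (2 ^ x) := by
    intro x
    rw [add_comm, pow_add, pow_mul, ← hn, FiniteField.pow_card lam]
  have hord : ∀ x y : ℕ, lam ^ x = lam ^ y → x ≡ y [MOD orderOf lam] := by
    intro x y hxy
    obtain ⟨u, hu⟩ := IsUnit.mk0 lam hl0
    rw [← hu, ← Units.val_pow_eq_pow_val, ← Units.val_pow_eq_pow_val, Units.val_inj, pow_eq_pow_iff_modEq] at hxy
    rw [← hu, orderOf_units]
    exact hxy
  have hend : ((k = 0 ∧ j = (i + k) % n) ∨ (k = (i + k) % n ∧ j = 0)) → j = i := by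
    rintro (⟨h3, h5⟩ | ⟨h3, h5⟩)
    · subst h3
      rw [add_zero, Nat.mod_eq_of_lt hi] at h5
      exact h5
    · have h6 : i = 0 := by
        rcases Nat.lt_or_ge (i + k) n with h6 | h6
        · rw [Nat.mod_eq_of_lt h6] at h3
          omega
        · rw [Nat.mod_eq_sub_mod h6, Nat.mod_eq_of_lt (by omega)] at h3
          omega
      exact h5.trans h6.symm
  rcases cases_d (by omega) hdn (Dvd.intro_left _ hlam) with h1 | ⟨h1, h2⟩ | ⟨g, hg1, hg2, hg3⟩
  · subst h1
    rw [mul_one] at hlam
    rw [← pow_add, ← pow_add] at h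
    have h5 := hord _ _ h
    rw [hlam] at h5
    exact hend (H16.Suz.weight_modEq hk hj (by omega) hlt h5)
  · subst h1 h2
    have hm : orderOf lam = 21 := by
      norm_num at hlam
      omega
    rw [← pow_add, ← pow_add] at h
    have h5 := hord _ _ h
    rw [hm, pow_zero] at h5
    exact six_case i hi j hj k hk h5
  · apply hend
    obtain ⟨p, hp, h1, h2, h3, h5⟩ := shift_exists (a := k) (b := j) (c := 0) (d := (i + k) % n) hg2 hk hj
      (by omega) hlt
    have hshp : ∀ q < n, lam ^ (2 ^ (q + (n - p))) = lam ^ (2 ^ (sh n p q)) := by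
      intro q hq
      unfold sh
      split_ifs with hpq
      · have : q + (n - p) = (q - p) + n := by omega
        rw [this, hper]
      · have : q + (n - p) = q + n - p := by omega
        rw [this]
    have h6 := congrArg (fun x => x ^ (2 ^ (n - p))) h
    have h6' : ∀ q, (lam ^ (2 ^ q)) ^ (2 ^ (n - p)) = lam ^ (2 ^ (q + (n - p))) := fun q => by
      rw [← pow_mul, ← pow_add]
    simp only [mul_pow] at h6
    rw [h6', h6', h6', h6', hshp k hk, hshp j hj, hshp 0 (by omega), hshp _ hlt, ← pow_add, ← pow_add] at h6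
    have h7 := hord _ _ h6
    have hm : 2 ^ (n - g + 1) - 2 < orderOf lam := by
      have hd0 : 0 < d := Nat.pos_of_dvd_of_pos hdn (by omega)
      by_contra hcon
      push Not at hcon
      have e2 : orderOf lam * d ≤ (2 ^ (n - g + 1) - 2) * 2 ^ (g - 1) := Nat.mul_le_mul hcon hg3
      have e3 : (2 ^ (n - g + 1) - 2) * 2 ^ (g - 1) = 2 ^ n - 2 * 2 ^ (g - 1) := by
        rw [Nat.sub_mul, ← pow_add]
        congr 2
        omega
      have e4 : 1 ≤ 2 ^ (g - 1) := Nat.one_le_two_pow
      rw [hlam, e3] at e2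
      omega
    have hb : ∀ x, x ≤ n - g → 2 ^ x * 2 ≤ 2 ^ (n - g + 1) := by
      intro x hx
      rw [← pow_succ]
      exact Nat.pow_le_pow_right (by norm_num) (by omega)
    have p1 : 1 ≤ 2 ^ (sh n p k) := Nat.one_le_two_pow
    have p2 : 1 ≤ 2 ^ (sh n p j) := Nat.one_le_two_pow
    have p3 : 1 ≤ 2 ^ (sh n p 0) := Nat.one_le_two_pow
    have p4 : 1 ≤ 2 ^ (sh n p ((i + k) % n)) := Nat.one_le_two_pow
    have b1 := hb _ h1
    have b2 := hb _ h2
    have b3 := hb _ h3
    have b4 := hb _ h5
    have key : 2 ^ (sh n p k) + 2 ^ (sh n p j) = 2 ^ (sh n p 0) + 2 ^ (sh n p ((i + k) % n)) := by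
      rcases le_total (2 ^ (sh n p k) + 2 ^ (sh n p j)) (2 ^ (sh n p 0) + 2 ^ (sh n p ((i + k) % n))) with hle' | hle'
      · have hdvd := (Nat.modEq_iff_dvd' hle').mp h7
        rcases Nat.eq_zero_or_pos ((2 ^ (sh n p 0) + 2 ^ (sh n p ((i + k) % n))) - (2 ^ (sh n p k) + 2 ^ (sh n p j))) with h0 | h0
        · omega
        · have := Nat.le_of_dvd h0 hdvd
          omega
      · have hdvd := (Nat.modEq_iff_dvd' hle').mp h7.symm
        rcases Nat.eq_zero_or_pos ((2 ^ (sh n p k) + 2 ^ (sh n p j)) - (2 ^ (sh n p 0) + 2 ^ (sh n p ((i + k) % n)))) with h0 | h0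
        · omega
        · have := Nat.le_of_dvd h0 hdvd
          omega
    have fin : (sh n p k = sh n p 0 ∧ sh n p j = sh n p ((i + k) % n)) ∨
        (sh n p k = sh n p ((i + k) % n) ∧ sh n p j = sh n p 0) := by
      rcases le_total (sh n p k) (sh n p j) with hab | hab <;>
        rcases le_total (sh n p 0) (sh n p ((i + k) % n)) with hcd | hcd
      · exact Or.inl (H16.Suz.two_pow_add_inj hab hcd key)
      · have := H16.Suz.two_pow_add_inj hab hcd (by omega)
        exact Or.inr this
      · have := H16.Suz.two_pow_add_inj hab hcd (by omega)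
        exact Or.inr ⟨this.2, this.1⟩
      · have := H16.Suz.two_pow_add_inj hab hcd (by omega)
        exact Or.inl ⟨this.2, this.1⟩
    rcases fin with ⟨f1, f2⟩ | ⟨f1, f2⟩
    · exact Or.inl ⟨sh_inj hp hk (by omega) f1, sh_inj hp hj hlt f2⟩
    · exact Or.inr ⟨sh_inj hp hk hlt f1, sh_inj hp hj (by omega) f2⟩

end

section
variable {F : Type*} [Field F] [Fintype F] [CharP F 2] {P : Type*} [Group P] [Finite P]

theorem keyLemma {n d : ℕ} (hn : Fintype.card F = 2 ^ n) (hn2 : 2 ≤ n) {lam : F} (hlam : orderOf lam * d = 2 ^ n - 1)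
    (hdn : d ∣ n)
    (ξ : P → P) {N B : Subgroup P} (hNB : N ≤ B) (hξB : ∀ x ∈ B, ξ x ∈ B)
    (irr : ∀ W : Subgroup P, N ≤ W → W ≤ B → (∀ w ∈ W, ξ w ∈ W) → W = N ∨ W = B)
    (hcard : 2 ^ n * Nat.card N ≤ Nat.card B) (c : P → F → F)
    (hadd : ∀ x ∈ B, ∀ y y', c x (y + y') = c x y + c x y')
    (hmul : ∀ x ∈ B, ∀ x' ∈ B, ∀ y, c (x * x') y = c x y + c x' y)
    (hN : ∀ x ∈ N, ∀ y, c x y = 0)
    (hequiv : ∀ x ∈ B, ∀ y, c (ξ x) (lam * y) = lam * c x y) :
    (∀ x ∈ B, ∀ y, c x y = 0) ∨ (∀ x ∈ B, ∀ y, c x y = 0 → x ∈ N ∨ y = 0) := by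
  classical
  have h0 : ∀ x : P, ∃ f : ℕ → F, x ∈ B → ∀ y, c x y = ∑ i ∈ range n, f i * y ^ (2 ^ i) := by
    intro x
    by_cases hx : x ∈ B
    · obtain ⟨f, hf⟩ := H16.Suz.exists_coeff hn (c x) (hadd x hx)
      exact ⟨f, fun _ => hf⟩
    · exact ⟨0, fun h => (hx h).elim⟩
  choose f hf using h0
  have hl0 : 1 ≤ n → lam ≠ 0 := by
    intro h1
    rintro rfl
    have h2 : 2 ≤ 2 ^ n := by
      calc 2 = 2 ^ 1 := rfl
        _ ≤ 2 ^ n := Nat.pow_le_pow_right (by norm_num) h1
    have : orderOf (0 : F) = 0 := by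
      rw [orderOf_eq_zero_iff', ]
      intro m hm
      rw [zero_pow hm.ne']
      exact zero_ne_one
    rw [this, zero_mul] at hlam
    omega
  have f_mul : ∀ x ∈ B, ∀ x' ∈ B, ∀ i < n, f (x * x') i = f x i + f x' i := by
    intro x hx x' hx' i hi
    have := H16.Suz.coeff_unique hn (fun i => f (x * x') i - (f x i + f x' i)) (by
      intro y
      simp only [sub_mul, add_mul, sum_sub_distrib, sum_add_distrib]
      rw [← hf _ (B.mul_mem hx hx'), ← hf _ hx, ← hf _ hx', hmul x hx x' hx', sub_self]) i hi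
    exact sub_eq_zero.mp this
  have f_N : ∀ x ∈ N, ∀ i < n, f x i = 0 := by
    intro x hx i hi
    exact H16.Suz.coeff_unique hn (f x) (by intro y; rw [← hf _ (hNB hx), hN x hx]) i hi
  have f_one : ∀ i < n, f 1 i = 0 := f_N 1 N.one_mem
  have f_inv : ∀ x ∈ B, ∀ i < n, f x⁻¹ i = - f x i := by
    intro x hx i hi
    have := f_mul x hx x⁻¹ (B.inv_mem hx) i hi
    rw [mul_inv_cancel, f_one i hi] at this
    exact (neg_eq_of_add_eq_zero_right this.symm).symm
  have f_ξ : ∀ x ∈ B, ∀ i < n, f (ξ x) i * lam ^ (2 ^ i) = lam * f x i := by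
    intro x hx i hi
    have := H16.Suz.coeff_unique hn (fun i => f (ξ x) i * lam ^ (2 ^ i) - lam * f x i) (by
      intro y
      simp only [sub_mul, sum_sub_distrib]
      have h1 : ∑ i ∈ range n, f (ξ x) i * lam ^ (2 ^ i) * y ^ (2 ^ i) = c (ξ x) (lam * y) := by
        rw [hf _ (hξB x hx)]
        refine sum_congr rfl fun i _ => ?_
        rw [mul_pow]; ring
      have h2 : ∑ i ∈ range n, lam * f x i * y ^ (2 ^ i) = lam * c x y := by
        rw [hf _ hx, mul_sum]
        refine sum_congr rfl fun i _ => ?_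
        ring
      rw [h1, h2, hequiv x hx, sub_self]) i hi
    exact sub_eq_zero.mp this
  -- the kernels
  let W : ∀ i : ℕ, i < n → Subgroup P := fun i hi =>
    { carrier := {x | x ∈ B ∧ f x i = 0}
      one_mem' := ⟨B.one_mem, f_one i hi⟩
      mul_mem' := by
        rintro x y ⟨hx, hx0⟩ ⟨hy, hy0⟩
        refine ⟨B.mul_mem hx hy, ?_⟩
        rw [f_mul x hx y hy i hi, hx0, hy0, add_zero]
      inv_mem' := by
        rintro x ⟨hx, hx0⟩
        refine ⟨B.inv_mem hx, ?_⟩
        rw [f_inv x hx i hi, hx0, neg_zero] }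
  have hWmem : ∀ i (hi : i < n) x, x ∈ W i hi ↔ x ∈ B ∧ f x i = 0 := fun i hi x => Iff.rfl
  have hW : ∀ i (hi : i < n), W i hi = N ∨ W i hi = B := by
    intro i hi
    refine irr _ ?_ ?_ ?_
    · intro x hx
      exact ⟨hNB hx, f_N x hx i hi⟩
    · intro x hx
      exact hx.1
    · intro x hx
      refine ⟨hξB x hx.1, ?_⟩
      have := f_ξ x hx.1 i hi
      rw [hx.2, mul_zero] at this
      rcases mul_eq_zero.mp this with h | h
      · exact h
      · exact absurd h (pow_ne_zero _ (hl0 (by omega)))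
  by_cases hall : ∀ i (hi : i < n), W i hi = B
  · left
    intro x hx y
    rw [hf x hx]
    refine sum_eq_zero fun i hi => ?_
    have hi' := mem_range.mp hi
    have : x ∈ W i hi' := by rw [hall i hi']; exact hx
    rw [this.2, zero_mul]
  · right
    push Not at hall
    obtain ⟨i, hi, hWi⟩ := hall
    have hWN : W i hi = N := (hW i hi).resolve_right hWi
    have hlt1 : 1 ≤ n := by omega
    have hlam0 := hl0 hlt1
    -- `f · i : B → F` is surjective
    have hsurj : ∀ z : F, ∃ x ∈ B, f x i = z := by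
      let φ : B →* Multiplicative F :=
        { toFun := fun x => Multiplicative.ofAdd (f (x : P) i)
          map_one' := by
            have : f ((1 : B) : P) i = 0 := f_one i hi
            rw [this]; rfl
          map_mul' := by
            intro x y
            have : f ((x * y : B) : P) i = f (x : P) i + f (y : P) i := f_mul _ x.2 _ y.2 i hi
            rw [this]; rfl }
      have hker : φ.ker = N.subgroupOf B := by
        ext x
        rw [MonoidHom.mem_ker, Subgroup.mem_subgroupOf, ← hWN]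
        constructor
        · intro h
          exact ⟨x.2, Multiplicative.ofAdd.injective h⟩
        · intro h
          exact congrArg Multiplicative.ofAdd h.2
      have h1 : Nat.card φ.range * Nat.card φ.ker = Nat.card B := by
        rw [← Subgroup.index_ker, mul_comm]
        exact Subgroup.card_mul_index _
      have h2 : Nat.card φ.ker = Nat.card N := by
        rw [hker]
        exact Nat.card_congr (Subgroup.subgroupOfEquivOfLe hNB).toEquiv
      have h3 : 2 ^ n ≤ Nat.card φ.range := by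
        rw [h2] at h1
        rw [← h1] at hcard
        exact Nat.le_of_mul_le_mul_right hcard Nat.card_pos
      have h4 : φ.range = ⊤ := by
        apply Subgroup.eq_top_of_le_card
        rw [Nat.card_eq_fintype_card (α := Multiplicative F), Fintype.card_multiplicative, hn]
        exact h3
      intro z
      have : Multiplicative.ofAdd z ∈ φ.range := by rw [h4]; trivial
      obtain ⟨x, hx⟩ := this
      exact ⟨x, x.2, Multiplicative.ofAdd.injective hx⟩
    choose s hs hfs using hsurj
    -- all other coefficients vanish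
    have hother : ∀ j (hj : j < n), j ≠ i → ∀ x ∈ B, f x j = 0 := by
      intro j hj hji
      by_contra hcon
      have hWj : W j hj = N := by
        refine (hW j hj).resolve_right fun h => hcon ?_
        intro x hx
        rw [← h] at hx
        exact hx.2
      let g : F → F := fun z => f (s z) j
      have hg : ∀ x ∈ B, g (f x i) = f x j := by
        intro x hx
        have h1 : s (f x i) * x⁻¹ ∈ W i hi := by
          refine ⟨B.mul_mem (hs _) (B.inv_mem hx), ?_⟩
          rw [f_mul _ (hs _) _ (B.inv_mem hx) i hi, hfs, f_inv x hx i hi, add_neg_cancel]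
        rw [hWN, ← hWj] at h1
        have h2 := h1.2
        rw [f_mul _ (hs _) _ (B.inv_mem hx) j hj, f_inv x hx j hj] at h2
        exact add_neg_eq_zero.mp h2
      have hgadd : ∀ z w, g (z + w) = g z + g w := by
        intro z w
        have h1 := hg (s z * s w) (B.mul_mem (hs _) (hs _))
        rw [f_mul _ (hs _) _ (hs _) i hi, hfs, hfs, f_mul _ (hs _) _ (hs _) j hj] at h1
        exact h1
      obtain ⟨d, hd⟩ := H16.Suz.exists_coeff hn g hgadd
      -- equivariance of g
      let mu : F := lam * (lam ^ (2 ^ i))⁻¹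
      have hmu : mu * lam ^ (2 ^ i) = lam := by
        simp only [mu]
        rw [mul_assoc, inv_mul_cancel₀ (pow_ne_zero _ hlam0), mul_one]
      have hgeq : ∀ z, g (mu * z) * lam ^ (2 ^ j) = lam * g z := by
        intro z
        have h1 : f (ξ (s z)) i = mu * z := by
          have := f_ξ (s z) (hs z) i hi
          rw [hfs] at this
          have h3 : f (ξ (s z)) i * lam ^ (2 ^ i) = (mu * z) * lam ^ (2 ^ i) := by
            rw [this]
            calc lam * z = (mu * lam ^ (2 ^ i)) * z := by rw [hmu]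
              _ = _ := by ring
          exact mul_right_cancel₀ (pow_ne_zero _ hlam0) h3
        have h2 := f_ξ (s z) (hs z) j hj
        rw [← hg _ (hξB _ (hs z)), h1] at h2
        exact h2
      have hdz : ∀ m < n, d m * (mu ^ (2 ^ m) * lam ^ (2 ^ j) - lam) = 0 := by
        intro m hm
        refine H16.Suz.coeff_unique hn (fun m => d m * (mu ^ (2 ^ m) * lam ^ (2 ^ j) - lam)) ?_ m hm
        intro z
        have h1 := hgeq z
        rw [hd, hd, sum_mul, mul_sum] at h1
        rw [← sub_eq_zero.mpr h1, ← sum_sub_distrib]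
        refine sum_congr rfl fun m _ => ?_
        rw [mul_pow]; ring
      -- some d m is nonzero
      have hex : ∃ m, m < n ∧ d m ≠ 0 := by
        by_contra hno
        push Not at hno
        refine hcon fun x hx => ?_
        rw [← hg x hx, hd]
        refine sum_eq_zero fun m hm => ?_
        rw [hno m (mem_range.mp hm), zero_mul]
      obtain ⟨m, hm, hdm⟩ := hex
      have h1 : mu ^ (2 ^ m) * lam ^ (2 ^ j) = lam :=
        sub_eq_zero.mp ((mul_eq_zero.mp (hdz m hm)).resolve_left hdm)
      -- multiply by lam^(2^(i+m))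
      have h2 : lam ^ (2 ^ m) * lam ^ (2 ^ j) = lam ^ (2 ^ 0) * lam ^ (2 ^ ((i + m) % n)) := by
        have h3 : lam ^ (2 ^ ((i + m) % n)) = (lam ^ (2 ^ i)) ^ (2 ^ m) := by
          rw [← pow_mul, ← pow_add]
          have hq : lam ^ (2 ^ n) = lam := by rw [← hn]; exact FiniteField.pow_card lam
          have hqk : ∀ k : ℕ, lam ^ (2 ^ (n * k)) = lam := by
            intro k
            induction k with
            | zero => simp
            | succ k ih => rw [Nat.mul_succ, pow_add, pow_mul, ih, hq]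
          conv_rhs => rw [← Nat.mod_add_div (i + m) n, pow_add, mul_comm, pow_mul, hqk]
        rw [h3]
        calc lam ^ (2 ^ m) * lam ^ (2 ^ j) = (mu * lam ^ (2 ^ i)) ^ (2 ^ m) * lam ^ (2 ^ j) := by rw [hmu]
          _ = (mu ^ (2 ^ m) * lam ^ (2 ^ j)) * (lam ^ (2 ^ i)) ^ (2 ^ m) := by rw [mul_pow]; ring
          _ = _ := by rw [h1, pow_zero, pow_one]
      exact hji (weight2 hn hn2 hlam hdn hi hj hm h2)
    intro x hx y hxy
    rw [hf x hx, sum_eq_single i] at hxy
    · rcases mul_eq_zero.mp hxy with h | h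
      · left
        rw [← hWN]
        exact ⟨hx, h⟩
      · right
        exact pow_eq_zero_iff (by positivity) |>.mp h
    · intro j hj hji
      rw [hother j (mem_range.mp hj) hji x hx, zero_mul]
    · intro h
      exact (h (mem_range.mpr hi)).elim

end

end H66.Hig
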