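import Mathlib
import Cfsg.Agent.Lib.H66.Hig1
import Cfsg.Agent.Lib.H16.Suz4

/-!
Basic facts on finite 2-groups whose automorphism group is transitive on the involutions, with an automorphism `ξ`
of odd order inducing on the group of involutions a field multiplication of order `(2^n - 1)/d`, `d ∣ n`.
-/

set_option autoImplicit false

namespace H66.Hig

open Subgroup H16.Suz

universe u

/-- coordinates on the set of elements of order at most two, in which `ξ` is a multiplication of order `(2^n-1)/d` -/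
structure Co {P : Type u} [Group P] (ξ : MulAut P) (F : Type) [Field F] [Fintype F] (n d : ℕ) (lam : F) (ψ : P → F) :
    Prop where
  n2 : 2 ≤ n
  card : Fintype.card F = 2 ^ n
  ord : orderOf lam * d = 2 ^ n - 1
  dvd : d ∣ n
  add : ∀ x, x * x = 1 → ∀ y, y * y = 1 → ψ (x * y) = ψ x + ψ y
  inj : ∀ x, x * x = 1 → ψ x = 0 → x = 1
  surj : ∀ y, ∃ x, x * x = 1 ∧ ψ x = y
  eqv : ∀ x, x * x = 1 → ψ (ξ x) = lam * ψ x

structure RS (P : Type u) [Group P] (ξ : MulAut P) : Prop where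
  pg : IsPGroup 2 P
  tr : ∀ x y : P, x ≠ 1 → x * x = 1 → y ≠ 1 → y * y = 1 → ∃ a : MulAut P, a x = y
  two : ∃ x y : P, x ≠ y ∧ x ≠ 1 ∧ x * x = 1 ∧ y ≠ 1 ∧ y * y = 1
  odd : Odd (orderOf ξ)
  co : ∃ (F : Type) (_ : Field F) (_ : Fintype F) (_ : CharP F 2) (n d : ℕ) (lam : F) (ψ : P → F), Co ξ F n d lam ψ

section
variable {P : Type u} [Group P] [Finite P] {ξ : MulAut P}

theorem inv_central (h : RS P ξ) {x : P} (hx : x * x = 1) : x ∈ center P := by
  by_cases hx1 : x = 1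
  · rw [hx1]; exact one_mem _
  have : Nontrivial P := ⟨⟨x, 1, hx1⟩⟩
  have hc : Nontrivial (center P) := h.pg.center_nontrivial
  obtain ⟨⟨z, hz⟩, hz1⟩ := exists_ne (1 : center P)
  have hz1' : z ≠ 1 := fun e => hz1 (Subtype.ext e)
  obtain ⟨m, hm1, hm2⟩ := exists_pow_invol h.pg hz1'
  obtain ⟨a, ha⟩ := h.tr _ x hm1 hm2 hx1 hx
  rw [← ha]
  have hzm : z ^ m ∈ center P := pow_mem hz m
  rw [mem_center_iff] at hzm ⊢
  intro g
  have := congrArg a (hzm (a⁻¹ g))
  rw [map_mul, map_mul, MulAut.apply_inv_self] at this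
  exact this

theorem inv_comm (h : RS P ξ) {x : P} (hx : x * x = 1) (g : P) : x * g = g * x :=
  ((mem_center_iff.mp (inv_central h hx)) g).symm

/-- the subgroup of elements of order at most two -/
def E (h : RS P ξ) : Subgroup P where
  carrier := {x | x * x = 1}
  one_mem' := one_mul 1
  mul_mem' := by
    intro x y hx hy
    change x * y * (x * y) = 1
    have hx' : x * x = 1 := hx
    have hy' : y * y = 1 := hy
    calc x * y * (x * y) = x * (y * x) * y := by group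
      _ = x * (x * y) * y := by rw [inv_comm h hy' x]
      _ = (x * x) * (y * y) := by group
      _ = 1 := by rw [hx', hy', one_mul]
  inv_mem' := by
    intro x hx
    change x⁻¹ * x⁻¹ = 1
    rw [← mul_inv_rev, (hx : x * x = 1), inv_one]

theorem mem_E {h : RS P ξ} {x : P} : x ∈ E h ↔ x * x = 1 := Iff.rfl

theorem E_inv' {h : RS P ξ} (a : MulAut P) : ∀ x ∈ E h, a x ∈ E h := by
  intro x hx
  rw [mem_E] at hx ⊢
  rw [← map_mul, hx, map_one]

theorem E_inv {h : RS P ξ} : ∀ x ∈ E h, ξ x ∈ E h := E_inv' ξ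

/-- if `ξ ^ k` fixes a nontrivial element then `lam ^ k = 1` -/
theorem lam_pow (h : RS P ξ) {F : Type} [Field F] [Fintype F] {n d : ℕ} {lam : F} {ψ : P → F} (c : Co ξ F n d lam ψ)
    {k : ℕ} {x : P} (hx : (ξ ^ k) x = x) (hx1 : x ≠ 1) : lam ^ k = 1 := by
  obtain ⟨m, hm1, hm2⟩ := exists_pow_invol h.pg hx1
  have h1 : (ξ ^ k) (x ^ m) = x ^ m := by rw [map_pow, hx]
  have h2 : ∀ j : ℕ, (ξ ^ j) (x ^ m) * (ξ ^ j) (x ^ m) = 1 ∧ ψ ((ξ ^ j) (x ^ m)) = lam ^ j * ψ (x ^ m) := by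
    intro j
    induction j with
    | zero => exact ⟨hm2, by simp⟩
    | succ j ih =>
      rw [pow_succ', MulAut.mul_apply]
      refine ⟨by rw [← map_mul, ih.1, map_one], ?_⟩
      rw [c.eqv _ ih.1, ih.2, pow_succ']
      ring
  have h3 := (h2 k).2
  rw [h1] at h3
  have h4 : ψ (x ^ m) ≠ 0 := fun h0 => hm1 (c.inj _ hm2 h0)
  exact (mul_eq_right₀ h4).mp h3.symm

theorem lam_ne_one {n d : ℕ} {F : Type} [Field F] [Fintype F] {lam : F} {ψ : P → F} (c : Co ξ F n d lam ψ) :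
    lam ≠ 1 := by
  rintro rfl
  have h1 := c.ord
  rw [orderOf_one, one_mul] at h1
  have h2 := Nat.le_of_dvd (by have := c.n2; omega) c.dvd
  have h3 : n < 2 ^ n := Nat.lt_two_pow_self
  have h4 : d = n := by omega
  subst h4
  -- n = 2^n - 1 with n ≥ 2
  have h5 := c.n2
  have h6 : d + 1 < 2 ^ d := by
    clear h1 h2 h3 c
    induction d, h5 using Nat.le_induction with
    | base => norm_num
    | succ k hk ih => rw [pow_succ]; omega
  omega

theorem fpf_one (h : RS P ξ) {x : P} (hx : ξ x = x) : x = 1 := by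
  by_contra hx1
  obtain ⟨F, _, _, _, n, d, lam, ψ, c⟩ := h.co
  have := lam_pow h c (k := 1) (by rw [pow_one]; exact hx) hx1
  rw [pow_one] at this
  exact lam_ne_one c this

theorem fpf_sec (h : RS P ξ) {N : Subgroup P} (hN : ∀ x ∈ N, ξ x ∈ N) {x : P} (hx : ξ x * x⁻¹ ∈ N) : x ∈ N := by
  let f : N → N := fun n => ⟨ξ (n : P) * (n : P)⁻¹, N.mul_mem (hN _ n.2) (N.inv_mem n.2)⟩
  have hf : Function.Injective f := by
    intro n m hnm
    have h1 : ξ (n : P) * (n : P)⁻¹ = ξ (m : P) * (m : P)⁻¹ := congrArg Subtype.val hnm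
    have h2 : ξ ((m : P)⁻¹ * n) = (m : P)⁻¹ * n := by
      rw [map_mul, map_inv]
      have h3 : ξ (n : P) = ξ (m : P) * (m : P)⁻¹ * n := by rw [← h1]; group
      rw [h3]; group
    have h3 := fpf_one h h2
    exact Subtype.ext (inv_mul_eq_one.mp h3).symm
  obtain ⟨n, hn⟩ := Finite.surjective_of_injective hf ⟨_, hx⟩
  have h1 : ξ (n : P) * (n : P)⁻¹ = ξ x * x⁻¹ := congrArg Subtype.val hn
  have h2 : ξ ((n : P)⁻¹ * x) = (n : P)⁻¹ * x := by
    rw [map_mul, map_inv]
    have h3 : ξ x = ξ (n : P) * (n : P)⁻¹ * x := by rw [h1]; group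
    rw [h3]; group
  have h3 := fpf_one h h2
  rw [← inv_mul_eq_one.mp h3]
  exact n.2

/-- the order of `lam` divides `|H| - 1` for `ξ`-invariant `H` -/
theorem ord_dvd (h : RS P ξ) {F : Type} [Field F] [Fintype F] {n d : ℕ} {lam : F} {ψ : P → F} (c : Co ξ F n d lam ψ)
    {H : Subgroup P} (hH : ∀ x ∈ H, ξ x ∈ H) : orderOf lam ∣ Nat.card H - 1 := by
  classical
  let X := {x : P // x ∈ H ∧ x ≠ 1}
  let D := zpowers ξ
  let _ : MulAction D X :=
    { smul := fun d x => ⟨(d : MulAut P) x, by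
        obtain ⟨k, hk⟩ := d.2
        have hk' : ξ ^ k = (d : MulAut P) := hk
        refine ⟨?_, ?_⟩
        · rw [← hk']
          exact zpow_inv_of hH k x.2.1
        · intro h1
          exact x.2.2 (by simpa using h1)⟩
      one_smul := fun x => rfl
      mul_smul := fun d d' x => rfl }
  have hXH : Nat.card X + 1 = Nat.card H := by
    have e1 : Nat.card H = Nat.card {x : H // x ≠ 1} + 1 := by
      have := Fintype.ofFinite H
      rw [Nat.card_eq_fintype_card, Nat.card_eq_fintype_card, Fintype.card_subtype_compl, Fintype.card_subtype_eq]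
      have : 0 < Fintype.card H := Fintype.card_pos
      omega
    rw [e1]
    congr 1
    refine Nat.card_congr ⟨fun x => ⟨⟨x.1, x.2.1⟩, fun e => x.2.2 (congrArg Subtype.val e)⟩,
      fun x => ⟨x.1.1, x.1.2, fun e => x.2 (Subtype.ext e)⟩, fun x => rfl, fun x => rfl⟩
  rw [← hXH, Nat.add_sub_cancel]
  have : Finite X := Subtype.finite
  have := Fintype.ofFinite (MulAction.orbitRel.Quotient D X)
  have hX := Nat.card_congr (MulAction.selfEquivSigmaOrbits D X)
  rw [Nat.card_sigma] at hX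
  rw [hX]
  refine Finset.dvd_sum fun ω _ => ?_
  -- the orbit has size divisible by orderOf lam
  set x : X := ω.out with hxdef
  have h1 : Nat.card (MulAction.orbit D x) = (MulAction.stabilizer D x).index := by
    rw [MulAction.index_stabilizer, Nat.card_coe_set_eq]
  rw [h1]
  -- homomorphism D → F^* modulo
  have hξD : ∀ k : ℕ, (⟨ξ, mem_zpowers ξ⟩ : D) ^ k ∈ MulAction.stabilizer D x → lam ^ k = 1 := by
    intro k hk
    have h2 : (ξ ^ k) (x : P) = x := congrArg Subtype.val (MulAction.mem_stabilizer_iff.mp hk)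
    exact lam_pow h c h2 x.2.2
  have hcomm : ∀ a b : D, a * b = b * a := fun a b => by
    obtain ⟨_, i, rfl⟩ := a
    obtain ⟨_, j, rfl⟩ := b
    apply Subtype.ext
    change ξ ^ i * ξ ^ j = ξ ^ j * ξ ^ i
    rw [← zpow_add, ← zpow_add, add_comm]
  have hn : (MulAction.stabilizer D x).Normal := ⟨fun a ha g => by rw [hcomm g a, mul_inv_cancel_right]; exact ha⟩
  have h3 := (⟨ξ, mem_zpowers ξ⟩ : D).2
  refine orderOf_dvd_of_pow_eq_one (hξD _ ?_)
  exact Subgroup.pow_index_mem _ _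

end

theorem two_mul_lt {t : ℕ} (ht : 1 ≤ t) : 2 * t < 1 + 2 ^ t := by
  induction t, ht using Nat.le_induction with
  | base => norm_num
  | succ k hk ih =>
    rw [pow_succ]
    have : 2 ≤ 2 ^ k := by
      calc 2 = 2 ^ 1 := rfl
        _ ≤ 2 ^ k := Nat.pow_le_pow_right (by norm_num) hk
    omega

/-- `ord_m(2) = n` for `m = (2^n-1)/d`, `d ∣ n` -/
theorem dvd_of_dvd {n d m h : ℕ} (hn : 1 ≤ n) (hm : m * d = 2 ^ n - 1) (hd : d ∣ n) (hh : m ∣ 2 ^ h - 1) : n ∣ h := by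
  have h1 : m ∣ 2 ^ (n.gcd h) - 1 := by
    rw [← Nat.pow_sub_one_gcd_pow_sub_one]
    exact Nat.dvd_gcd (Dvd.intro _ hm) hh
  set g := n.gcd h with hg
  have hgn : g ∣ n := Nat.gcd_dvd_left _ _
  have hgh : g ∣ h := Nat.gcd_dvd_right _ _
  have hg0 : 1 ≤ g := Nat.pos_of_dvd_of_pos hgn hn
  suffices hgn' : g = n by rw [← hgn']; exact hgh
  by_contra hne
  obtain ⟨c, hc⟩ := hgn
  have hc2 : 2 ≤ c := by
    rcases Nat.lt_or_ge c 2 with h2 | h2
    · interval_cases c
      · omega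
      · exact absurd (by omega) hne
    · exact h2
  have h2g : 2 * g ≤ n := by
    rw [hc]
    calc 2 * g = g * 2 := by ring
      _ ≤ g * c := Nat.mul_le_mul_left g hc2
  have h2 : 2 ≤ 2 ^ g := by
    calc 2 = 2 ^ 1 := rfl
      _ ≤ 2 ^ g := Nat.pow_le_pow_right (by norm_num) hg0
  have h3 : m ≤ 2 ^ g - 1 := Nat.le_of_dvd (by omega) h1
  have h4 : d ≤ n := Nat.le_of_dvd (by omega) hd
  have h5 : n < 1 + 2 ^ (n - g) := by
    have := two_mul_lt (t := n - g) (by omega)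
    omega
  have h6 : m * d ≤ (2 ^ g - 1) * 2 ^ (n - g) := Nat.mul_le_mul h3 (by omega)
  have h7 : (2 ^ g - 1) * 2 ^ (n - g) = 2 ^ n - 2 ^ (n - g) := by
    rw [Nat.sub_mul, one_mul, ← pow_add]
    congr 2
    omega
  have h8 : 2 ≤ 2 ^ (n - g) := by
    calc 2 = 2 ^ 1 := rfl
      _ ≤ 2 ^ (n - g) := Nat.pow_le_pow_right (by norm_num) (by omega)
  have h9 : 2 ^ (n - g) ≤ 2 ^ n := Nat.pow_le_pow_right (by norm_num) (by omega)
  rw [hm, h7] at h6
  omega

section
variable {P : Type u} [Group P] [Finite P] {ξ : MulAut P}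

/-- the order of an invariant subgroup is a power of `q` -/
theorem card_pow (h : RS P ξ) {F : Type} [Field F] [Fintype F] {n d : ℕ} {lam : F} {ψ : P → F} (c : Co ξ F n d lam ψ)
    {H : Subgroup P} (hH : ∀ x ∈ H, ξ x ∈ H) : ∃ k, Nat.card H = (2 ^ n) ^ k := by
  obtain ⟨d', hd'⟩ := (h.pg.to_subgroup H).exists_card_eq
  have h1 := ord_dvd h c hH
  rw [hd'] at h1
  obtain ⟨k, rfl⟩ := dvd_of_dvd (by have := c.n2; omega) c.ord c.dvd h1
  exact ⟨k, by rw [hd', pow_mul]⟩

/-- a proper inclusion of invariant subgroups has index at least `q` -/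
theorem card_mul_le (h : RS P ξ) {F : Type} [Field F] [Fintype F] {n d : ℕ} {lam : F} {ψ : P → F} (c : Co ξ F n d lam ψ)
    {H K : Subgroup P} (hH : ∀ x ∈ H, ξ x ∈ H) (hK : ∀ x ∈ K, ξ x ∈ K) (hlt : H < K) :
    2 ^ n * Nat.card H ≤ Nat.card K := by
  obtain ⟨a, ha⟩ := card_pow h c hH
  obtain ⟨b, hb⟩ := card_pow h c hK
  have h1 : Nat.card H < Nat.card K := by
    refine lt_of_le_of_ne (Subgroup.card_le_of_le hlt.le) fun he => ?_
    exact hlt.ne (Subgroup.eq_of_le_of_card_ge hlt.le he.ge)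
  rw [ha, hb] at h1 ⊢
  have h2 : a < b := by
    by_contra hcon
    exact absurd h1 (not_lt.mpr (Nat.pow_le_pow_right (Nat.one_le_two_pow) (by omega)))
  rw [← pow_succ']
  exact Nat.pow_le_pow_right (Nat.one_le_two_pow) h2

theorem card_E (h : RS P ξ) {F : Type} [Field F] [Fintype F] {n d : ℕ} {lam : F} {ψ : P → F} (c : Co ξ F n d lam ψ) :
    Nat.card (E h) = 2 ^ n := by
  rw [← c.card, ← Nat.card_eq_fintype_card]
  have hinj : ∀ x ∈ E h, ∀ y ∈ E h, ψ x = ψ y → x = y := by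
    intro x hx y hy hxy
    have h0 : ψ (y * y) = ψ y + ψ y := c.add y hy y hy
    have h1 : ψ (x * y) = ψ y + ψ y := by rw [c.add x hx y hy, hxy]
    have h3 : ψ 1 = 0 := by
      have := c.add 1 (one_mul 1) 1 (one_mul 1)
      rw [mul_one] at this
      exact left_eq_add.mp this
    rw [(hy : y * y = 1), h3] at h0
    have h2 := c.inj _ ((E h).mul_mem hx hy) (by rw [h1, ← h0])
    rw [mul_eq_one_iff_eq_inv] at h2
    rw [h2, sq_inv hy]
  refine Nat.card_congr (Equiv.ofBijective (fun x : E h => ψ x) ⟨?_, ?_⟩)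
  · intro x y hxy
    exact Subtype.ext (hinj x x.2 y y.2 hxy)
  · intro y
    obtain ⟨x, hx, hxy⟩ := c.surj y
    exact ⟨⟨x, hx⟩, hxy⟩

/-- `E` is `ξ`-irreducible -/
theorem E_irr (h : RS P ξ) {H : Subgroup P} (hH : ∀ x ∈ H, ξ x ∈ H) (hHE : H ≤ E h) (hne : H ≠ ⊥) : H = E h := by
  obtain ⟨F, _, _, _, n, d, lam, ψ, c⟩ := h.co
  have h1 := card_mul_le h c (H := ⊥) (K := H) (by
    intro x hx
    rw [mem_bot] at hx ⊢
    rw [hx, map_one]) hH (bot_lt_iff_ne_bot.mpr hne)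
  rw [Nat.card_unique, mul_one, ← card_E h c] at h1
  exact Subgroup.eq_of_le_of_card_ge hHE h1

end

end H66.Hig
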