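import Mathlib
import Cfsg.Agent.Lib.H66.Hig2

/-!
Higman's theorem, generalised: roots in invariant abelian normal subgroups, minimal invariant subgroups, the group
form of the key lemma, self-centralising invariant abelian normal subgroups.
-/

set_option autoImplicit false

namespace H66.Hig

open Subgroup H16.Suz

universe u

section
variable {P : Type u} [Group P] [Finite P] {ξ : MulAut P} {A : Subgroup P}

theorem exists_ex (h : RS P ξ) (hA : AD ξ A) : ∃ e, Ex A e := by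
  classical
  have hex : ∃ e, ∀ a ∈ A, a ^ (2 ^ e) = 1 := by
    obtain ⟨n, hn⟩ := IsPGroup.iff_card.mp h.pg
    refine ⟨n, fun a _ => ?_⟩
    rw [← hn]
    exact pow_card_eq_one'
  refine ⟨Nat.find hex, ?_, Nat.find_spec hex, ?_⟩
  · by_contra h0
    have h1 : Nat.find hex = 0 := by omega
    have h2 := Nat.find_spec hex
    rw [h1] at h2
    obtain ⟨x, y, _, hx1, hx2, _, _⟩ := h.two
    have := h2 x (hA.El x hx2)
    rw [pow_zero, pow_one] at this
    exact hx1 this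
  · by_contra hcon
    push Not at hcon
    have h1 := Nat.find_min' hex hcon
    have h0 : Nat.find hex ≠ 0 := by
      intro h0
      have h2 := Nat.find_spec hex
      rw [h0] at h2
      obtain ⟨x, y, _, hx1, hx2, _, _⟩ := h.two
      have := h2 x (hA.El x hx2)
      rw [pow_zero, pow_one] at this
      exact hx1 this
    omega

variable {e : ℕ}

theorem H0 (h : RS P ξ) (hA : AD ξ A) (he : Ex A e) {z : P} (hz : z * z = 1) :
    ∃ a ∈ A, a ^ (2 ^ (e - 1)) = z := by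
  let T : Subgroup P :=
    { carrier := {w | ∃ a ∈ A, a ^ (2 ^ (e - 1)) = w}
      one_mem' := ⟨1, A.one_mem, one_pow _⟩
      mul_mem' := by
        rintro _ _ ⟨a, ha, rfl⟩ ⟨b, hb, rfl⟩
        exact ⟨a * b, A.mul_mem ha hb, hA.mul_pow ha hb _⟩
      inv_mem' := by
        rintro _ ⟨a, ha, rfl⟩
        exact ⟨a⁻¹, A.inv_mem ha, inv_pow _ _⟩ }
  have hT : T = E h := by
    refine E_irr h ?_ ?_ ?_
    · rintro _ ⟨a, ha, rfl⟩
      exact ⟨ξ a, hA.inv a ha, (map_pow ξ a _).symm⟩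
    · rintro _ ⟨a, ha, rfl⟩
      change a ^ (2 ^ (e - 1)) * a ^ (2 ^ (e - 1)) = 1
      rw [← pow_add, ← two_mul, ← pow_succ', Nat.sub_add_cancel he.one_le]
      exact he.pow_eq a ha
    · intro hbot
      obtain ⟨a0, ha0, hne⟩ := he.exists_ne
      have : a0 ^ (2 ^ (e - 1)) ∈ T := ⟨a0, ha0, rfl⟩
      rw [hbot, mem_bot] at this
      exact hne this
  have : z ∈ T := by rw [hT]; exact hz
  exact this

theorem H1 (h : RS P ξ) (hA : AD ξ A) (he : Ex A e) : ∀ {k : ℕ}, k ≤ e → ∀ {a : P}, a ∈ A →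
    a ^ (2 ^ k) = 1 → ∃ u ∈ A, u ^ (2 ^ (e - k)) = a := by
  intro k
  induction k with
  | zero =>
    intro _ a _ ha
    refine ⟨1, A.one_mem, ?_⟩
    rw [pow_zero, pow_one] at ha
    rw [ha, one_pow]
  | succ k ih =>
    intro hk a ha hak
    have hz : a ^ (2 ^ k) * a ^ (2 ^ k) = 1 := by
      rw [← pow_add, ← two_mul, ← pow_succ']
      exact hak
    obtain ⟨v, hv, hvz⟩ := H0 h hA he hz
    have hw : v ^ (2 ^ (e - 1 - k)) ∈ A := A.pow_mem hv _
    have hw2 : (v ^ (2 ^ (e - 1 - k))) ^ (2 ^ k) = a ^ (2 ^ k) := by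
      rw [← pow_mul, ← pow_add, ← hvz]
      congr 2
      omega
    have h1 : (a * (v ^ (2 ^ (e - 1 - k)))⁻¹) ^ (2 ^ k) = 1 := by
      rw [hA.mul_pow ha (A.inv_mem hw), inv_pow, hw2, mul_inv_cancel]
    obtain ⟨u, hu, hua⟩ := ih (by omega) (A.mul_mem ha (A.inv_mem hw)) h1
    refine ⟨u ^ 2 * v, A.mul_mem (A.pow_mem hu 2) hv, ?_⟩
    rw [hA.mul_pow (A.pow_mem hu 2) hv, ← pow_mul, ← pow_succ',
      show e - (k + 1) + 1 = e - k by omega, hua, show e - (k + 1) = e - 1 - k by omega]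
    group

/-- a minimal invariant subgroup `X` with `A < X ≤ YY A C` -/
theorem exists_min (h : RS P ξ) (A C : Subgroup P) [A.Normal] [C.Normal] (hAi : ∀ x ∈ A, ξ x ∈ A)
    (hCi : ∀ x ∈ C, ξ x ∈ C) (hlt : A < C) :
    ∃ X : Subgroup P, A < X ∧ X ≤ YY A C ∧ (∀ x ∈ X, ξ x ∈ X) ∧
      ∀ W : Subgroup P, A ≤ W → W ≤ X → (∀ w ∈ W, ξ w ∈ W) → W = A ∨ W = X := by
  have hY : A < YY A C := by
    refine lt_of_le_of_ne ?_ ?_
    · intro a ha
      refine ⟨hlt.le ha, A.mul_mem ha ha, fun g => ?_⟩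
      have : cm a g = a⁻¹ * (g⁻¹ * a * g) := by unfold cm; group
      rw [this]
      refine A.mul_mem (A.inv_mem ha) ?_
      have := (inferInstance : A.Normal).conj_mem _ ha g⁻¹
      rwa [inv_inv] at this
    · intro he
      obtain ⟨x, hxC, hxA, hx2, hxg⟩ := exists_central_step h.pg A C hlt
      apply hxA
      rw [he]
      exact ⟨hxC, hx2, hxg⟩
  have hYi : ∀ x ∈ YY A C, ξ x ∈ YY A C := by
    rintro x ⟨hxC, hx2, hxg⟩
    refine ⟨hCi x hxC, ?_, fun g => ?_⟩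
    · rw [← map_mul]
      exact hAi _ hx2
    · have := hAi _ (hxg (ξ⁻¹ g))
      rw [map_cm, MulAut.apply_inv_self] at this
      exact this
  obtain ⟨X, ⟨hAX, hXY, hXi⟩, hmin⟩ := (Set.toFinite {X : Subgroup P | A < X ∧ X ≤ YY A C ∧ ∀ x ∈ X, ξ x ∈ X}).exists_minimal
    ⟨YY A C, hY, le_refl _, hYi⟩
  refine ⟨X, hAX, hXY, hXi, fun W hAW hWX hWi => ?_⟩
  rcases eq_or_lt_of_le hAW with he | hlt'
  · exact Or.inl he.symm
  · right
    exact le_antisymm hWX (hmin ⟨hlt', hWX.trans hXY, hWi⟩ hWX)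

end

section
variable {P : Type u} [Group P] [Finite P] {ξ : MulAut P}

/-- group form of the key lemma -/
theorem kl (h : RS P ξ) {N B : Subgroup P} (hNB : N < B) (hN : ∀ x ∈ N, ξ x ∈ N) (hB : ∀ x ∈ B, ξ x ∈ B)
    (irr : ∀ W : Subgroup P, N ≤ W → W ≤ B → (∀ w ∈ W, ξ w ∈ W) → W = N ∨ W = B)
    (c : P → P → P) (cE : ∀ x ∈ B, ∀ z, z * z = 1 → c x z * c x z = 1)
    (c_add : ∀ x ∈ B, ∀ z, z * z = 1 → ∀ z', z' * z' = 1 → c x (z * z') = c x z * c x z')
    (c_mul : ∀ x ∈ B, ∀ x' ∈ B, ∀ z, z * z = 1 → c (x * x') z = c x z * c x' z)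
    (c_N : ∀ x ∈ N, ∀ z, z * z = 1 → c x z = 1)
    (c_ξ : ∀ x ∈ B, ∀ z, z * z = 1 → c (ξ x) (ξ z) = ξ (c x z)) :
    (∀ x ∈ B, ∀ z, z * z = 1 → c x z = 1) ∨ (∀ x ∈ B, ∀ z, z * z = 1 → c x z = 1 → x ∈ N ∨ z = 1) := by
  obtain ⟨F, _, _, _, n, d, lam, ψ, co⟩ := h.co
  have hn2 := co.n2
  have hFn := co.card
  have hlam := co.ord
  have hdn := co.dvd
  have hψm : ∀ x ∈ E h, ∀ y ∈ E h, ψ (x * y) = ψ x + ψ y := co.add
  have hψ1 : ∀ x ∈ E h, ψ x = 0 → x = 1 := co.inj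
  have hψs : ∀ y, ∃ x ∈ E h, ψ x = y := co.surj
  have hψξ : ∀ x ∈ E h, ψ (ξ x) = lam * ψ x := co.eqv
  choose s hs hψs' using hψs
  have hψinj : ∀ x ∈ E h, ∀ y ∈ E h, ψ x = ψ y → x = y := by
    intro x hx y hy hxy
    have h1 : ψ (x * y) = ψ y + ψ y := by rw [hψm x hx y hy, hxy]
    rw [CharTwo.add_self_eq_zero] at h1
    have h2 := hψ1 _ ((E h).mul_mem hx hy) h1
    rw [mul_eq_one_iff_eq_inv] at h2
    rw [h2, sq_inv hy]
  have hψone : ψ 1 = 0 := by
    have := hψm 1 (E h).one_mem 1 (E h).one_mem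
    rw [mul_one] at this
    exact (left_eq_add.mp this)
  have hsE : ∀ y, s y * s y = 1 := fun y => hs y
  have hsψ : ∀ z, z * z = 1 → s (ψ z) = z := by
    intro z hz
    exact hψinj _ (hs _) _ hz (hψs' _)
  have hcE : ∀ x ∈ B, ∀ z, z * z = 1 → c x z ∈ E h := fun x hx z hz => cE x hx z hz
  rcases keyLemma hFn hn2 hlam hdn ξ hNB.le hB irr (card_mul_le h co hN hB hNB) (fun x y => ψ (c x (s y)))
    (by
      intro x hx y y'
      have h1 : s (y + y') = s y * s y' := by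
        apply hψinj _ (hs _) _ ((E h).mul_mem (hs _) (hs _))
        rw [hψs', hψm _ (hs _) _ (hs _), hψs', hψs']
      simp only [h1]
      rw [c_add x hx _ (hsE _) _ (hsE _), hψm _ (hcE x hx _ (hsE _)) _ (hcE x hx _ (hsE _))])
    (by
      intro x hx x' hx' y
      rw [c_mul x hx x' hx' _ (hsE _), hψm _ (hcE x hx _ (hsE _)) _ (hcE x' hx' _ (hsE _))])
    (by
      intro x hx y
      rw [c_N x hx _ (hsE _), hψone])
    (by
      intro x hx y
      have h1 : s (lam * y) = ξ (s y) := by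
        apply hψinj _ (hs _) _ (E_inv _ (hs _))
        rw [hψs', hψξ _ (hs _), hψs']
      rw [h1, c_ξ x hx _ (hsE _), hψξ _ (hcE x hx _ (hsE _))]) with h1 | h1
  · left
    intro x hx z hz
    have := h1 x hx (ψ z)
    simp only [hsψ z hz] at this
    exact hψ1 _ (hcE x hx z hz) this
  · right
    intro x hx z hz hc
    rcases h1 x hx (ψ z) (by simp only [hsψ z hz]; rw [hc, hψone]) with h2 | h2
    · exact Or.inl h2
    · exact Or.inr (hψ1 z hz h2)

variable {A : Subgroup P} {e : ℕ}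

theorem normal_of_le_YY [A.Normal] {C X : Subgroup P} (hAX : A ≤ X) (hXY : X ≤ YY A C) : X.Normal := by
  constructor
  intro x hx g
  have h1 : g * x * g⁻¹ = x * cm x g⁻¹ := by unfold cm; group
  rw [h1]
  exact X.mul_mem hx (hAX ((hXY hx).2.2 g⁻¹))

theorem self_centralizing (h : RS P ξ) (hA : AD ξ A) (hmax : ∀ A' : Subgroup P, AD ξ A' → A ≤ A' → A' = A)
    (he : Ex A e) (h2 : 2 ≤ e) : ∀ x : P, (∀ a ∈ A, x * a = a * x) → x ∈ A := by
  have hAn := hA.nm
  by_contra hcon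
  push Not at hcon
  obtain ⟨x0, hx0, hx0A⟩ := hcon
  let C := centralizer (A : Set P)
  have hC : ∀ x, x ∈ C ↔ ∀ a ∈ A, x * a = a * x := by
    intro x
    rw [mem_centralizer_iff]
    exact ⟨fun h a ha => (h a ha).symm, fun h a ha => (h a ha).symm⟩
  have hCn : C.Normal := inferInstance
  have hCi : ∀ x ∈ C, ξ x ∈ C := by
    intro x hx
    rw [hC] at hx ⊢
    intro a ha
    have h1 : ξ⁻¹ a ∈ A := by
      have := zpow_inv_of hA.inv (-1) ha
      rwa [zpow_neg_one] at this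
    have h2 := congrArg ξ (hx _ h1)
    rw [map_mul, map_mul, MulAut.apply_inv_self] at h2
    exact h2
  have hAC : A < C := by
    refine lt_of_le_of_ne (fun a ha => (hC a).mpr fun b hb => hA.ab a ha b hb) ?_
    intro he
    exact hx0A (by rw [he]; exact (hC x0).mpr hx0)
  obtain ⟨X, hAX, hXY, hXi, irr⟩ := exists_min h A C hA.inv hCi hAC
  have hXn : X.Normal := normal_of_le_YY hAX.le hXY
  have hXA : ∀ x ∈ X, ∀ a ∈ A, x * a = a * x := fun x hx => (hC x).mp (hXY hx).1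
  have hsq : ∀ x ∈ X, x * x ∈ A := fun x hx => (hXY hx).2.1
  have hcm : ∀ x ∈ X, ∀ g, cm x g ∈ A := fun x hx => (hXY hx).2.2
  have hconj : ∀ x ∈ X, ∀ a ∈ A, x⁻¹ * a * x = a := by
    intro x hx a ha
    rw [mul_assoc, ← hXA x hx a ha]; group
  have hcm2 : ∀ x ∈ X, ∀ y ∈ X, cm x y * cm x y = 1 := by
    intro x hx y hy
    have h1 : cm (x * x) y = 1 := cm_eq_one_iff.mpr (hXA y hy _ (hsq x hx)).symm
    rw [cm_mul_left, hconj x hx _ (hcm x hx y)] at h1
    exact h1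
  have hcml : ∀ x ∈ X, ∀ y ∈ X, ∀ z ∈ X, cm (x * y) z = cm x z * cm y z := by
    intro x hx y hy z hz
    rw [cm_mul_left, hconj y hy _ (hcm x hx z)]
  have hcmr : ∀ x ∈ X, ∀ y ∈ X, ∀ z ∈ X, cm x (y * z) = cm x z * cm x y := by
    intro x hx y hy z hz
    rw [cm_mul_right, hconj z hz _ (hcm x hx y)]
  -- the map θ
  let θ : P → P := fun x => (x * x) ^ (2 ^ (e - 1))
  have hθ : ∀ x, θ x = (x * x) ^ (2 ^ (e - 1)) := fun _ => rfl
  have hθE : ∀ x ∈ X, θ x * θ x = 1 := by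
    intro x hx
    rw [hθ, ← pow_add, ← two_mul, ← pow_succ', Nat.sub_add_cancel he.one_le]
    exact he.pow_eq _ (hsq x hx)
  have hθm : ∀ x ∈ X, ∀ y ∈ X, θ (x * y) = θ x * θ y := by
    intro x hx y hy
    have h1 : x * y * (x * y) = x * x * (y * y) * (y⁻¹ * cm y x * y) := by unfold cm; group
    rw [hθ, h1, hconj y hy _ (hcm y hy x), hA.mul_pow (A.mul_mem (hsq x hx) (hsq y hy)) (hcm y hy x),
      hA.mul_pow (hsq x hx) (hsq y hy), ← hθ, ← hθ]
    have h3 : cm y x ^ (2 ^ (e - 1)) = 1 := by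
      have h4 : 2 ^ (e - 1) = 2 * 2 ^ (e - 2) := by
        rw [← pow_succ']; congr 1; omega
      rw [h4, pow_mul, pow_two, hcm2 y hy x hx, one_pow]
    rw [h3, mul_one]
  have hθξ : ∀ x, θ (ξ x) = ξ (θ x) := by
    intro x
    rw [hθ, hθ, map_pow, map_mul]
  have hθ1 : ∀ x ∈ X, θ x = 1 → x ∈ A := by
    intro x hx hx1
    obtain ⟨u, hu, hux⟩ := H1 h hA he (k := e - 1) (by omega) (hsq x hx) hx1
    have h3 : e - (e - 1) = 1 := by omega
    rw [h3, pow_one, pow_two] at hux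
    have h4 : (x * u⁻¹) * (x * u⁻¹) = 1 := by
      have h5 : x * u⁻¹ = u⁻¹ * x := hXA x hx _ (A.inv_mem hu)
      calc (x * u⁻¹) * (x * u⁻¹) = (x * u⁻¹) * (u⁻¹ * x) := by rw [← h5]
        _ = x * (u * u)⁻¹ * x := by group
        _ = 1 := by rw [hux]; group
    have h5 := A.mul_mem (hA.El _ h4) hu
    rwa [inv_mul_cancel_right] at h5
  obtain ⟨x1, hx1X, hx1A⟩ := SetLike.exists_of_lt hAX
  have hθx1 : θ x1 ≠ 1 := fun h1 => hx1A (hθ1 x1 hx1X h1)
  have hsurj : ∀ z, z * z = 1 → ∃ x ∈ X, θ x = z := by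
    let T : Subgroup P :=
      { carrier := {w | ∃ x ∈ X, θ x = w}
        one_mem' := ⟨1, X.one_mem, by rw [hθ, mul_one, one_pow]⟩
        mul_mem' := by
          rintro _ _ ⟨a, ha, rfl⟩ ⟨b, hb, rfl⟩
          exact ⟨a * b, X.mul_mem ha hb, hθm a ha b hb⟩
        inv_mem' := by
          rintro _ ⟨a, ha, rfl⟩
          refine ⟨a⁻¹, X.inv_mem ha, ?_⟩
          rw [hθ, hθ, ← mul_inv_rev, inv_pow] }
    have hT : T = E h := by
      refine E_irr h ?_ ?_ ?_
      · rintro _ ⟨a, ha, rfl⟩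
        exact ⟨ξ a, hXi a ha, hθξ a⟩
      · rintro _ ⟨a, ha, rfl⟩
        exact hθE a ha
      · intro hbot
        have : θ x1 ∈ T := ⟨x1, hx1X, rfl⟩
        rw [hbot, mem_bot] at this
        exact hθx1 this
    intro z hz
    have : z ∈ T := by rw [hT]; exact hz
    exact this
  have hchoose : ∀ z : P, ∃ x, z * z = 1 → x ∈ X ∧ θ x = z := by
    intro z
    by_cases hz : z * z = 1
    · obtain ⟨x, hx, hxz⟩ := hsurj z hz
      exact ⟨x, fun _ => ⟨hx, hxz⟩⟩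
    · exact ⟨1, fun h' => (hz h').elim⟩
  choose s hs using hchoose
  -- independence of the choice
  have hind : ∀ z, z * z = 1 → ∀ u ∈ X, θ u = z → ∀ x ∈ X, cm (s z) x = cm u x := by
    intro z hz u hu huz x hx
    obtain ⟨hsX, hsz⟩ := hs z hz
    have h1 : θ (u⁻¹ * s z) = 1 := by
      have h3 : θ (u * (u⁻¹ * s z)) = θ u * θ (u⁻¹ * s z) := hθm u hu _ (X.mul_mem (X.inv_mem hu) hsX)
      rw [mul_inv_cancel_left, hsz, huz] at h3
      exact (mul_eq_left.mp h3.symm)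
    have h3 : u⁻¹ * s z ∈ A := hθ1 _ (X.mul_mem (X.inv_mem hu) hsX) h1
    have h4 : s z = u * (u⁻¹ * s z) := by group
    rw [h4, hcml u hu _ (X.mul_mem (X.inv_mem hu) hsX) x hx]
    have h5 : cm (u⁻¹ * s z) x = 1 := cm_eq_one_iff.mpr (hXA x hx _ h3).symm
    rw [h5, mul_one]
  rcases kl h hAX hA.inv hXi irr (fun x z => cm (s z) x)
    (by
      intro x hx z hz
      exact hcm2 _ (hs z hz).1 x hx)
    (by
      intro x hx z hz z' hz'
      have hzz : (z * z') * (z * z') = 1 := (E h).mul_mem hz hz'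
      have h1 : θ (s z * s z') = z * z' := by
        rw [hθm _ (hs z hz).1 _ (hs z' hz').1, (hs z hz).2, (hs z' hz').2]
      rw [hind _ hzz (s z * s z') (X.mul_mem (hs z hz).1 (hs z' hz').1) h1 x hx,
        hcml _ (hs z hz).1 _ (hs z' hz').1 x hx])
    (by
      intro x hx x' hx' z hz
      rw [hcmr _ (hs z hz).1 x hx x' hx']
      exact hA.ab _ (hcm _ (hs z hz).1 x') _ (hcm _ (hs z hz).1 x))
    (by
      intro x hx z hz
      exact cm_eq_one_iff.mpr (hXA _ (hs z hz).1 x hx))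
    (by
      intro x hx z hz
      have hzz : ξ z * ξ z = 1 := E_inv (h := h) z hz
      rw [hind _ hzz (ξ (s z)) (hXi _ (hs z hz).1) (by rw [hθξ, (hs z hz).2]) (ξ x) (hXi x hx), map_cm]) with h1 | h1
  · -- X is abelian
    have hXab : AD ξ X := by
      refine ⟨hXn, hXi, ?_, fun x hx => hAX.le (hA.El x hx)⟩
      intro x hx y hy
      have h3 := h1 y hy (θ x) (hθE x hx)
      simp only [hind _ (hθE x hx) x hx rfl y hy] at h3
      exact cm_eq_one_iff.mp h3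
    exact hAX.ne' (hmax X hXab hAX.le)
  · rcases h1 x1 hx1X (θ x1) (hθE x1 hx1X) (by
      simp only [hind _ (hθE x1 hx1X) x1 hx1X rfl x1 hx1X]
      unfold cm; group) with h3 | h3
    · exact hx1A h3
    · exact hθx1 h3

end

end H66.Hig
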