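import Mathlib
import Cfsg.Agent.Lib.H66.Hig3

/-!
Higman's theorem, generalised: all squares are involutions or trivial, and the centre is elementary abelian.
-/

set_option autoImplicit false

namespace H66.Hig

open Subgroup H16.Suz

universe u

section
variable {P : Type u} [Group P] [Finite P] {ξ : MulAut P} {A : Subgroup P} {e : ℕ}

theorem star (h : RS P ξ) (hA : AD ξ A) (he : Ex A e) (h2 : 2 ≤ e)
    (hC : ∀ x : P, (∀ a ∈ A, x * a = a * x) → x ∈ A) {B : Subgroup P} (hAB : A < B) (hBi : ∀ x ∈ B, ξ x ∈ B)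
    (irr : ∀ W : Subgroup P, A ≤ W → W ≤ B → (∀ w ∈ W, ξ w ∈ W) → W = A ∨ W = B) :
    ∃ i, 1 ≤ i ∧ i ≤ e - 1 ∧ (∀ a ∈ A, ∀ b ∈ B, cm a b ^ (2 ^ i) = 1) ∧
      (∀ b ∈ B, ∀ a ∈ A, cm a b ^ (2 ^ (i - 1)) = 1 → b ∈ A ∨ a ^ (2 ^ (e - 1)) = 1) := by
  classical
  have hcE : ∀ {z : P}, z * z = 1 → ∀ g, cm z g = 1 := fun {z} hz g => cm_eq_one_iff.mpr (inv_comm h hz g)
  have htop : ∀ a ∈ A, a ^ (2 ^ (e - 1)) * a ^ (2 ^ (e - 1)) = 1 := by
    intro a ha
    rw [← pow_add, ← two_mul, ← pow_succ', Nat.sub_add_cancel he.one_le]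
    exact he.pow_eq a ha
  have h1 : ∀ a ∈ A, ∀ b : P, cm a b ^ (2 ^ (e - 1)) = 1 := by
    intro a ha b
    rw [← hA.cm_pow ha]
    exact hcE (htop a ha) b
  have hex : ∃ i, ∀ a ∈ A, ∀ b ∈ B, cm a b ^ (2 ^ i) = 1 := ⟨e - 1, fun a ha b _ => h1 a ha b⟩
  obtain ⟨i, hidef⟩ : ∃ i, i = Nat.find hex := ⟨_, rfl⟩
  have hi : ∀ a ∈ A, ∀ b ∈ B, cm a b ^ (2 ^ i) = 1 := by rw [hidef]; exact Nat.find_spec hex
  have hile : i ≤ e - 1 := by rw [hidef]; exact Nat.find_min' hex fun a ha b _ => h1 a ha b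
  have hi1 : 1 ≤ i := by
    by_contra h0
    have h0' : i = 0 := by omega
    rw [h0'] at hi
    obtain ⟨b, hb, hbA⟩ := SetLike.exists_of_lt hAB
    apply hbA
    apply hC
    intro a ha
    have := hi a ha b hb
    rw [pow_zero, pow_one, cm_eq_one_iff] at this
    exact this.symm
  refine ⟨i, hi1, hile, hi, ?_⟩
  -- choose roots
  have hchoose : ∀ z : P, ∃ a, z * z = 1 → a ∈ A ∧ a ^ (2 ^ (e - 1)) = z := by
    intro z
    by_cases hz : z * z = 1
    · obtain ⟨x, hx, hxz⟩ := H0 h hA he hz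
      exact ⟨x, fun _ => ⟨hx, hxz⟩⟩
    · exact ⟨1, fun h' => (hz h').elim⟩
  choose s hs using hchoose
  have hii : 2 ^ (i - 1) * 2 = 2 ^ i := by rw [← pow_succ]; congr 1; omega
  have hsqE : ∀ a ∈ A, ∀ b ∈ B, cm a b ^ (2 ^ (i - 1)) * cm a b ^ (2 ^ (i - 1)) = 1 := by
    intro a ha b hb
    rw [← pow_add, ← two_mul, mul_comm, hii]
    exact hi a ha b hb
  have hind : ∀ z, z * z = 1 → ∀ u ∈ A, u ^ (2 ^ (e - 1)) = z → ∀ x ∈ B,
      cm (s z) x ^ (2 ^ (i - 1)) = cm u x ^ (2 ^ (i - 1)) := by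
    intro z hz u hu huz x hx
    obtain ⟨hsA, hsz⟩ := hs z hz
    have h3 : (u⁻¹ * s z) ^ (2 ^ (e - 1)) = 1 := by
      rw [hA.mul_pow (A.inv_mem hu) hsA, inv_pow, hsz, huz, inv_mul_cancel]
    obtain ⟨v, hv, hvu⟩ := H1 h hA he (k := e - 1) (by omega) (A.mul_mem (A.inv_mem hu) hsA) h3
    have h4 : s z = u * (u⁻¹ * s z) := by group
    have h5 : e - (e - 1) = 1 := by omega
    rw [h5, pow_one] at hvu
    rw [h4, hA.cm_mul hu (A.mul_mem (A.inv_mem hu) hsA), hA.mul_pow (hA.cm_mem hu x)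
      (hA.cm_mem (A.mul_mem (A.inv_mem hu) hsA) x), ← hvu, hA.cm_pow hv, ← pow_mul, mul_comm 2, hii,
      hi v hv x hx, mul_one]
  rcases kl h hAB hA.inv hBi irr (fun x z => cm (s z) x ^ (2 ^ (i - 1)))
    (by
      intro x hx z hz
      exact hsqE _ (hs z hz).1 x hx)
    (by
      intro x hx z hz z' hz'
      have hzz : (z * z') * (z * z') = 1 := (E h).mul_mem hz hz'
      have h3 : (s z * s z') ^ (2 ^ (e - 1)) = z * z' := by
        rw [hA.mul_pow (hs z hz).1 (hs z' hz').1, (hs z hz).2, (hs z' hz').2]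
      rw [hind _ hzz (s z * s z') (A.mul_mem (hs z hz).1 (hs z' hz').1) h3 x hx,
        hA.cm_mul (hs z hz).1 (hs z' hz').1, hA.mul_pow (hA.cm_mem (hs z hz).1 x) (hA.cm_mem (hs z' hz').1 x)])
    (by
      intro x hx x' hx' z hz
      have hsA := (hs z hz).1
      rw [hA.cm_mul_r hsA, hA.mul_pow (A.mul_mem (hA.cm_mem hsA x) (hA.cm_mem hsA x'))
        (hA.cm_mem (hA.cm_mem hsA x) x'), hA.mul_pow (hA.cm_mem hsA x) (hA.cm_mem hsA x'),
        ← hA.cm_pow (hA.cm_mem hsA x) x', hcE (hsqE _ hsA x hx), mul_one])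
    (by
      intro x hx z hz
      rw [hA.cm_self (hs z hz).1 hx, one_pow])
    (by
      intro x hx z hz
      have hzz : ξ z * ξ z = 1 := E_inv (h := h) z hz
      rw [hind _ hzz (ξ (s z)) (hA.inv _ (hs z hz).1) (by rw [← map_pow, (hs z hz).2]) (ξ x) (hBi x hx),
        ← map_cm, map_pow]) with h3 | h3
  · exfalso
    have h4 := Nat.find_min hex (m := i - 1) (by omega)
    apply h4
    intro a ha b hb
    have := h3 b hb _ (htop a ha)
    rwa [hind _ (htop a ha) a ha rfl b hb] at this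
  · intro b hb a ha hab
    refine h3 b hb _ (htop a ha) ?_
    rw [hind _ (htop a ha) a ha rfl b hb]
    exact hab

theorem e_eq_two (h : RS P ξ) (hA : AD ξ A) (he : Ex A e) (h2 : 2 ≤ e)
    (hC : ∀ x : P, (∀ a ∈ A, x * a = a * x) → x ∈ A) {B : Subgroup P} (hAB : A < B) (hBi : ∀ x ∈ B, ξ x ∈ B)
    (irr : ∀ W : Subgroup P, A ≤ W → W ≤ B → (∀ w ∈ W, ξ w ∈ W) → W = A ∨ W = B)
    (hsq : ∀ b ∈ B, b * b ∈ A) : e = 2 := by
  by_contra hne
  have h3 : 3 ≤ e := by omega
  have hAn := hA.nm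
  have hcE : ∀ {z : P}, z * z = 1 → ∀ g, cm z g = 1 := fun {z} hz g => cm_eq_one_iff.mpr (inv_comm h hz g)
  obtain ⟨i, hi1, hile, hi, star⟩ := star h hA he h2 hC hAB hBi irr
  obtain ⟨b, hb, hbA⟩ := SetLike.exists_of_lt hAB
  have htop : ∀ a ∈ A, a ^ (2 ^ (e - 1)) * a ^ (2 ^ (e - 1)) = 1 := by
    intro a ha
    rw [← pow_add, ← two_mul, ← pow_succ', Nat.sub_add_cancel he.one_le]
    exact he.pow_eq a ha
  have hS1 : ∀ b ∈ B, b ∉ A → (b * b) ^ (2 ^ (e - 1)) = 1 := by
    intro b hb hbA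
    refine (star b hb _ (hsq b hb) ?_).resolve_left hbA
    have : cm (b * b) b = 1 := by rw [cm_eq_one_iff]; group
    rw [this, one_pow]
  rcases Nat.lt_or_ge i 2 with hi2 | hi2
  · -- i = 1
    have hi' : i = 1 := by omega
    subst hi'
    have hcs : ∀ a ∈ A, cm a b * cm a b = 1 := by
      intro a ha
      have := hi a ha b hb
      rwa [pow_one, pow_two] at this
    obtain ⟨u, hu, hub⟩ := H1 h hA he (k := e - 1) (by omega) (hsq b hb) (hS1 b hb hbA)
    rw [show e - (e - 1) = 1 by omega, pow_one, pow_two] at hub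
    have hz := hcs u⁻¹ (A.inv_mem hu)
    obtain ⟨t, ht, htz⟩ := H0 h hA he hz
    let w := t ^ (2 ^ (e - 2))
    have hwA : w ∈ A := A.pow_mem ht _
    have hww : w * w = cm u⁻¹ b := by
      simp only [w]
      rw [← pow_add, ← two_mul, ← pow_succ', show e - 2 + 1 = e - 1 by omega]
      exact htz
    have hcw : cm w b = 1 := by
      simp only [w]
      have h4 : 2 ^ (e - 2) = 2 ^ (e - 3) * 2 := by rw [← pow_succ]; congr 1; omega
      rw [h4, pow_mul, hA.cm_pow (A.pow_mem ht _), pow_two, hcs _ (A.pow_mem ht _)]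
    have hu' := A.inv_mem hu
    have h5 : cm (u⁻¹ * w) b = cm u⁻¹ b := by rw [hA.cm_mul hu' hwA, hcw, mul_one]
    have h6 : (b * (u⁻¹ * w)) * (b * (u⁻¹ * w)) = 1 := by
      have e1 : (b * (u⁻¹ * w)) * (b * (u⁻¹ * w)) = b * b * ((u⁻¹ * w) * cm (u⁻¹ * w) b * (u⁻¹ * w)) := by
        unfold cm; group
      have e2 : (u⁻¹ * w) * cm u⁻¹ b * (u⁻¹ * w) = (u⁻¹ * u⁻¹) * (w * w) * cm u⁻¹ b := by
        have c1 : cm u⁻¹ b * (u⁻¹ * w) = (u⁻¹ * w) * cm u⁻¹ b :=
          hA.ab _ (hA.cm_mem hu' b) _ (A.mul_mem hu' hwA)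
        have c2 : w * u⁻¹ = u⁻¹ * w := hA.ab _ hwA _ hu'
        calc (u⁻¹ * w) * cm u⁻¹ b * (u⁻¹ * w) = (u⁻¹ * w) * (cm u⁻¹ b * (u⁻¹ * w)) := by group
          _ = (u⁻¹ * w) * ((u⁻¹ * w) * cm u⁻¹ b) := by rw [c1]
          _ = u⁻¹ * (w * u⁻¹) * w * cm u⁻¹ b := by group
          _ = u⁻¹ * (u⁻¹ * w) * w * cm u⁻¹ b := by rw [c2]
          _ = _ := by group
      rw [e1, h5, e2, hww, mul_assoc (u⁻¹ * u⁻¹), hz, mul_one, ← hub]
      group
    have h7 := A.mul_mem (hA.El _ h6) (A.inv_mem (A.mul_mem hu' hwA))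
    rw [mul_inv_cancel_right] at h7
    exact hbA h7
  · -- i ≥ 2
    have key : ∀ a ∈ A, ∀ b ∈ B, b ∉ A → cm a b ^ (2 ^ (i - 1)) = a ^ (2 ^ (e - 1)) := by
      intro a ha b hb hbA
      have hua := hA.cm_mem ha b
      obtain ⟨v, hv, hva⟩ := H1 h hA he (k := i) (by omega) hua (hi a ha b hb)
      have hT : cm a b * cm a b * cm (cm a b) b = 1 := by
        rw [← hA.cm_mul_r ha b b]
        exact hA.cm_self ha (hsq b hb)
      have hvb : cm (cm a b) b = cm v b ^ (2 ^ (e - i)) := by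
        conv_lhs => rw [← hva]
        exact hA.cm_pow hv b _
      have hvbA := hA.cm_mem hv b
      have h4 := congrArg (fun x => x ^ (2 ^ (i - 2))) hT
      simp only [one_pow] at h4
      rw [hvb, hA.mul_pow (A.mul_mem hua hua) (A.pow_mem hvbA _), ← pow_two, ← pow_mul, ← pow_mul,
        ← pow_succ', ← pow_add, show i - 2 + 1 = i - 1 by omega, show e - i + (i - 2) = e - 2 by omega] at h4
      rcases Nat.lt_or_ge i (e - 1) with hlt | hge
      · have h5 : cm v b ^ (2 ^ (e - 2)) = 1 := by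
          have h6 : 2 ^ (e - 2) = 2 ^ i * 2 ^ (e - 2 - i) := by rw [← pow_add]; congr 1; omega
          rw [h6, pow_mul, hi v hv b hb, one_pow]
        rw [h5, mul_one] at h4
        rw [h4]
        rcases star b hb a ha h4 with h7 | h7
        · exact (hbA h7).elim
        · exact h7.symm
      · have hie : i = e - 1 := by omega
        have h5 : cm (a * v) b ^ (2 ^ (i - 1)) = 1 := by
          rw [hA.cm_mul ha hv, hA.mul_pow hua hvbA, show i - 1 = e - 2 by omega]
          rw [show i - 1 = e - 2 by omega] at h4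
          exact h4
        have h6 := (star b hb (a * v) (A.mul_mem ha hv) h5).resolve_left hbA
        rw [hA.mul_pow ha hv] at h6
        have h7 : v ^ (2 ^ (e - 1)) = cm a b ^ (2 ^ (i - 1)) := by
          rw [← hva, ← pow_mul, ← pow_add]
          congr 2
          omega
        rw [h7] at h6
        have h8 := htop a ha
        have h9 : a ^ (2 ^ (e - 1)) = (a ^ (2 ^ (e - 1)))⁻¹ := eq_inv_of_mul_eq_one_left h8
        rw [h9]
        exact eq_inv_of_mul_eq_one_right h6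
    obtain ⟨a, ha, ha1⟩ := he.exists_ne
    have hξb : ξ b ∉ A := by
      intro hcon
      have := zpow_inv_of hA.inv (-1) hcon
      rw [zpow_neg_one, MulAut.inv_apply_self] at this
      exact hbA this
    have hbξ : b * ξ b ∉ A := by
      intro hcon
      apply hbA
      apply fpf_sec h hA.inv
      have h4 : ξ b * b⁻¹ = b⁻¹ * (b * ξ b) * b * (b * b)⁻¹ := by group
      rw [h4]
      exact A.mul_mem (hA.conj_mem hcon b) (A.inv_mem (hsq b hb))
    have h4 := key a ha b hb hbA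
    have h5 := key a ha (ξ b) (hBi b hb) hξb
    have h6 := key a ha (b * ξ b) (B.mul_mem hb (hBi b hb)) hbξ
    have hcab := hA.cm_mem ha b
    rw [hA.cm_mul_r ha, hA.mul_pow (A.mul_mem hcab (hA.cm_mem ha _)) (hA.cm_mem hcab _),
      hA.mul_pow hcab (hA.cm_mem ha _), h4, h5, htop a ha, one_mul, ← hA.cm_pow hcab, h4, hcE (htop a ha)] at h6
    exact ha1 h6.symm

end

section
variable {P : Type u} [Group P] [Finite P] {ξ : MulAut P} {A : Subgroup P}

theorem exists_compl_inv (h : RS P ξ) (A M : Subgroup P) [A.Normal] (hAi : ∀ x ∈ A, ξ x ∈ A)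
    (hMi : ∀ x ∈ M, ξ x ∈ M) (hAM : A ≤ M) (hsq : ∀ g : P, g * g ∈ A) (hM : M ≠ ⊤) :
    ∃ N : Subgroup P, A < N ∧ (∀ x ∈ N, ξ x ∈ N) ∧ N ⊓ M ≤ A := by
  classical
  have hsqV : ∀ v : P ⧸ A, v * v = 1 := by
    intro v
    induction v using QuotientGroup.induction_on with
    | H x => exact (QuotientGroup.eq_one_iff _).mpr (hsq x)
  have hcomm : ∀ v w : P ⧸ A, v * w = w * v := by
    intro v w
    have h1 := hsqV (v * w)
    have h2 : v * w = (v * w)⁻¹ := eq_inv_of_mul_eq_one_left h1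
    have h3 : v⁻¹ = v := inv_eq_of_mul_eq_one_left (hsqV v)
    have h4 : w⁻¹ = w := inv_eq_of_mul_eq_one_left (hsqV w)
    rw [h2, mul_inv_rev, h3, h4]
  let _ : CommGroup (P ⧸ A) := { (inferInstance : Group (P ⧸ A)) with mul_comm := hcomm }
  let _ : Module (ZMod 2) (Additive (P ⧸ A)) := AddCommGroup.zmodModule (fun v => by
    rw [two_nsmul]
    exact congrArg Additive.ofMul (hsqV v.toMul))
  let φ : (P ⧸ A) →* (P ⧸ A) := QuotientGroup.map A A ξ.toMonoidHom (fun x hx => hAi x hx)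
  have hφ : ∀ x : P, φ (x : P ⧸ A) = ((ξ x : P) : P ⧸ A) := fun x => rfl
  let T : Additive (P ⧸ A) →ₗ[ZMod 2] Additive (P ⧸ A) := AddMonoidHom.toZModLinearMap 2 (MonoidHom.toAdditive φ)
  have hT : ∀ x : P, T (Additive.ofMul (x : P ⧸ A)) = Additive.ofMul ((ξ x : P) : P ⧸ A) := fun x => rfl
  have hTk : ∀ (k : ℕ) (x : P), (T ^ k) (Additive.ofMul (x : P ⧸ A)) = Additive.ofMul (((ξ ^ k) x : P) : P ⧸ A) := by
    intro k
    induction k with
    | zero => intro x; rfl
    | succ k ih =>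
      intro x
      rw [pow_succ, Module.End.mul_apply, hT, ih, pow_succ, MulAut.mul_apply]
  have hTm : T ^ (orderOf ξ) = 1 := by
    ext v
    obtain ⟨x, hx⟩ := QuotientGroup.mk_surjective v.toMul
    have h1 : v = Additive.ofMul (x : P ⧸ A) := by rw [hx]; rfl
    rw [h1, hTk, pow_orderOf_eq_one]
    rfl
  have hodd : ((orderOf ξ : ℕ) : ZMod 2) ≠ 0 := by
    obtain ⟨k, hk⟩ := h.odd
    rw [hk]
    push_cast
    have : (2 : ZMod 2) = 0 := by decide
    rw [this, zero_mul, zero_add]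
    decide
  have hss : Module.End.IsSemisimple T := by
    refine Module.End.isSemisimple_of_squarefree_aeval_eq_zero (p := Polynomial.X ^ (orderOf ξ) - 1) ?_ ?_
    · exact (Polynomial.X_pow_sub_one_separable_iff.mpr hodd).squarefree
    · rw [map_sub, map_pow, Polynomial.aeval_X, map_one, hTm, sub_self]
  rw [Module.End.isSemisimple_iff] at hss
  let U : Submodule (ZMod 2) (Additive (P ⧸ A)) :=
    AddSubgroup.toZModSubmodule 2 (Subgroup.toAddSubgroup (M.map (QuotientGroup.mk' A)))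
  have hU : ∀ x : P, Additive.ofMul (x : P ⧸ A) ∈ U ↔ x ∈ M := by
    intro x
    constructor
    · rintro ⟨m, hm, hmx⟩
      have h1 : (m : P ⧸ A) = (x : P ⧸ A) := hmx
      rw [QuotientGroup.eq] at h1
      have h2 := M.mul_mem hm (hAM h1)
      rwa [mul_inv_cancel_left] at h2
    · intro hx
      exact ⟨x, hx, rfl⟩
  obtain ⟨W, hWT, hUW⟩ := hss U (by
    rw [Module.End.mem_invtSubmodule]
    intro v hv
    obtain ⟨x, hx⟩ := QuotientGroup.mk_surjective v.toMul
    have h1 : v = Additive.ofMul (x : P ⧸ A) := by rw [hx]; rfl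
    rw [h1] at hv ⊢
    rw [Submodule.mem_comap, hT, hU]
    exact hMi x ((hU x).mp hv))
  rw [Module.End.mem_invtSubmodule] at hWT
  let N : Subgroup P :=
    { carrier := {x | Additive.ofMul (x : P ⧸ A) ∈ W}
      one_mem' := W.zero_mem
      mul_mem' := fun {a b} ha hb => W.add_mem ha hb
      inv_mem' := fun {a} ha => W.neg_mem ha }
  have hN : ∀ x, x ∈ N ↔ Additive.ofMul (x : P ⧸ A) ∈ W := fun x => Iff.rfl
  have hAN : A ≤ N := by
    intro a ha
    rw [hN]
    have : Additive.ofMul (a : P ⧸ A) = 0 := by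
      have h1 : (a : P ⧸ A) = 1 := (QuotientGroup.eq_one_iff a).mpr ha
      rw [h1]; rfl
    rw [this]
    exact W.zero_mem
  refine ⟨N, lt_of_le_of_ne hAN ?_, ?_, ?_⟩
  · rintro he
    apply hM
    rw [eq_top_iff]
    intro x _
    have h1 : Additive.ofMul (x : P ⧸ A) ∈ U ⊔ W := by rw [hUW.sup_eq_top]; trivial
    obtain ⟨u, hu, w, hw, huw⟩ := Submodule.mem_sup.mp h1
    obtain ⟨y, hy⟩ := QuotientGroup.mk_surjective w.toMul
    have h2 : w = Additive.ofMul (y : P ⧸ A) := by rw [hy]; rfl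
    rw [h2] at hw
    have h3 : y ∈ A := by rw [he]; exact (hN y).mpr hw
    have h4 : w = 0 := by
      rw [h2]
      have h1 : (y : P ⧸ A) = 1 := (QuotientGroup.eq_one_iff y).mpr h3
      rw [h1]; rfl
    rw [h4, add_zero] at huw
    rw [← hU, ← huw]
    exact hu
  · intro x hx
    rw [hN] at hx ⊢
    have := hWT hx
    rw [Submodule.mem_comap, hT] at this
    exact this
  · rintro x ⟨hxN, hxM⟩
    have h1 : Additive.ofMul (x : P ⧸ A) ∈ U ⊓ W := ⟨(hU x).mpr hxM, (hN x).mp hxN⟩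
    rw [hUW.inf_eq_bot, Submodule.mem_bot] at h1
    exact (QuotientGroup.eq_one_iff x).mp h1

theorem caseII (h : RS P ξ) (hA : AD ξ A) (he : Ex A 2) (hC : ∀ x : P, (∀ a ∈ A, x * a = a * x) → x ∈ A)
    (hAtop : A ≠ ⊤) : ∀ x : P, (x * x) * (x * x) = 1 := by
  classical
  have hAn := hA.nm
  have hcE : ∀ {z : P}, z * z = 1 → ∀ g, cm z g = 1 := fun {z} hz g => cm_eq_one_iff.mpr (inv_comm h hz g)
  have f1 : ∀ a ∈ A, (a * a) * (a * a) = 1 := by
    intro a ha
    have := he.pow_eq a ha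
    calc (a * a) * (a * a) = a ^ (2 ^ 2) := by norm_num [pow_succ, mul_assoc]
      _ = 1 := this
  have f2 : ∀ a ∈ A, ∀ g, cm a g * cm a g = 1 := by
    intro a ha g
    rw [← hA.cm_mul ha ha]
    exact hcE (f1 a ha) g
  have f3 : ∀ a ∈ A, ∀ g k, cm a (g * k) = cm a g * cm a k := by
    intro a ha g k
    rw [hA.cm_mul_r ha, hcE (f2 a ha g), mul_one]
  have f4 : ∀ g : P, g * g ∈ A := by
    intro g
    apply hC
    intro a ha
    have : cm a (g * g) = 1 := by rw [f3 a ha, f2 a ha]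
    exact (cm_eq_one_iff.mp this).symm
  -- Step w
  have stepw : ∀ B : Subgroup P, A < B → (∀ x ∈ B, ξ x ∈ B) →
      (∀ W : Subgroup P, A ≤ W → W ≤ B → (∀ w ∈ W, ξ w ∈ W) → W = A ∨ W = B) →
      (∀ b ∈ B, (b * b) * (b * b) = 1) ∧
      ∀ y : P, (y * y) * (y * y) = 1 → ∀ x ∈ B, cm x y * cm x y = 1 := by
    intro B hAB hBi irr
    obtain ⟨i, hi1, hile, hi, star⟩ := star h hA he (le_refl 2) hC hAB hBi irr
    have hi' : i = 1 := by omega
    subst hi'
    have star' : ∀ b ∈ B, ∀ a ∈ A, cm a b = 1 → b ∈ A ∨ a * a = 1 := by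
      intro b hb a ha hab
      have := star b hb a ha (by rw [hab, one_pow])
      rwa [show 2 ^ (2 - 1) = 2 by norm_num, pow_two] at this
    have hBsq : ∀ b ∈ B, (b * b) * (b * b) = 1 := by
      intro b hb
      rcases star' b hb (b * b) (f4 b) (cm_eq_one_iff.mpr (by group)) with h1 | h1
      · exact f1 b h1
      · exact h1
    refine ⟨hBsq, ?_⟩
    intro y hy x0 hx0
    by_contra hw0
    have hcA : ∀ x ∈ B, cm x y ∈ A := by
      intro x hx
      -- P/A is commutative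
      have h1 : cm x y = (x⁻¹ * x⁻¹) * (x * y⁻¹ * (x * y⁻¹)) * (y * y) := by unfold cm; group
      rw [h1]
      exact A.mul_mem (A.mul_mem (f4 _) (f4 _)) (f4 _)
    have I1 : ∀ x ∈ B, cm (cm x y) x = cm x y * cm x y := by
      intro x hx
      have h1 : cm (x * x) y = 1 := hcE (hBsq x hx) y
      rw [cm_mul_left, ← mul_cm] at h1
      have h2 := f2 _ (hcA x hx) x
      have h3 : cm x y * cm x y * cm (cm x y) x = 1 := by
        rw [mul_assoc, hA.ab _ (hcA x hx) _ (hA.cm_mem (hcA x hx) x), ← mul_assoc]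
        exact h1
      have h4 := f1 _ (hcA x hx)
      have h5 : cm (cm x y) x = (cm x y * cm x y)⁻¹ := eq_inv_of_mul_eq_one_right h3
      rw [h5]
      exact sq_inv h4
    have I2 : ∀ x ∈ B, cm (cm x y) y = cm x y * cm x y := by
      intro x hx
      have h1 : cm x (y * y) = 1 := by
        rw [← cm_inv, hcE hy, inv_one]
      rw [cm_mul_right, ← mul_cm, ← mul_assoc] at h1
      have h4 := f1 _ (hcA x hx)
      have h5 : cm (cm x y) y = (cm x y * cm x y)⁻¹ := eq_inv_of_mul_eq_one_right h1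
      rw [h5]
      exact sq_inv h4
    have K : ∀ b ∈ B, cm b y * cm b y = 1 → b ∈ A := by
      intro b hb hby
      have hw0A := hcA x0 hx0
      have e1 : cm (x0 * b) y = cm x0 y * (cm (cm x0 y) b * cm b y) := by
        rw [cm_mul_left, ← mul_cm, mul_assoc]
      have hz : (cm (cm x0 y) b * cm b y) * (cm (cm x0 y) b * cm b y) = 1 := (E h).mul_mem (f2 _ hw0A b) hby
      have e2 := I1 (x0 * b) (B.mul_mem hx0 hb)
      have hzA : cm (cm x0 y) b * cm b y ∈ A := hA.El _ hz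
      rw [e1, hA.cm_mul hw0A hzA, hcE hz, mul_one, f3 _ hw0A, I1 x0 hx0] at e2
      have e3 : cm x0 y * (cm (cm x0 y) b * cm b y) * (cm x0 y * (cm (cm x0 y) b * cm b y)) = cm x0 y * cm x0 y := by
        obtain ⟨z, hzz⟩ : ∃ z, z = cm (cm x0 y) b * cm b y := ⟨_, rfl⟩
        rw [← hzz] at hz ⊢
        calc cm x0 y * z * (cm x0 y * z) = cm x0 y * (z * cm x0 y) * z := by group
          _ = cm x0 y * (cm x0 y * z) * z := by rw [inv_comm h hz]
          _ = cm x0 y * cm x0 y * (z * z) := by group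
          _ = _ := by rw [hz, mul_one]
      rw [e3, mul_eq_left] at e2
      exact (star' b hb _ hw0A e2).resolve_right hw0
    -- the homomorphism
    have hcmB : ∀ x ∈ B, ∀ x' ∈ B, cm (x * x') y * cm (x * x') y = (cm x y * cm x y) * (cm x' y * cm x' y) := by
      intro x hx x' hx'
      have hz := f2 _ (hcA x hx) x'
      rw [cm_mul_left, ← mul_cm]
      have c1 := hA.ab _ (hcA x hx) _ (hcA x' hx')
      obtain ⟨z, hzz⟩ : ∃ z, z = cm (cm x y) x' := ⟨_, rfl⟩
      rw [← hzz] at hz ⊢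
      have c2 := inv_comm h hz
      calc cm x y * z * cm x' y * (cm x y * z * cm x' y) = cm x y * (z * (cm x' y * cm x y)) * z * cm x' y := by group
        _ = cm x y * ((cm x' y * cm x y) * z) * z * cm x' y := by rw [c2]
        _ = cm x y * (cm x' y * cm x y) * (z * z) * cm x' y := by group
        _ = cm x y * (cm x y * cm x' y) * cm x' y := by rw [hz, mul_one, c1]
        _ = _ := by group
    obtain ⟨F, _, _, _, n, d, lam, ψ, co⟩ := h.co
    have hEn := card_E h co
    let τ : B →* E h :=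
      { toFun := fun x => ⟨cm (x : P) y * cm (x : P) y, f1 _ (hcA x x.2)⟩
        map_one' := Subtype.ext (by
          have : cm (1 : P) y = 1 := AD.cm_one y
          change cm (1 : P) y * cm (1 : P) y = 1
          rw [this, mul_one])
        map_mul' := fun x x' => Subtype.ext (hcmB x x.2 x' x'.2) }
    have hker : τ.ker = A.subgroupOf B := by
      ext x
      rw [MonoidHom.mem_ker, mem_subgroupOf]
      constructor
      · intro hx
        exact K x x.2 (congrArg Subtype.val hx)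
      · intro hx
        apply Subtype.ext
        exact f2 _ hx y
    have hsurj : τ.range = ⊤ := by
      apply Subgroup.eq_top_of_le_card
      have h1 : Nat.card τ.range * Nat.card τ.ker = Nat.card B := by
        rw [← Subgroup.index_ker, mul_comm]
        exact Subgroup.card_mul_index _
      have h2 : Nat.card τ.ker = Nat.card A := by
        rw [hker]
        exact Nat.card_congr (Subgroup.subgroupOfEquivOfLe hAB.le).toEquiv
      have h3 := card_mul_le h co hA.inv hBi hAB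
      rw [hEn]
      rw [← h1, h2] at h3
      exact Nat.le_of_mul_le_mul_right h3 Nat.card_pos
    have hall : ∀ a ∈ A, cm a y = a * a := by
      intro a ha
      have h1 : (⟨a * a, f1 a ha⟩ : E h) ∈ τ.range := by rw [hsurj]; trivial
      obtain ⟨x, hx⟩ := h1
      have h2 : cm (x : P) y * cm (x : P) y = a * a := congrArg Subtype.val hx
      have hwA := hcA x x.2
      have h3 : ((cm (x : P) y)⁻¹ * a) * ((cm (x : P) y)⁻¹ * a) = 1 := by
        have c1 : (cm (x : P) y)⁻¹ * a = a * (cm (x : P) y)⁻¹ := hA.ab _ (A.inv_mem hwA) _ ha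
        calc ((cm (x : P) y)⁻¹ * a) * ((cm (x : P) y)⁻¹ * a) = ((cm (x : P) y)⁻¹ * a) * (a * (cm (x : P) y)⁻¹) := by
              rw [← c1]
          _ = (cm (x : P) y)⁻¹ * (a * a) * (cm (x : P) y)⁻¹ := by group
          _ = 1 := by rw [← h2]; group
      have h4 : a = cm (x : P) y * ((cm (x : P) y)⁻¹ * a) := by group
      rw [← h2]
      conv_lhs => rw [h4]
      rw [hA.cm_mul hwA (hA.El _ h3), hcE h3, mul_one, I2 x x.2]
    have hall' : ∀ a ∈ A, cm a (ξ y) = a * a := by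
      intro a ha
      have h1 : ξ⁻¹ a ∈ A := by
        have := zpow_inv_of hA.inv (-1) ha
        rwa [zpow_neg_one] at this
      have h2 := congrArg ξ (hall _ h1)
      rw [map_cm, map_mul, MulAut.apply_inv_self] at h2
      exact h2
    have h5 : y * ξ y ∈ A := by
      apply hC
      intro a ha
      have : cm a (y * ξ y) = 1 := by rw [f3 a ha, hall a ha, hall' a ha, f1 a ha]
      exact (cm_eq_one_iff.mp this).symm
    have h6 : y ∈ A := by
      apply fpf_sec h hA.inv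
      have h4 : ξ y * y⁻¹ = y⁻¹ * (y * ξ y) * y * (y * y)⁻¹ := by group
      rw [h4]
      exact A.mul_mem (hA.conj_mem h5 y) (A.inv_mem (f4 y))
    apply hw0
    rw [← cm_inv, ← mul_inv_rev, f2 y h6, inv_one]
  -- Step M
  obtain ⟨M, ⟨hAM, hMi, hMsq⟩, hmax⟩ := (Set.toFinite {M : Subgroup P | A ≤ M ∧ (∀ x ∈ M, ξ x ∈ M) ∧
    ∀ m ∈ M, (m * m) * (m * m) = 1}).exists_maximal ⟨A, le_refl _, hA.inv, f1⟩
  have hnorm : ∀ X : Subgroup P, A ≤ X → X.Normal := by
    intro X hX
    constructor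
    intro x hx g
    have h1 : g * x * g⁻¹ = (g * x * (g * x)) * (x⁻¹ * g⁻¹ * (x⁻¹ * g⁻¹) ) * (g * x * (g * x)) * (x⁻¹ * (g⁻¹ * g⁻¹) * x) * x⁻¹ := by
      group
    have h2 : g * x * g⁻¹ = x * (x⁻¹ * g * (x⁻¹ * g)) * (g⁻¹ * ((x * x) * g)) * (g⁻¹ * g⁻¹) := by group
    rw [h2]
    refine X.mul_mem (X.mul_mem (X.mul_mem hx (hX (f4 _))) (hX ?_)) (hX (f4 _))
    rw [← mul_assoc]
    exact hA.conj_mem (f4 x) g
  by_cases hMtop : M = ⊤
  · intro x
    exact hMsq x (by rw [hMtop]; trivial)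
  exfalso
  obtain ⟨N, hAN, hNi, hNM⟩ := exists_compl_inv h A M hA.inv hMi hAM f4 hMtop
  have hNn := hnorm N hAN.le
  obtain ⟨B, hAB, hBY, hBi, irr⟩ := exists_min h A N hA.inv hNi hAN
  obtain ⟨hBsq, hBM⟩ := stepw B hAB hBi irr
  have hMn := hnorm M hAM
  have hsup : M ⊔ B ≤ M := by
    apply hmax ⟨hAM.trans le_sup_left, ?_, ?_⟩ le_sup_left
    · intro x hx
      have : (M ⊔ B).map ξ.toMonoidHom ≤ M ⊔ B := by
        rw [Subgroup.map_sup]
        refine sup_le_sup ?_ ?_
        · rintro _ ⟨m, hm, rfl⟩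
          exact hMi m hm
        · rintro _ ⟨m, hm, rfl⟩
          exact hBi m hm
      exact this ⟨x, hx, rfl⟩
    · intro x hx
      obtain ⟨m, hm, b, hb, rfl⟩ := Subgroup.mem_sup_of_normal_left.mp hx
      have h1 : m * b * (m * b) = m * m * (b * b) * (b⁻¹ * cm b m * b) := by unfold cm; group
      have h2 := hBM m (hMsq m hm) b hb
      have h3 : b⁻¹ * cm b m * b = cm b m := by
        rw [mul_assoc, inv_comm h h2]; group
      rw [h1, h3]
      have h4 : m * m * (b * b) * cm b m ∈ E h := (E h).mul_mem ((E h).mul_mem (hMsq m hm) (hBsq b hb)) h2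
      exact h4
  obtain ⟨b, hb, hbA⟩ := SetLike.exists_of_lt hAB
  exact hbA (hNM ⟨(hBY hb).1, hsup (le_sup_right (a := M) hb)⟩)

end

section
variable {P : Type u} [Group P] [Finite P] {ξ : MulAut P} {A : Subgroup P}

theorem AD_E (h : RS P ξ) : AD ξ (E h) where
  nm := ⟨fun x hx g => by
    have h1 : g * x * g⁻¹ = x := by rw [← inv_comm h hx g]; group
    rw [h1]; exact hx⟩
  inv := E_inv
  ab := fun x hx y _ => inv_comm h hx y
  El := fun _ hx => hx

theorem AD_center (h : RS P ξ) : AD ξ (center P) where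
  nm := inferInstance
  inv := by
    intro x hx
    rw [mem_center_iff] at hx ⊢
    intro g
    have := congrArg ξ (hx (ξ⁻¹ g))
    rwa [map_mul, map_mul, MulAut.apply_inv_self] at this
  ab := fun x hx y _ => ((mem_center_iff.mp hx) y).symm
  El := fun _ hx => inv_central h hx

theorem caseI (h : RS P ξ) (hmax : ∀ A' : Subgroup P, AD ξ A' → A' = E h) (hne : E h ≠ ⊤) :
    ∀ x : P, (x * x) * (x * x) = 1 := by
  have hEn := (AD_E h).nm
  obtain ⟨x, _, hxE, hx2, hxg⟩ := exists_central_step h.pg (E h) ⊤ (lt_top_iff_ne_top.mpr hne)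
  let Y := YY (E h) ⊤
  have hYmem : ∀ y, y ∈ Y ↔ y * y ∈ E h ∧ ∀ g, cm y g ∈ E h := fun y => ⟨fun hy => ⟨hy.2.1, hy.2.2⟩, fun hy => ⟨trivial, hy.1, hy.2⟩⟩
  have hEY : E h ≤ Y := by
    intro a ha
    rw [hYmem]
    refine ⟨(E h).mul_mem ha ha, fun g => ?_⟩
    have : cm a g = 1 := cm_eq_one_iff.mpr (inv_comm h ha g)
    rw [this]; exact (E h).one_mem
  have hYi' : ∀ (a : MulAut P), ∀ y ∈ Y, a y ∈ Y := by
    intro a y hy
    rw [hYmem] at hy ⊢
    refine ⟨?_, fun g => ?_⟩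
    · rw [← map_mul]
      exact E_inv' a _ hy.1
    · have := E_inv' a _ (hy.2 (a⁻¹ g))
      rw [map_cm, MulAut.apply_inv_self] at this
      exact this
  have hYi : ∀ y ∈ Y, ξ y ∈ Y := hYi' ξ
  have hYn : Y.Normal := normal_of_le_YY hEY (le_refl _)
  -- the centraliser of Y
  let C := centralizer (Y : Set P)
  have hC : ∀ x, x ∈ C ↔ ∀ a ∈ Y, x * a = a * x := by
    intro x
    rw [mem_centralizer_iff]
    exact ⟨fun h a ha => (h a ha).symm, fun h a ha => (h a ha).symm⟩
  have hCn : C.Normal := inferInstance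
  have hCi : ∀ x ∈ C, ξ x ∈ C := by
    intro x hx
    rw [hC] at hx ⊢
    intro a ha
    have h1 : ξ⁻¹ a ∈ Y := by
      have := zpow_inv_of hYi (-1) ha
      rwa [zpow_neg_one] at this
    have h2 := congrArg ξ (hx _ h1)
    rw [map_mul, map_mul, MulAut.apply_inv_self] at h2
    exact h2
  have hCY : C ⊓ Y = E h := by
    apply hmax
    refine ⟨inferInstance, fun x hx => ⟨hCi x hx.1, hYi x hx.2⟩, fun x hx y hy => (hC x).mp hx.1 y hy.2, ?_⟩
    intro x hx
    exact ⟨(hC x).mpr fun a _ => inv_comm h hx a, hEY hx⟩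
  have hsq : ∀ c ∈ C, c * c ∈ E h → c ∈ E h := by
    intro c hc hcc
    by_cases hc1 : c * c = 1
    · exact hc1
    obtain ⟨k, hk⟩ := h.tr (x * x) (c * c) (fun e => hxE e) hx2 hc1 hcc
    have hxY : x ∈ Y := (hYmem x).mpr ⟨hx2, hxg⟩
    have hyY : k x ∈ Y := hYi' k x hxY
    have h2 : k x * k x = c * c := by rw [← map_mul, hk]
    have h3 : (c * k x) * (c * k x) = 1 := by
      have h4 := (hC c).mp hc _ hyY
      calc (c * k x) * (c * k x) = (c * k x) * (k x * c) := by rw [← h4]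
        _ = c * (k x * k x) * c := by group
        _ = (c * c) * (c * c) := by rw [h2]; group
        _ = 1 := hcc
    have h5 : c ∈ Y := by
      have := Y.mul_mem (hEY (show c * k x ∈ E h from h3)) (Y.inv_mem hyY)
      rwa [mul_inv_cancel_right] at this
    rw [← hCY]
    exact ⟨hc, h5⟩
  have hCE : C = E h := by
    by_contra hne'
    have hlt : E h < C := by
      refine lt_of_le_of_ne ?_ fun e => hne' e.symm
      intro z hz
      exact (hC z).mpr fun a _ => inv_comm h hz a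
    obtain ⟨c, hc, hcE, hc2, _⟩ := exists_central_step h.pg (E h) C hlt
    exact hcE (hsq c hc hc2)
  intro g
  have h1 : g * g ∈ C := by
    rw [hC]
    intro a ha
    have h2 := ((hYmem a).mp ha).2 g
    have h3 : cm a (g * g) = 1 := by
      rw [cm_mul_right, ← mul_cm, cm_eq_one_iff.mpr (inv_comm h h2 g), mul_one]
      exact h2
    exact (cm_eq_one_iff.mp h3).symm
  rw [hCE] at h1
  exact h1

theorem caseI_center (h : RS P ξ) (hmax : ∀ A' : Subgroup P, AD ξ A' → A' = E h) : center P = E h :=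
  hmax _ (AD_center h)

/-- all squares lie in `E`, and `Z(P) = E` -/
theorem higman (h : RS P ξ) (hna : ∃ x y : P, x * y ≠ y * x) :
    (∀ x : P, (x * x) * (x * x) = 1) ∧ center P = E h := by
  obtain ⟨A, hA, hmax⟩ := (Set.toFinite {A : Subgroup P | AD ξ A}).exists_maximal ⟨E h, AD_E h⟩
  have hmax' : ∀ A' : Subgroup P, AD ξ A' → A ≤ A' → A' = A := fun A' h1 h2 => le_antisymm (hmax h1 h2) h2
  have hA' : AD ξ A := hA
  have hAtop : A ≠ ⊤ := by
    rintro rfl
    obtain ⟨x, y, hxy⟩ := hna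
    exact hxy (hA'.ab x trivial y trivial)
  obtain ⟨e, he⟩ := exists_ex h hA'
  rcases Nat.lt_or_ge e 2 with h2 | h2
  · have he1 : e = 1 := by have := he.one_le; omega
    subst he1
    have hAE : A = E h := by
      refine le_antisymm (fun a ha => ?_) fun a ha => hA'.El a ha
      have := he.pow_eq a ha
      rw [pow_one, pow_two] at this
      exact this
    have hmaxE : ∀ A' : Subgroup P, AD ξ A' → A' = E h := by
      intro A' hA'1
      rw [← hAE]
      exact hmax' A' hA'1 (by rw [hAE]; exact fun a ha => hA'1.El a ha)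
    exact ⟨caseI h hmaxE (by rw [← hAE]; exact hAtop), caseI_center h hmaxE⟩
  · have hC := self_centralizing h hA' hmax' he h2
    have hAn := hA'.nm
    obtain ⟨B, hAB, hBY, hBi, irr⟩ := exists_min h A ⊤ hA'.inv (fun _ _ => trivial) (lt_top_iff_ne_top.mpr hAtop)
    have he2 := e_eq_two h hA' he h2 hC hAB hBi irr (fun b hb => (hBY hb).2.1)
    subst he2
    refine ⟨caseII h hA' he hC hAtop, ?_⟩
    refine le_antisymm ?_ fun z hz => inv_central h hz
    intro z hz
    by_contra hzE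
    have hzz : z * z ≠ 1 := hzE
    have hzA : z ∈ A := hC z fun a _ => ((mem_center_iff.mp hz) a).symm
    have hz4 : (z * z) * (z * z) = 1 := caseII h hA' he hC hAtop z
    apply hAtop
    rw [eq_top_iff]
    intro x _
    apply hC
    intro a ha
    have haC : a ∈ center P := by
      by_cases haa : a * a = 1
      · exact inv_central h haa
      obtain ⟨k, hk⟩ := h.tr (z * z) (a * a) hzz hz4 haa (caseII h hA' he hC hAtop a)
      have hw : k z ∈ center P := by
        rw [mem_center_iff] at hz ⊢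
        intro g
        have := congrArg k (hz (k⁻¹ g))
        rwa [map_mul, map_mul, MulAut.apply_inv_self] at this
      have h3 : ((k z)⁻¹ * a) * ((k z)⁻¹ * a) = 1 := by
        have h4 : (k z)⁻¹ * a = a * (k z)⁻¹ := ((mem_center_iff.mp (inv_mem hw)) a).symm
        have h5 : k z * k z = a * a := by rw [← map_mul, hk]
        calc ((k z)⁻¹ * a) * ((k z)⁻¹ * a) = ((k z)⁻¹ * a) * (a * (k z)⁻¹) := by rw [← h4]
          _ = (k z)⁻¹ * (a * a) * (k z)⁻¹ := by group
          _ = 1 := by rw [← h5]; group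
      have h5 := mul_mem hw (inv_central h h3)
      rwa [mul_inv_cancel_left] at h5
    exact (mem_center_iff.mp haC) x

end

end H66.Hig
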