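import Mathlib
import Cfsg.Agent.Lib.H66.Hig4
import Cfsg.Agent.Lib.H50.FieldAut
import Cfsg.Agent.S3360

/-!
A solvable group transitive on the nonzero vectors of a 2-group contains a field multiplication of order
`(2^n - 1)/d` with `d ∣ n`.
-/

set_option autoImplicit false

namespace H66.Hig

open Subgroup

universe u v

theorem singer {V : Type u} [AddCommGroup V] [Module (ZMod 2) V] [Finite V] (hV : 4 ≤ Nat.card V)
    {G : Type v} [Group G] [Finite G] (hsol : Group.IsSolvable G) (ρ : G →* (V ≃ₗ[ZMod 2] V))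
    (hρ : Function.Injective ρ) (htrans : ∀ v w : V, v ≠ 0 → w ≠ 0 → ∃ g : G, ρ g v = w) :
    ∃ (F : Type) (_ : Field F) (_ : Fintype F) (_ : CharP F 2) (n d : ℕ) (e : V ≃+ F) (g : G) (lam : F),
      2 ≤ n ∧ Fintype.card F = 2 ^ n ∧ orderOf lam * d = 2 ^ n - 1 ∧ d ∣ n ∧ ∀ v, e (ρ g v) = lam * e v := by
  classical
  have hnt : Nontrivial V := Finite.one_lt_card_iff_nontrivial.mp (by omega)
  have : Fact (Nat.Prime 2) := ⟨Nat.prime_two⟩
  have hcV : ∃ n, Nat.card V = 2 ^ n := by
    refine ⟨Module.finrank (ZMod 2) V, ?_⟩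
    rw [Module.natCard_eq_pow_finrank (K := ZMod 2), Nat.card_zmod]
  obtain ⟨n, hn⟩ := hcV
  have hn2 : 2 ≤ n := by
    by_contra hcon
    have : 2 ^ n ≤ 2 ^ 1 := Nat.pow_le_pow_right (by norm_num) (by omega)
    omega
  rcases Cfsg.Agent.S3360.result 2 hsol ρ hρ htrans with ⟨F, iF, iFf, e, he⟩ | hex
  swap
  · exfalso
    rw [hn] at hex
    have hodd : ∀ x ∈ ({9, 25, 49, 121, 529, 81} : Set ℕ), ¬ 2 ∣ x := by
      intro x hx
      simp only [Set.mem_insert_iff, Set.mem_singleton_iff] at hx
      omega
    exact hodd _ hex (dvd_pow_self 2 (by omega))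
  have hcF : Fintype.card F = 2 ^ n := by
    rw [← hn, ← Nat.card_eq_fintype_card]
    exact (Nat.card_congr e.toEquiv).symm
  have hch : CharP F 2 := by
    apply CharTwo.of_one_ne_zero_of_two_eq_zero one_ne_zero
    have h1 : e.symm 1 + e.symm 1 = 0 := by
      rw [← two_nsmul]
      exact ZModModule.char_nsmul_eq_zero (n := 2) _
    have h2 := congrArg e h1
    rw [map_add, e.apply_symm_apply, map_zero] at h2
    rw [← h2]; norm_num
  choose a s has using he
  have ha1 : ∀ g, e (ρ g (e.symm 1)) = a g := by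
    intro g
    rw [has, e.apply_symm_apply, map_one, mul_one]
  have ha0 : ∀ g, a g ≠ 0 := by
    intro g h0
    have h1 := ha1 g
    rw [h0, map_eq_zero_iff e e.injective, map_eq_zero_iff (ρ g) (ρ g).injective,
      map_eq_zero_iff e.symm e.symm.injective] at h1
    exact one_ne_zero h1
  have hmul : ∀ g h x, a (g * h) * s (g * h) x = a g * (s g (a h) * s g (s h x)) := by
    intro g h x
    have h1 := has (g * h) (e.symm x)
    rw [map_mul, e.apply_symm_apply] at h1
    have h2 : (ρ g * ρ h) (e.symm x) = ρ g (ρ h (e.symm x)) := rfl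
    rw [h2, has g, has h, e.apply_symm_apply, map_mul] at h1
    exact h1.symm
  have hamul : ∀ g h, a (g * h) = a g * s g (a h) := by
    intro g h
    have := hmul g h 1
    rwa [map_one, map_one, map_one, mul_one, mul_one] at this
  have hsmul : ∀ g h, s (g * h) = s g * s h := by
    intro g h
    ext x
    have h1 := hmul g h x
    rw [hamul g h, ← mul_assoc] at h1
    have h2 : a g * s g (a h) ≠ 0 := by rw [← hamul]; exact ha0 _
    exact mul_left_cancel₀ h2 h1
  let S : G →* (F ≃+* F) := MonoidHom.mk' s hsmul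
  have hS : ∀ g, S g = s g := fun g => rfl
  have hker : ∀ g, g ∈ S.ker → s g = 1 := fun g hg => hg
  let α : S.ker →* F :=
    { toFun := fun g => a g
      map_one' := by
        have h1 : a ((1 : S.ker) : G) = a 1 := rfl
        rw [h1, ← ha1, map_one]
        exact e.apply_symm_apply 1
      map_mul' := by
        intro g h
        have h1 : a ((g * h : S.ker) : G) = a ((g : G) * (h : G)) := rfl
        rw [h1, hamul, hker _ g.2]
        rfl }
  have hα : Function.Injective α := by
    rw [injective_iff_map_eq_one]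
    intro g hg
    have hg' : a (g : G) = 1 := hg
    apply Subtype.ext
    apply hρ
    rw [OneMemClass.coe_one, map_one]
    ext v
    apply e.injective
    rw [has, hg', hker _ g.2, one_mul]
    rfl
  have hcyc : IsCyclic S.ker := isCyclic_of_subgroup_isDomain α hα
  obtain ⟨g0, hg0⟩ := hcyc.exists_generator
  have hord : orderOf (a (g0 : G)) = Nat.card S.ker := by
    rw [← orderOf_eq_card_of_forall_mem_zpowers hg0]
    exact orderOf_injective α hα g0
  -- the action on V
  let _ : MulAction G V :=
    { smul := fun g v => ρ g v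
      one_smul := fun v => by
        change ρ 1 v = v
        rw [map_one]; rfl
      mul_smul := fun g h v => by
        change ρ (g * h) v = ρ g (ρ h v)
        rw [map_mul]; rfl }
  have hsm : ∀ (g : G) (v : V), g • v = ρ g v := fun g v => rfl
  have hv1 : e.symm 1 ≠ 0 := by
    rw [Ne, map_eq_zero_iff e.symm e.symm.injective]
    exact one_ne_zero
  have horb : MulAction.orbit G (e.symm 1) = {v : V | v ≠ 0} := by
    ext v
    rw [Set.mem_setOf_eq, MulAction.mem_orbit_iff]
    constructor
    · rintro ⟨g, rfl⟩ h0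
      rw [hsm, map_eq_zero_iff (ρ g) (ρ g).injective] at h0
      exact hv1 h0
    · intro hv
      exact htrans _ v hv1 hv
  have hind : (MulAction.stabilizer G (e.symm (1 : F))).index = 2 ^ n - 1 := by
    rw [MulAction.index_stabilizer, horb, ← hn]
    have h1 : ({v : V | v ≠ 0} : Set V) = ({0} : Set V)ᶜ := rfl
    rw [h1, Set.ncard_compl, Set.ncard_singleton]
  have hG1 := Subgroup.card_mul_index (MulAction.stabilizer G (e.symm (1 : F)))
  have hG2 := Subgroup.card_mul_index S.ker
  rw [hind] at hG1
  rw [Subgroup.index_ker] at hG2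
  -- card ker divides 2^n - 1
  have hdvd : Nat.card S.ker ∣ 2 ^ n - 1 := by
    rw [← hord]
    have h1 : a (g0 : G) ^ (2 ^ n - 1) = 1 := by
      rw [← hcF]
      exact FiniteField.pow_card_sub_one_eq_one _ (ha0 _)
    exact orderOf_dvd_of_pow_eq_one h1
  obtain ⟨d, hd⟩ := hdvd
  refine ⟨F, iF, iFf, hch, n, d, e, g0, a g0, hn2, hcF, ?_, ?_, ?_⟩
  · rw [hord, hd]
  · have h1 : Nat.card (MulAction.stabilizer G (e.symm (1 : F))) * d = Nat.card S.range := by
      have h2 : Nat.card S.ker * (Nat.card (MulAction.stabilizer G (e.symm (1 : F))) * d) =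
          Nat.card S.ker * Nat.card S.range := by
        rw [hG2, ← hG1, hd]; ring
      exact Nat.eq_of_mul_eq_mul_left Nat.card_pos h2
    have h3 : Nat.card (F ≃+* F) = n := by
      refine H50.FieldAut.card_ringAut (p := 2) ?_
      rw [Nat.card_eq_fintype_card, hcF]
    rw [← h3]
    exact (Dvd.intro_left _ h1).trans (Subgroup.card_subgroup_dvd_card _)
  · intro v
    rw [has, hker _ g0.2]
    rfl

end H66.Hig
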