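import Mathlib
import Cfsg.Agent.Lib.H66.Hig5

/-!
Finite 2-groups with more than one involution and a solvable group of automorphisms transitive on the involutions
satisfy the hypotheses `RS` of the generalised theorem of Higman.
-/

set_option autoImplicit false

namespace H66.Hig

open Subgroup

universe u

theorem exists_RS {P : Type u} [Group P] [Finite P] (hp : IsPGroup 2 P)
    (two : ∃ x y : P, x ≠ y ∧ x ≠ 1 ∧ x * x = 1 ∧ y ≠ 1 ∧ y * y = 1) (Y : Subgroup (MulAut P))
    (hY : Group.IsSolvable Y)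
    (tr : ∀ x y : P, x ≠ 1 → x * x = 1 → y ≠ 1 → y * y = 1 → ∃ a ∈ Y, a x = y) : ∃ ξ : MulAut P, RS P ξ := by
  classical
  have : Fact (Nat.Prime 2) := ⟨Nat.prime_two⟩
  have hcen : ∀ x : P, x * x = 1 → x ∈ center P := by
    intro x hx
    by_cases hx1 : x = 1
    · rw [hx1]; exact one_mem _
    have : Nontrivial P := ⟨⟨x, 1, hx1⟩⟩
    have hc : Nontrivial (center P) := hp.center_nontrivial
    obtain ⟨⟨z, hz⟩, hz1⟩ := exists_ne (1 : center P)
    have hz1' : z ≠ 1 := fun e => hz1 (Subtype.ext e)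
    obtain ⟨m, hm1, hm2⟩ := H16.Suz.exists_pow_invol hp hz1'
    obtain ⟨a, _, ha⟩ := tr _ x hm1 hm2 hx1 hx
    rw [← ha]
    have hzm : z ^ m ∈ center P := pow_mem hz m
    rw [mem_center_iff] at hzm ⊢
    intro g
    have := congrArg a (hzm (a⁻¹ g))
    rw [map_mul, map_mul, MulAut.apply_inv_self] at this
    exact this
  have hcomm : ∀ x : P, x * x = 1 → ∀ g, x * g = g * x := fun x hx g => ((mem_center_iff.mp (hcen x hx)) g).symm
  let Ω : Subgroup P :=
    { carrier := {x | x * x = 1}
      one_mem' := one_mul 1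
      mul_mem' := by
        intro x y hx hy
        change x * y * (x * y) = 1
        have hx' : x * x = 1 := hx
        have hy' : y * y = 1 := hy
        calc x * y * (x * y) = x * (y * x) * y := by group
          _ = x * (x * y) * y := by rw [hcomm y hy' x]
          _ = (x * x) * (y * y) := by group
          _ = 1 := by rw [hx', hy', one_mul]
      inv_mem' := by
        intro x hx
        change x⁻¹ * x⁻¹ = 1
        rw [← mul_inv_rev, (hx : x * x = 1), inv_one] }
  have hΩ : ∀ x : P, x ∈ Ω ↔ x * x = 1 := fun x => Iff.rfl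
  let _ : CommGroup Ω := { (inferInstance : Group Ω) with mul_comm := fun a b => Subtype.ext (hcomm a a.2 b) }
  let V := Additive Ω
  let _ : Module (ZMod 2) V := AddCommGroup.zmodModule (fun v => by
    rw [two_nsmul]
    apply Additive.toMul.injective
    apply Subtype.ext
    exact v.toMul.2)
  have hΩa : ∀ (a : MulAut P) (x : P), x ∈ Ω → a x ∈ Ω := by
    intro a x hx
    rw [hΩ] at hx ⊢
    rw [← map_mul, hx, map_one]
  let res : Y → (V ≃+ V) := fun y =>
    { toFun := fun v => Additive.ofMul ⟨(y : MulAut P) (v.toMul : P), hΩa _ _ v.toMul.2⟩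
      invFun := fun v => Additive.ofMul ⟨(y : MulAut P)⁻¹ (v.toMul : P), hΩa _ _ v.toMul.2⟩
      left_inv := fun v => by
        apply Additive.toMul.injective
        apply Subtype.ext
        exact MulAut.inv_apply_self _ _ _
      right_inv := fun v => by
        apply Additive.toMul.injective
        apply Subtype.ext
        exact MulAut.apply_inv_self _ _ _
      map_add' := fun v w => by
        apply Additive.toMul.injective
        apply Subtype.ext
        exact map_mul (y : MulAut P) _ _ }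
  let ρ : Y →* (V ≃ₗ[ZMod 2] V) := MonoidHom.mk' (fun y =>
    (res y).toLinearEquiv (fun c x => ZMod.map_smul (res y).toAddMonoidHom c x)) (fun y z => rfl)
  have hρv : ∀ (y : Y) (v : V), (((ρ y v).toMul : Ω) : P) = (y : MulAut P) (v.toMul : P) := fun y v => rfl
  have hfin : Finite (V ≃ₗ[ZMod 2] V) :=
    Finite.of_injective (fun e : V ≃ₗ[ZMod 2] V => (e : V → V)) DFunLike.coe_injective
  have hsol : Group.IsSolvable ρ.range :=
    Group.isSolvable_of_surjective (f := ρ.rangeRestrict) ρ.rangeRestrict_surjective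
  obtain ⟨x0, y0, hxy, hx1, hx2, hy1, hy2⟩ := two
  have h3 : 3 ≤ Nat.card V := by
    have h3 : Nat.card (Fin 3) ≤ Nat.card Ω := by
      apply Nat.card_le_card_of_injective (fun i : Fin 3 => (![1, ⟨x0, hx2⟩, ⟨y0, hy2⟩] i : Ω))
      intro i j hij
      have e1 : (1 : Ω) ≠ ⟨x0, hx2⟩ := fun h' => hx1 (congrArg Subtype.val h').symm
      have e2 : (1 : Ω) ≠ ⟨y0, hy2⟩ := fun h' => hy1 (congrArg Subtype.val h').symm
      fin_cases i <;> fin_cases j <;> simp at hij ⊢
      · exact e1 hij
      · exact e2 hij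
      · exact e1 hij.symm
      · exact hxy hij
      · exact e2 hij.symm
      · exact hxy hij.symm
    rw [Nat.card_eq_fintype_card, Fintype.card_fin] at h3
    exact h3
  have h4 : 4 ≤ Nat.card V := by
    obtain ⟨k, hk⟩ := (hp.to_subgroup Ω).exists_card_eq
    have hk' : Nat.card V = 2 ^ k := hk
    rw [hk'] at h3 ⊢
    rcases Nat.lt_or_ge k 2 with h | h
    · interval_cases k <;> norm_num at h3
    · calc 4 = 2 ^ 2 := rfl
        _ ≤ 2 ^ k := Nat.pow_le_pow_right (by norm_num) h
  have hval : ∀ v : V, v ≠ 0 → ((v.toMul : Ω) : P) ≠ 1 := by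
    intro v hv h1
    apply hv
    apply Additive.toMul.injective
    apply Subtype.ext
    exact h1
  obtain ⟨F, iF, iFf, iFc, n, d, e, g, lam, hn2, hcF, hord, hdn, heq⟩ := singer h4 hsol ρ.range.subtype
    (Subtype.val_injective) (by
      intro v w hv hw
      obtain ⟨a, haY, ha⟩ := tr _ _ (hval v hv) v.toMul.2 (hval w hw) w.toMul.2
      refine ⟨⟨ρ ⟨a, haY⟩, ⟨a, haY⟩, rfl⟩, ?_⟩
      apply Additive.toMul.injective
      apply Subtype.ext
      exact ha)
  obtain ⟨_, y, rfl⟩ := g
  have heq' : ∀ v, e (ρ y v) = lam * e v := heq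
  let ψ : P → F := fun x => if hx : x ∈ Ω then e (Additive.ofMul ⟨x, hx⟩) else 0
  have hψ : ∀ x (hx : x ∈ Ω), ψ x = e (Additive.ofMul ⟨x, hx⟩) := fun x hx => dif_pos hx
  have hψy : ∀ x, x ∈ Ω → ψ ((y : MulAut P) x) = lam * ψ x := by
    intro x hx
    rw [hψ x hx, hψ _ (hΩa _ x hx), ← heq']
    rfl
  obtain ⟨s, r, hr, hsr⟩ := Nat.exists_eq_two_pow_mul_odd (n := orderOf (y : MulAut P)) (orderOf_pos _).ne'
  have hψk : ∀ (k : ℕ) x, x ∈ Ω → ψ (((y : MulAut P) ^ k) x) = lam ^ k * ψ x := by
    intro k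
    induction k with
    | zero => intro x _; simp
    | succ k ih =>
      intro x hx
      rw [pow_succ, MulAut.mul_apply, ih _ (hΩa _ x hx), hψy x hx, pow_succ]
      ring
  have hlodd : Nat.Coprime (orderOf lam) (2 ^ s) := by
    apply Nat.Coprime.pow_right
    have h5 : 2 ∣ 2 ^ n := dvd_pow_self 2 (by omega)
    have h6 : Odd (2 ^ n - 1) := by
      obtain ⟨c, hc⟩ := h5
      have : 1 ≤ c := by
        rcases Nat.eq_zero_or_pos c with h0 | h0
        · rw [h0] at hc
          have : 0 < 2 ^ n := by positivity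
          omega
        · exact h0
      exact ⟨c - 1, by omega⟩
    rw [← hord] at h6
    exact (Nat.odd_mul.mp h6).1.coprime_two_right
  refine ⟨(y : MulAut P) ^ (2 ^ s), hp, fun x z hx hx' hz hz' => ?_, ⟨x0, y0, hxy, hx1, hx2, hy1, hy2⟩, ?_,
    F, iF, iFf, iFc, n, d, lam ^ (2 ^ s), ψ, ?_⟩
  · obtain ⟨a, _, ha⟩ := tr x z hx hx' hz hz'
    exact ⟨a, ha⟩
  · have h7 : orderOf ((y : MulAut P) ^ (2 ^ s)) = r := by
      rw [orderOf_pow_of_dvd (by positivity) (by rw [hsr]; exact Dvd.intro _ rfl), hsr]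
      exact Nat.mul_div_cancel_left _ (by positivity)
    rw [h7]
    exact hr
  · constructor
    · exact hn2
    · exact hcF
    · rw [hlodd.orderOf_pow]
      exact hord
    · exact hdn
    · intro x hx z hz
      rw [hψ x hx, hψ z hz, hψ _ (Ω.mul_mem hx hz), ← map_add]
      rfl
    · intro x hx hx0
      rw [hψ x hx, map_eq_zero_iff e e.injective] at hx0
      have := congrArg (fun v : V => ((v.toMul : Ω) : P)) hx0
      exact this
    · intro z
      refine ⟨(((e.symm z).toMul : Ω) : P), (e.symm z).toMul.2, ?_⟩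
      rw [hψ _ (e.symm z).toMul.2]
      exact e.apply_symm_apply z
    · intro x hx
      exact hψk _ x hx

end H66.Hig
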