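import Mathlib
import Cfsg.Agent.Lib.H66.Hig6
import Cfsg.Agent.Lib.H1.Frat

/-!
Higman's theorem for solvable groups of automorphisms: `G' = Φ(G) = Z(G) = Ω₁(G)`.
-/

set_option autoImplicit false

namespace H66.Hig

open Subgroup
open scoped commutatorElement

universe u

theorem special {P : Type u} [Group P] [Finite P] {ξ : MulAut P} (h : RS P ξ) (hna : ∃ x y : P, x * y ≠ y * x) :
    _root_.commutator P = E h ∧ frattini P = E h ∧ center P = E h := by
  have : Fact (Nat.Prime 2) := ⟨Nat.prime_two⟩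
  obtain ⟨hsq, hcen⟩ := higman h hna
  have hsq' : ∀ x : P, x * x ∈ E h := fun x => hsq x
  have hnorm : (E h).Normal := by rw [← hcen]; infer_instance
  have hcomm : _root_.commutator P ≤ E h := by
    rw [_root_.commutator_def, commutator_le]
    intro g _ k _
    have h1 : ⁅g, k⁆ = (g * k * (g * k)) * (k⁻¹ * (g⁻¹ * g⁻¹) * k⁻¹⁻¹) * (k⁻¹ * k⁻¹) := by
      rw [commutatorElement_def]; group
    rw [h1]
    exact (E h).mul_mem ((E h).mul_mem (hsq' _) (hnorm.conj_mem _ (hsq' _) _)) (hsq' _)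
  have hne : _root_.commutator P ≠ ⊥ := by
    intro h0
    obtain ⟨x, y, hxy⟩ := hna
    apply hxy
    have h1 : ⁅x, y⁆ ∈ _root_.commutator P := by
      rw [_root_.commutator_def]
      exact commutator_mem_commutator trivial trivial
    rw [h0, mem_bot, commutatorElement_def] at h1
    have h2 : x * y * x⁻¹ * y⁻¹ * y * x = y * x := by rw [h1, one_mul]
    rw [← h2]; group
  have h1 : _root_.commutator P = E h := by
    refine E_irr h ?_ hcomm hne
    intro x hx
    have h2 : (_root_.commutator P).map ξ.toMonoidHom = _root_.commutator P :=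
      Subgroup.characteristic_iff_map_eq.mp inferInstance ξ
    rw [← h2]
    exact ⟨x, hx, rfl⟩
  have h2 : frattini P = E h := by
    apply le_antisymm
    · apply H1.Frat.frattini_le_of_elementary (p := 2) hcomm
      intro x
      rw [pow_two]
      exact hsq' x
    · rw [← h1]
      have : Group.IsNilpotent P := h.pg.isNilpotent
      exact H1.Frat.commutator_le_frattini
  exact ⟨h1, h2, hcen⟩

theorem main {G : Type u} [Group G] [Finite G] (hG : IsPGroup 2 G) (hna : ¬ IsMulCommutative G)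
    (htwo : ∃ x y : G, x ≠ y ∧ x ≠ 1 ∧ x ^ 2 = 1 ∧ y ≠ 1 ∧ y ^ 2 = 1)
    (hY : ∃ Y : Subgroup (MulAut G), Group.IsSolvable Y ∧
      ∀ x y : G, x ≠ 1 → x ^ 2 = 1 → y ≠ 1 → y ^ 2 = 1 → ∃ a ∈ Y, a x = y) :
    _root_.commutator G = frattini G ∧ frattini G = center G ∧ ∀ x : G, x ∈ center G ↔ x ^ 2 = 1 := by
  obtain ⟨Y, hYs, htr⟩ := hY
  simp only [pow_two] at htwo htr ⊢
  obtain ⟨ξ, h⟩ := exists_RS hG htwo Y hYs htr
  have hna' : ∃ x y : G, x * y ≠ y * x := by
    by_contra hcon
    push Not at hcon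
    exact hna ⟨⟨hcon⟩⟩
  obtain ⟨h1, h2, h3⟩ := special h hna'
  refine ⟨h1.trans h2.symm, h2.trans h3.symm, fun x => ?_⟩
  rw [h3]
  exact mem_E

end H66.Hig
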