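import Mathlib

/-!
Bender's theorem on groups with large TI-subgroups, first part.
-/

set_option autoImplicit false
set_option linter.unusedSectionVars false

open Subgroup

namespace H66.Large

variable {G : Type*} [Group G]

structure Hyp (M : Subgroup G) (z : G) : Prop where
  ne_bot : M ≠ ⊥
  ti : ∀ g : G, M ⊓ M.map (MulAut.conj g).toMonoidHom ≠ ⊥ → M.map (MulAut.conj g).toMonoidHom = M
  hz : orderOf z = 2
  hzN : z ∈ normalizer (M : Set G)
  fac : M ⊔ (normalizer (M : Set G) ⊓ centralizer ({z} : Set G)) = normalizer (M : Set G)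
  odd : ∀ x ∈ M, x ≠ 1 → Odd (Nat.card ↥(centralizer ({x} : Set G)))
  large : M.index < Nat.card {g : G // orderOf g = 2}

theorem inv_sq {v : G} (hv : orderOf v = 2) : v * v = 1 := by
  rw [← pow_two, ← hv, pow_orderOf_eq_one]

theorem inv_inv' {v : G} (hv : orderOf v = 2) : v⁻¹ = v := inv_eq_of_mul_eq_one_left (inv_sq hv)

theorem inv_ne {v : G} (hv : orderOf v = 2) : v ≠ 1 := by
  rintro rfl
  rw [orderOf_one] at hv
  exact absurd hv (by norm_num)

theorem inv_of_sq {v : G} (h : v * v = 1) (h1 : v ≠ 1) : orderOf v = 2 := by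
  rw [orderOf_eq_prime_iff]
  exact ⟨by rw [pow_two]; exact h, h1⟩

variable {M : Subgroup G} {z : G}

namespace Hyp

variable (h : Hyp M z)
include h

theorem conj_mem {g x : G} (hg : g ∈ normalizer (M : Set G)) (hx : x ∈ M) : g * x * g⁻¹ ∈ M :=
  (mem_normalizer_iff.mp hg x).mp hx

theorem mem_N {g x : G} (hx : x ∈ M) (hx1 : x ≠ 1) (hgx : g * x * g⁻¹ ∈ M) : g ∈ normalizer (M : Set G) := by
  have h1 : M ⊓ M.map (MulAut.conj g).toMonoidHom ≠ ⊥ := by
    intro h2
    have h3 : g * x * g⁻¹ ∈ M ⊓ M.map (MulAut.conj g).toMonoidHom := ⟨hgx, ⟨x, hx, rfl⟩⟩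
    rw [h2, mem_bot] at h3
    apply hx1
    have h4 : g * x * g⁻¹ = 1 := h3
    rw [mul_inv_eq_one] at h4
    exact mul_eq_left.mp h4
  have h2 := h.ti g h1
  rw [mem_normalizer_iff]
  intro y
  constructor
  · intro hy
    have : g * y * g⁻¹ ∈ M.map (MulAut.conj g).toMonoidHom := ⟨y, hy, rfl⟩
    rwa [h2] at this
  · intro hy
    rw [← h2] at hy
    obtain ⟨y', hy', e⟩ := hy
    have e' : g * y' * g⁻¹ = g * y * g⁻¹ := e
    have : y' = y := by
      have := mul_right_cancel e'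
      exact mul_left_cancel this
    rwa [← this]

theorem mem_N' {g x : G} (hx : x ∈ M) (hx1 : x ≠ 1) (hgx : g * x * g⁻¹ ∈ M) : g⁻¹ ∈ normalizer (M : Set G) :=
  inv_mem (h.mem_N hx hx1 hgx)

theorem comm_odd [Finite G] {x g : G} (hx : x ∈ M) (hx1 : x ≠ 1) (hc : g * x = x * g) (hg : g * g = 1) : g = 1 := by
  by_contra hg1
  have h1 := inv_of_sq hg hg1
  have h2 : g ∈ centralizer ({x} : Set G) := mem_centralizer_singleton_iff.mpr hc
  have h3 : orderOf (⟨g, h2⟩ : centralizer ({x} : Set G)) ∣ Nat.card (centralizer ({x} : Set G)) := orderOf_dvd_natCard _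
  rw [Subgroup.orderOf_mk, h1] at h3
  have h4 := h.odd x hx hx1
  rw [← Nat.not_even_iff_odd] at h4
  exact h4 (even_iff_two_dvd.mpr h3)

theorem exists_ne : ∃ x ∈ M, x ≠ 1 := by
  by_contra hcon
  push Not at hcon
  apply h.ne_bot
  rw [eq_bot_iff]
  intro x hx
  rw [mem_bot]
  exact hcon x hx

theorem sq_ne [Finite G] {x : G} (hx : x ∈ M) (h2 : x * x = 1) : x = 1 := by
  by_contra hx1
  exact hx1 (h.comm_odd hx hx1 rfl h2)

theorem fix_z [Finite G] {x v : G} (hv : orderOf v = 2) (hx : x ∈ M) (hc : v * x = x * v) : x = 1 := by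
  by_contra hx1
  exact inv_ne hv (h.comm_odd hx hx1 hc (inv_sq hv))

theorem not_mem [Finite G] {v : G} (hv : orderOf v = 2) : v ∉ M := by
  intro hvM
  exact inv_ne hv (h.sq_ne hvM (inv_sq hv))

/-- involutions in `N` invert `M` -/
theorem inverts [Finite G] {v : G} (hv : orderOf v = 2) (hvN : v ∈ normalizer (M : Set G)) {y : G} (hy : y ∈ M) :
    v * y * v⁻¹ = y⁻¹ := by
  let f : M → M := fun x => ⟨(x : G)⁻¹ * (v * x * v⁻¹), M.mul_mem (M.inv_mem x.2) (h.conj_mem hvN x.2)⟩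
  have hinj : Function.Injective f := by
    intro a b hab
    have h1 : (a : G)⁻¹ * (v * a * v⁻¹) = (b : G)⁻¹ * (v * b * v⁻¹) := congrArg Subtype.val hab
    have h2 : v * (b * (a : G)⁻¹) = (b * (a : G)⁻¹) * v := by
      have h3 : (b : G) * (a : G)⁻¹ * (v * a * v⁻¹) = v * b * v⁻¹ := by
        rw [mul_assoc, h1, mul_inv_cancel_left]
      have h4 : (b : G) * (a : G)⁻¹ * v = v * b * v⁻¹ * (v * (a : G)⁻¹) := by
        rw [← h3]; group
      rw [h4]; group
    have h3 := h.fix_z hv (M.mul_mem b.2 (M.inv_mem a.2)) h2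
    rw [mul_inv_eq_one] at h3
    exact Subtype.ext h3.symm
  have hsurj := Finite.surjective_of_injective hinj
  obtain ⟨x, hx⟩ := hsurj ⟨y, hy⟩
  have h1 : (x : G)⁻¹ * (v * x * v⁻¹) = y := congrArg Subtype.val hx
  rw [← h1]
  have h2 : v * ((x : G)⁻¹ * (v * x * v⁻¹)) * v⁻¹ = v * (x : G)⁻¹ * v * x * (v * v)⁻¹ := by group
  rw [h2, inv_sq hv]
  have h3 : ((x : G)⁻¹ * (v * x * v⁻¹))⁻¹ = v * (x : G)⁻¹ * v⁻¹ * x := by group
  rw [h3, inv_inv' hv, inv_one, mul_one]

theorem comm [Finite G] {x y : G} (hx : x ∈ M) (hy : y ∈ M) : x * y = y * x := by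
  have h1 := h.inverts h.hz h.hzN hx
  have h2 := h.inverts h.hz h.hzN hy
  have h3 := h.inverts h.hz h.hzN (M.mul_mem hx hy)
  have h4 : z * (x * y) * z⁻¹ = (z * x * z⁻¹) * (z * y * z⁻¹) := by group
  rw [h4, h1, h2, mul_inv_rev] at h3
  have h5 := congrArg (·⁻¹) h3
  simp only [mul_inv_rev, inv_inv] at h5
  exact h5.symm

theorem exists_md {n : G} (hn : n ∈ normalizer (M : Set G)) :
    ∃ m ∈ M, ∃ d ∈ normalizer (M : Set G), d * z = z * d ∧ n = m * d := by
  rw [← h.fac] at hn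
  have h1 : (normalizer (M : Set G) ⊓ centralizer ({z} : Set G)) ≤ normalizer (M : Set G) := inf_le_left
  rw [← SetLike.mem_coe, Subgroup.coe_mul_of_right_le_normalizer_left _ _ h1] at hn
  obtain ⟨m, hm, d, hd, rfl⟩ := hn
  exact ⟨m, hm, d, hd.1, mem_centralizer_singleton_iff.mp hd.2, rfl⟩

theorem mul_z_mem [Finite G] {w : G} (hw : orderOf w = 2) (hwN : w ∈ normalizer (M : Set G)) : w * z ∈ M := by
  obtain ⟨m, hm, d, hd, hdz, e⟩ := h.exists_md hwN
  have hzz := inv_sq h.hz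
  have hdd : d * d = 1 := by
    have h1 : m * d * (m * d) = 1 := by rw [← e]; exact inv_sq hw
    have h2 : d * d = (d * m * d⁻¹)⁻¹ * m⁻¹ := by
      have h3 : m * (d * m * d⁻¹) * (d * d) = 1 := by
        rw [← h1]; group
      have h4 : d * d = (m * (d * m * d⁻¹))⁻¹ := eq_inv_of_mul_eq_one_right h3
      rw [h4, mul_inv_rev]
    have h3 : d * d ∈ M := by
      rw [h2]; exact M.mul_mem (M.inv_mem (h.conj_mem hd hm)) (M.inv_mem hm)
    apply h.fix_z h.hz h3
    rw [← mul_assoc, ← hdz, mul_assoc, ← hdz, mul_assoc]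
  obtain ⟨x, hx, hx1⟩ := h.exists_ne
  have h1 : d * z = 1 := by
    apply h.comm_odd hx hx1
    · have e1 := h.inverts h.hz h.hzN hx
      have e2 := h.inverts hw hwN (M.inv_mem hx)
      have e3 : d = m⁻¹ * w := by rw [e]; group
      have e4 : z * x = x⁻¹ * z := by rw [← e1]; group
      have e5 : w * x⁻¹ = x * w := by
        rw [inv_inv] at e2
        exact mul_inv_eq_iff_eq_mul.mp e2
      have e6 := h.comm (M.inv_mem hm) hx
      rw [mul_assoc, e4, e3]
      calc m⁻¹ * w * (x⁻¹ * z) = m⁻¹ * (w * x⁻¹) * z := by group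
        _ = m⁻¹ * x * w * z := by rw [e5]; group
        _ = x * (m⁻¹ * w * z) := by rw [e6]; group
    · calc d * z * (d * z) = d * (z * d) * z := by group
        _ = d * d * (z * z) := by rw [← hdz]; group
        _ = 1 := by rw [hdd, hzz, one_mul]
  rw [e, mul_assoc, h1, mul_one]
  exact hm

theorem mul_mem_M [Finite G] {v w : G} (hv : orderOf v = 2) (hvN : v ∈ normalizer (M : Set G)) (hw : orderOf w = 2)
    (hwN : w ∈ normalizer (M : Set G)) : v * w ∈ M := by
  have h1 := h.mul_z_mem hv hvN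
  have h2 := M.inv_mem (h.mul_z_mem hw hwN)
  have h3 := M.mul_mem h1 h2
  have h4 : v * z * (w * z)⁻¹ = v * w := by
    rw [mul_inv_rev, inv_inv' hw]; group
  rwa [h4] at h3

theorem mul_inv_of [Finite G] {v m : G} (hv : orderOf v = 2) (hvN : v ∈ normalizer (M : Set G)) (hm : m ∈ M) :
    orderOf (v * m) = 2 := by
  apply inv_of_sq
  · have h1 := h.inverts hv hvN hm
    calc v * m * (v * m) = (v * m * v⁻¹) * (v * v) * m := by group
      _ = 1 := by rw [h1, inv_sq hv, mul_one, inv_mul_cancel]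
  · intro h1
    apply h.not_mem hv
    rw [eq_inv_of_mul_eq_one_left h1]
    exact M.inv_mem hm

theorem M_le : M ≤ normalizer (M : Set G) := le_normalizer

theorem uniq [Finite G] {u v : G} (hu : orderOf u = 2) (hv : orderOf v = 2) (huN : u ∉ normalizer (M : Set G))
    (huv : u * v ∈ M) : u = v := by
  by_contra hne
  apply huN
  apply h.mem_N huv
  · intro h1
    apply hne
    rw [← inv_inv' hu]
    exact (eq_inv_of_mul_eq_one_right h1).symm
  · have h1 : u * (u * v) * u⁻¹ = (u * v)⁻¹ := by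
      rw [mul_inv_rev, inv_inv' hu, inv_inv' hv, ← mul_assoc, inv_sq hu, one_mul]
    rw [h1]
    exact M.inv_mem huv

/-- every coset `gM` outside `N` contains an involution -/
theorem exists_inv [Finite G] {g : G} (hg : g ∉ normalizer (M : Set G)) : ∃ m ∈ M, orderOf (g * m) = 2 := by
  classical
  by_contra hcon
  push Not at hcon
  have hlarge := h.large
  rw [← not_le] at hlarge
  apply hlarge
  let F : {g : G // orderOf g = 2} → G ⧸ M := fun v =>
    if (v : G) ∈ normalizer (M : Set G) then (((v : G) * z * g : G) : G ⧸ M) else ((v : G) : G ⧸ M)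
  have hF : Function.Injective F := by
    rintro ⟨v, hv⟩ ⟨w, hw⟩ hvw
    apply Subtype.ext
    change v = w
    have key : ∀ v w : G, orderOf v = 2 → orderOf w = 2 → v ∈ normalizer (M : Set G) → w ∉ normalizer (M : Set G) →
        ((v * z * g : G) : G ⧸ M) ≠ (w : G ⧸ M) := by
      intro v w hv hw hvN hwN he
      rw [QuotientGroup.eq] at he
      have h1 := h.mul_z_mem hv hvN
      set m := v * z with hm
      -- (m g)⁻¹ w = m' so w = m g m'
      set m' := (m * g)⁻¹ * w with hm'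
      have e1 : w = m * g * m' := by rw [hm']; group
      apply hcon (m' * m) (M.mul_mem he h1)
      have e2 : g * (m' * m) = m⁻¹ * w * m⁻¹⁻¹ := by rw [e1]; group
      have e3 := (orderOf_injective (MulAut.conj m⁻¹).toMonoidHom (MulAut.conj m⁻¹).injective w)
      rw [e2, ← hw, ← e3]
      rfl
    by_cases h1 : v ∈ normalizer (M : Set G)
    · by_cases h2 : w ∈ normalizer (M : Set G)
      · have h3 : ((v * z * g : G) : G ⧸ M) = ((w * z * g : G) : G ⧸ M) := by
          have := hvw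
          simp only [F, if_pos h1, if_pos h2] at this
          exact this
        rw [QuotientGroup.eq] at h3
        have hx := h.mul_mem_M hv h1 hw h2
        have e1 : (v * z * g)⁻¹ * (w * z * g) = g⁻¹ * (v * w)⁻¹ * g⁻¹⁻¹ := by
          have h5 := h.inverts h.hz h.hzN hx
          rw [inv_inv' h.hz] at h5
          rw [← h5, mul_inv_rev, mul_inv_rev, inv_inv' h.hz, inv_inv' hv]
          group
        rw [e1] at h3
        by_contra hne
        apply hg
        have h6 := h.mem_N (M.inv_mem hx) (by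
          rw [Ne, inv_eq_one]
          intro h7
          apply hne
          rw [← inv_inv' hv]
          exact (eq_inv_of_mul_eq_one_right h7).symm) h3
        rw [← inv_inv g]
        exact inv_mem h6
      · exfalso
        have h3 := hvw
        simp only [F, if_pos h1, if_neg h2] at h3
        exact key v w hv hw h1 h2 h3
    · by_cases h2 : w ∈ normalizer (M : Set G)
      · exfalso
        have h3 := hvw
        simp only [F, if_neg h1, if_pos h2] at h3
        exact key w v hw hv h2 h1 h3.symm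
      · have h3 := hvw
        simp only [F, if_neg h1, if_neg h2] at h3
        rw [QuotientGroup.eq, inv_inv' hv] at h3
        exact h.uniq hv hw h1 h3
  have := Nat.card_le_card_of_injective F hF
  exact this

theorem mul_not_mem {g n : G} (hg : g ∉ normalizer (M : Set G)) (hn : n ∈ normalizer (M : Set G)) :
    g * n ∉ normalizer (M : Set G) := by
  intro h1
  apply hg
  have := (normalizer (M : Set G)).mul_mem h1 (inv_mem hn)
  rwa [mul_inv_cancel_right] at this

theorem exists_inv_H [Finite G] {u n : G} (hu : orderOf u = 2) (huN : u ∉ normalizer (M : Set G))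
    (hn : n ∈ normalizer (M : Set G)) : ∃ m ∈ M, u * (n * m) * u⁻¹ = (n * m)⁻¹ := by
  obtain ⟨m, hm, hm2⟩ := h.exists_inv (h.mul_not_mem huN hn)
  refine ⟨m, hm, ?_⟩
  have h1 := inv_sq hm2
  rw [inv_inv' hu]
  apply eq_inv_of_mul_eq_one_left
  rw [← h1]; group

theorem exists_comm [Finite G] {u : G} (hu : orderOf u = 2) (huN : u ∉ normalizer (M : Set G)) :
    ∃ v ∈ normalizer (M : Set G), orderOf v = 2 ∧ u * v = v * u := by
  obtain ⟨m, hm, h1⟩ := h.exists_inv_H hu huN h.hzN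
  have h2 := h.mul_inv_of h.hz h.hzN hm
  refine ⟨z * m, mul_mem h.hzN (h.M_le hm), h2, ?_⟩
  rw [inv_inv' h2] at h1
  exact mul_inv_eq_iff_eq_mul.mp h1

theorem M_inf [Finite G] {u x : G} (hu : orderOf u = 2) (huN : u ∉ normalizer (M : Set G)) (hx : x ∈ M)
    (hux : u * x * u⁻¹ ∈ normalizer (M : Set G)) : x = 1 := by
  obtain ⟨v, hv, hv2, huv⟩ := h.exists_comm hu huN
  have h1 : orderOf (v * x) = 2 := h.mul_inv_of hv2 hv hx
  have h2 : u * (v * x) * u⁻¹ = v * (u * x * u⁻¹) := by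
    rw [← mul_assoc, huv]; group
  have h3 : orderOf (v * (u * x * u⁻¹)) = 2 := by
    rw [← h2, ← h1]
    exact orderOf_injective (MulAut.conj u).toMonoidHom (MulAut.conj u).injective (v * x)
  have h4 := h.mul_mem_M hv2 hv h3 (mul_mem hv hux)
  rw [← mul_assoc, inv_sq hv2, one_mul] at h4
  by_contra hx1
  exact huN (h.mem_N hx hx1 h4)

theorem inv_H [Finite G] {u k : G} (hu : orderOf u = 2) (huN : u ∉ normalizer (M : Set G))
    (hk : k ∈ normalizer (M : Set G)) (huk : u * k * u⁻¹ ∈ normalizer (M : Set G)) : u * k * u⁻¹ = k⁻¹ := by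
  obtain ⟨m, hm, h1⟩ := h.exists_inv_H hu huN hk
  have h2 : u * m * u⁻¹ ∈ normalizer (M : Set G) := by
    have h3 : u * m * u⁻¹ = (u * k * u⁻¹)⁻¹ * (u * (k * m) * u⁻¹) := by group
    rw [h3, h1]
    exact mul_mem (inv_mem huk) (inv_mem (mul_mem hk (h.M_le hm)))
  have h3 := h.M_inf hu huN hm h2
  rwa [h3, mul_one] at h1

theorem M_inf' [Finite G] {g x : G} (hg : g ∉ normalizer (M : Set G)) (hx : x ∈ M)
    (hgx : g * x * g⁻¹ ∈ normalizer (M : Set G)) : x = 1 := by
  obtain ⟨m, hm, hm2⟩ := h.exists_inv hg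
  have h1 : (g * m) * (m⁻¹ * x * m) * (g * m)⁻¹ ∈ normalizer (M : Set G) := by
    have : (g * m) * (m⁻¹ * x * m) * (g * m)⁻¹ = g * x * g⁻¹ := by group
    rwa [this]
  have h2 := h.M_inf hm2 (h.mul_not_mem hg (h.M_le hm)) (M.mul_mem (M.mul_mem (M.inv_mem hm) hx) hm) h1
  rw [mul_assoc, inv_mul_eq_one] at h2
  exact (mul_eq_right.mp h2.symm)

/-! ### points -/

theorem smul_base (g : G) : g • (((1 : G) : G ⧸ normalizer (M : Set G))) = (g : G ⧸ normalizer (M : Set G)) := by
  change ((g * 1 : G) : G ⧸ normalizer (M : Set G)) = _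
  rw [mul_one]

theorem fix_base (g : G) : g • (((1 : G) : G ⧸ normalizer (M : Set G))) = ((1 : G) : G ⧸ normalizer (M : Set G)) ↔
    g ∈ normalizer (M : Set G) := by
  rw [h.smul_base, eq_comm, QuotientGroup.eq, inv_one, one_mul]

theorem exists_point (β : G ⧸ normalizer (M : Set G)) : ∃ g : G, g • (((1 : G) : G ⧸ normalizer (M : Set G))) = β := by
  induction β using QuotientGroup.induction_on with
  | H g => exact ⟨g, h.smul_base g⟩

theorem exists_swap0 [Finite G] {β : G ⧸ normalizer (M : Set G)} (hβ : β ≠ ((1 : G) : G ⧸ normalizer (M : Set G))) :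
    ∃ u : G, orderOf u = 2 ∧ u ∉ normalizer (M : Set G) ∧ u • (((1 : G) : G ⧸ normalizer (M : Set G))) = β := by
  obtain ⟨g, rfl⟩ := h.exists_point β
  have hg : g ∉ normalizer (M : Set G) := by
    intro hg
    exact hβ ((h.fix_base g).mpr hg)
  obtain ⟨m, hm, hm2⟩ := h.exists_inv hg
  refine ⟨g * m, hm2, h.mul_not_mem hg (h.M_le hm), ?_⟩
  rw [mul_smul, (h.fix_base m).mpr (h.M_le hm)]

theorem exists_fix0 [Finite G] {β : G ⧸ normalizer (M : Set G)} (hβ : β ≠ ((1 : G) : G ⧸ normalizer (M : Set G))) :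
    ∃ v ∈ normalizer (M : Set G), orderOf v = 2 ∧ v • β = β := by
  obtain ⟨u, hu, huN, rfl⟩ := h.exists_swap0 hβ
  obtain ⟨v, hv, hv2, huv⟩ := h.exists_comm hu huN
  refine ⟨v, hv, hv2, ?_⟩
  rw [← mul_smul, ← huv, mul_smul, (h.fix_base v).mpr hv]

theorem M_free [Finite G] {β : G ⧸ normalizer (M : Set G)} (hβ : β ≠ ((1 : G) : G ⧸ normalizer (M : Set G))) {x : G}
    (hx : x ∈ M) (hxβ : x • β = β) : x = 1 := by
  obtain ⟨u, hu, huN, rfl⟩ := h.exists_swap0 hβ
  apply h.M_inf hu huN hx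
  rw [← h.fix_base, mul_smul, mul_smul, inv_inv' hu, hxβ, ← mul_smul, inv_sq hu, one_smul]

theorem uniq0 [Finite G] {β : G ⧸ normalizer (M : Set G)} (hβ : β ≠ ((1 : G) : G ⧸ normalizer (M : Set G))) {v w : G}
    (hv : orderOf v = 2) (hvN : v ∈ normalizer (M : Set G)) (hw : orderOf w = 2) (hwN : w ∈ normalizer (M : Set G))
    (hvβ : v • β = β) (hwβ : w • β = β) : v = w := by
  have h1 := h.M_free hβ (h.mul_mem_M hv hvN hw hwN) (by rw [mul_smul, hwβ, hvβ])
  rw [← inv_inv' hv]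
  exact (eq_inv_of_mul_eq_one_right h1).symm

theorem conj_inv {v : G} (g : G) (hv : orderOf v = 2) : orderOf (g * v * g⁻¹) = 2 := by
  rw [← hv]
  exact orderOf_injective (MulAut.conj g).toMonoidHom (MulAut.conj g).injective v

/-- any two points are fixed by an involution -/
theorem exists_fix [Finite G] {α β : G ⧸ normalizer (M : Set G)} (hαβ : α ≠ β) :
    ∃ v : G, orderOf v = 2 ∧ v • α = α ∧ v • β = β := by
  obtain ⟨g, rfl⟩ := h.exists_point α
  have h1 : g⁻¹ • β ≠ ((1 : G) : G ⧸ normalizer (M : Set G)) := by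
    intro h2
    apply hαβ
    rw [← h2, smul_inv_smul]
  obtain ⟨v, hv, hv2, h2⟩ := h.exists_fix0 h1
  refine ⟨g * v * g⁻¹, h.conj_inv g hv2, ?_, ?_⟩
  · rw [mul_smul, inv_smul_smul, mul_smul, (h.fix_base v).mpr hv]
  · rw [mul_smul, mul_smul, h2, smul_inv_smul]

theorem uniq_fix [Finite G] {α β : G ⧸ normalizer (M : Set G)} (hαβ : α ≠ β) {v w : G} (hv : orderOf v = 2)
    (hw : orderOf w = 2) (hvα : v • α = α) (hvβ : v • β = β) (hwα : w • α = α) (hwβ : w • β = β) : v = w := by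
  obtain ⟨g, rfl⟩ := h.exists_point α
  have h1 : g⁻¹ • β ≠ ((1 : G) : G ⧸ normalizer (M : Set G)) := by
    intro h2
    apply hαβ
    rw [← h2, smul_inv_smul]
  have key : ∀ v : G, v • g • (((1 : G) : G ⧸ normalizer (M : Set G))) = g • (((1 : G) : G ⧸ normalizer (M : Set G))) →
      g⁻¹ * v * g⁻¹⁻¹ ∈ normalizer (M : Set G) := by
    intro v hv
    rw [← h.fix_base, mul_smul, mul_smul, inv_inv, hv, inv_smul_smul]
  have key2 : ∀ v : G, v • β = β → (g⁻¹ * v * g⁻¹⁻¹) • g⁻¹ • β = g⁻¹ • β := by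
    intro v hv
    rw [mul_smul, mul_smul, inv_inv, smul_inv_smul, hv]
  have h2 := h.uniq0 h1 (h.conj_inv g⁻¹ hv) (key v hvα) (h.conj_inv g⁻¹ hw) (key w hwα) (key2 v hvβ) (key2 w hwβ)
  exact mul_left_cancel (mul_right_cancel h2)

/-- two commuting involutions with a common fixed point are equal -/
theorem eq_of_comm [Finite G] {α : G ⧸ normalizer (M : Set G)} {v w : G} (hv : orderOf v = 2)
    (hw : orderOf w = 2) (hvα : v • α = α) (hwα : w • α = α) (hvw : v * w = w * v) : v = w := by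
  obtain ⟨g, rfl⟩ := h.exists_point α
  have key : ∀ v : G, v • g • (((1 : G) : G ⧸ normalizer (M : Set G))) = g • (((1 : G) : G ⧸ normalizer (M : Set G))) →
      g⁻¹ * v * g⁻¹⁻¹ ∈ normalizer (M : Set G) := by
    intro v hv
    rw [← h.fix_base, mul_smul, mul_smul, inv_inv, hv, inv_smul_smul]
  have h1 := h.mul_mem_M (h.conj_inv g⁻¹ hv) (key v hvα) (h.conj_inv g⁻¹ hw) (key w hwα)
  have h2 : g⁻¹ * v * g⁻¹⁻¹ * (g⁻¹ * w * g⁻¹⁻¹) = g⁻¹ * (v * w) * g⁻¹⁻¹ := by group
  rw [h2] at h1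
  have h3 := h.sq_ne h1 (by
    have : g⁻¹ * (v * w) * g⁻¹⁻¹ * (g⁻¹ * (v * w) * g⁻¹⁻¹) = g⁻¹ * (v * (w * v) * w) * g⁻¹⁻¹ := by group
    rw [this, ← hvw]
    have : v * (v * w) * w = (v * v) * (w * w) := by group
    rw [this, inv_sq hv, inv_sq hw]
    group)
  have h4 : v * w = 1 := by
    have := congrArg (fun t => g * t * g⁻¹) h3
    have e1 : g * (g⁻¹ * (v * w) * g⁻¹⁻¹) * g⁻¹ = v * w := by group
    rw [e1] at this
    rw [this]; group
  rw [← inv_inv' hv]
  exact (eq_inv_of_mul_eq_one_right h4).symm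

end Hyp

end H66.Large
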