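import Cfsg.Agent.Lib.H66.PGLRecog
import Cfsg.Agent.Lib.H16.FieldLemma
import Cfsg.Agent.Lib.H16.ZassKer

/-!
Sharply triply transitive groups with an abelian two-point stabiliser inverted by a swapping element are `PGL₂(K)`.
-/

set_option autoImplicit false

open H66.PGLRecog

namespace H66.PGLMain

theorem main {G Ω : Type*} [Group G] [Finite G] [MulAction G Ω] [Finite Ω] [FaithfulSMul G Ω] {a b : Ω} (hab : a ≠ b)
    (F H : Subgroup G) (hFa : ∀ u ∈ F, u • a = a) (hFfree : ∀ u ∈ F, u • b = b → u = 1)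
    (hFtr : ∀ y, y ≠ a → ∃ u ∈ F, u • b = y)
    (hH : ∀ g : G, g ∈ H ↔ g • a = a ∧ g • b = b) (hHc : ∀ h ∈ H, ∀ k ∈ H, h * k = k * h)
    (hFc : ∀ h ∈ F, ∀ k ∈ F, h * k = k * h)
    (hHF : ∀ h ∈ H, ∀ u ∈ F, h * u * h⁻¹ ∈ F) (hfree : ∀ h ∈ H, ∀ u ∈ F, u ≠ 1 → h * u = u * h → h = 1)
    (hF1 : F ≠ ⊥) (hcard : Nat.card F - 1 = Nat.card H) (s0 : G) (hs01 : s0 • a = b) (hs02 : s0 • b = a)
    (hsinv0 : ∀ h ∈ H, s0 * h = h⁻¹ * s0) :
    ∃ (K : Type) (_ : Field K) (_ : Fintype K) (p : ℕ) (_ : Fact p.Prime) (_ : CharP K p),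
      Fintype.card K = Nat.card F ∧ (∀ u ∈ F, u ^ p = 1) ∧
      Nonempty (G ≃* (GL (Fin 2) K ⧸ Subgroup.center (GL (Fin 2) K))) := by
  classical
  have hHa : ∀ h ∈ H, h • a = a := fun h hh => ((hH h).mp hh).1
  have hHb : ∀ h ∈ H, h • b = b := fun h hh => ((hH h).mp hh).2
  have hcard' : Nat.card F - 1 ≤ 2 * Nat.card H := by omega
  have hirr := H16.ZassKer.no_invariant F H hHF hfree hF1 hcard'
  obtain ⟨p, f, K, iK, iKf, φ, χ, hp, hf, hKcard, hφadd, hφinj, hφF, hφH⟩ :=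
    H16.FieldLemma.exists_field F H hFc hHc hHF hF1 hirr
  have hφmem : ∀ x, φ x ∈ F := fun x => (hφF _).mpr ⟨x, rfl⟩
  have hKF : Fintype.card K = Nat.card F := by
    rw [← Nat.card_eq_fintype_card]
    refine Nat.card_congr (Equiv.ofBijective (fun x => (⟨φ x, hφmem x⟩ : F)) ⟨?_, ?_⟩)
    · intro x y h
      exact hφinj (congrArg Subtype.val h)
    · rintro ⟨u, hu⟩
      obtain ⟨x, hx⟩ := (hφF u).mp hu
      exact ⟨x, Subtype.ext hx⟩
  have hφ0 : φ 0 = 1 := by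
    have := hφadd 0 0
    rw [add_zero] at this
    exact (mul_eq_left.mp this.symm)
  have hφneg : ∀ x, φ (-x) = (φ x)⁻¹ := by
    intro x
    have := hφadd (-x) x
    rw [neg_add_cancel, hφ0] at this
    exact eq_inv_of_mul_eq_one_left this.symm
  -- coordinates
  obtain ⟨θ, hθ⟩ : ∃ θ : K → Ω, ∀ x, θ x = φ x • b := ⟨_, fun _ => rfl⟩
  have hθ0 : θ 0 = b := by rw [hθ, hφ0, one_smul]
  have hθa : ∀ x, θ x ≠ a := fun x h => by
    rw [hθ] at h
    rw [← hFa _ (hφmem x)] at h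
    exact hab (smul_left_cancel _ h).symm
  have hφθ : ∀ x y, φ x • θ y = θ (x + y) := by
    intro x y
    rw [hθ, hθ, hφadd, mul_smul]
  have hHθ : ∀ h ∈ H, ∀ x, h • θ x = θ (χ h * x) := by
    intro h hh x
    rw [hθ, hθ, ← hφH h hh, mul_smul, mul_smul, hHb _ (H.inv_mem hh)]
  have hθinj : Function.Injective θ := by
    intro x y hxy
    have h1 : φ (-y) • θ x = φ (-y) • θ y := by rw [hxy]
    rw [hφθ, hφθ, neg_add_cancel, hθ0, hθ] at h1
    have h2 := hFfree _ (hφmem _) h1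
    rw [← hφ0] at h2
    have h3 := hφinj h2
    rw [neg_add_eq_zero] at h3
    exact h3.symm
  have hθsurj : ∀ y, y ≠ a → ∃ x, θ x = y := by
    intro y hy
    obtain ⟨u, hu, rfl⟩ := hFtr y hy
    obtain ⟨x, rfl⟩ := (hφF u).mp hu
    exact ⟨x, hθ x⟩
  obtain ⟨ι, hιinf, hιK⟩ : ∃ ι : Option K → Ω, ι none = a ∧ ∀ x : K, ι (some x) = θ x :=
    ⟨fun p => p.elim a θ, rfl, fun _ => rfl⟩
  have hιbij : Function.Bijective ι := by
    constructor
    · intro p q hpq
      cases p with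
      | none =>
        cases q with
        | none => rfl
        | some y => rw [hιinf, hιK] at hpq; exact absurd hpq.symm (hθa y)
      | some x =>
        cases q with
        | none => rw [hιinf, hιK] at hpq; exact absurd hpq (hθa x)
        | some y => rw [hιK, hιK] at hpq; rw [hθinj hpq]
    · intro y
      by_cases hy : y = a
      · exact ⟨none, by rw [hιinf, hy]⟩
      · obtain ⟨x, hx⟩ := hθsurj y hy
        exact ⟨some x, by rw [hιK, hx]⟩
  -- the character χ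
  have hχinj' : ∀ h ∈ H, ∀ k ∈ H, ∀ x, φ (χ (h * k) * x) = φ (χ h * (χ k * x)) := by
    intro h hh k hk x
    rw [← hφH _ (H.mul_mem hh hk), ← hφH h hh, ← hφH k hk]
    group
  have hχmul : ∀ h ∈ H, ∀ k ∈ H, χ (h * k) = χ h * χ k := by
    intro h hh k hk
    have := hφinj (hχinj' h hh k hk 1)
    simpa using this
  have hχ1 : χ 1 = 1 := by
    have h1 := hφH 1 H.one_mem 1
    have h2 : (1 : G) * φ 1 * 1⁻¹ = φ 1 := by group
    rw [h2] at h1
    have := hφinj h1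
    simpa using this.symm
  have hχ0 : ∀ h ∈ H, χ h ≠ 0 := by
    intro h hh h0
    have := hχmul h hh h⁻¹ (H.inv_mem hh)
    rw [mul_inv_cancel, hχ1, h0, zero_mul] at this
    exact one_ne_zero this
  have hχinv : ∀ h ∈ H, χ h⁻¹ = (χ h)⁻¹ := by
    intro h hh
    have := hχmul h⁻¹ (H.inv_mem hh) h hh
    rw [inv_mul_cancel, hχ1] at this
    exact eq_inv_of_mul_eq_one_left this.symm
  let χ' : H →* Kˣ :=
    { toFun := fun h => Units.mk0 (χ h) (hχ0 h h.2)
      map_one' := by ext; simp [hχ1]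
      map_mul' := fun h k => by ext; simp [hχmul h h.2 k k.2] }
  have hχ'inj : Function.Injective χ' := by
    rw [injective_iff_map_eq_one]
    intro h hh
    have h1 : χ h = 1 := congrArg Units.val hh
    have h2 := hφH h h.2 1
    rw [h1, one_mul, mul_inv_eq_iff_eq_mul] at h2
    apply Subtype.ext
    apply hfree h h.2 (φ 1) (hφmem 1) _ h2
    intro h3
    rw [← hφ0] at h3
    exact one_ne_zero (hφinj h3)
  have hχsurj : ∀ c : Kˣ, ∃ h ∈ H, χ h = c := by
    have hbij : Function.Bijective χ' := by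
      rw [Nat.bijective_iff_injective_and_card]
      refine ⟨hχ'inj, ?_⟩
      rw [Nat.card_eq_fintype_card (α := Kˣ), Fintype.card_units, hKF, hcard]
    intro c
    obtain ⟨h, hh⟩ := hbij.2 c
    exact ⟨h, h.2, congrArg Units.val hh⟩
  -- swapping elements
  have hsw : ∀ s : G, s • a = b → s • b = a → (∀ h ∈ H, s * h = h⁻¹ * s) → ∃ F1 : K → K,
      (∀ x, x ≠ 0 → s • θ x = θ (F1 x) ∧ F1 x ≠ 0) ∧
      (∀ h ∈ H, ∀ x, x ≠ 0 → F1 (χ h * x) = (χ h)⁻¹ * F1 x) := by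
    intro s hs1 hs2 hsinv
    have hex : ∀ x : K, ∃ y, x ≠ 0 → s • θ x = θ y ∧ y ≠ 0 := by
      intro x
      by_cases hx : x = 0
      · exact ⟨0, fun h => absurd hx h⟩
      have h1 : s • θ x ≠ a := by
        intro h
        rw [← hs2] at h
        have h2 := smul_left_cancel s h
        rw [← hθ0] at h2
        exact hx (hθinj h2)
      obtain ⟨y, hy⟩ := hθsurj _ h1
      refine ⟨y, fun _ => ⟨hy.symm, ?_⟩⟩
      rintro rfl
      rw [hθ0, ← hs1] at hy
      exact hθa x (smul_left_cancel s hy).symm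
    choose F1 hF1 using hex
    refine ⟨F1, hF1, ?_⟩
    intro h hh x hx
    apply hθinj
    rw [← (hF1 _ (mul_ne_zero (hχ0 h hh) hx)).1, ← hHθ h hh, ← mul_smul, hsinv h hh, mul_smul,
      (hF1 x hx).1, hHθ _ (H.inv_mem hh), hχinv h hh]
  obtain ⟨s, hs1, hs2, F1, hF1, hF1H, hF11⟩ : ∃ s : G, ∃ (_ : s • a = b) (_ : s • b = a), ∃ F1 : K → K,
      (∀ x, x ≠ 0 → s • θ x = θ (F1 x) ∧ F1 x ≠ 0) ∧
      (∀ h ∈ H, ∀ x, x ≠ 0 → F1 (χ h * x) = (χ h)⁻¹ * F1 x) ∧ F1 1 = -1 := by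
    obtain ⟨F0, hF0, hF0H⟩ := hsw s0 hs01 hs02 hsinv0
    have hF01 : F0 1 ≠ 0 := (hF0 1 one_ne_zero).2
    obtain ⟨h, hh, e1⟩ := hχsurj (Units.mk0 (- F0 1) (neg_ne_zero.mpr hF01))
    have e1' : χ h = - F0 1 := e1
    have hs1 : (s0 * h) • a = b := by rw [mul_smul, hHa _ hh, hs01]
    have hs2 : (s0 * h) • b = a := by rw [mul_smul, hHb _ hh, hs02]
    obtain ⟨F1, hF1, hF1H⟩ := hsw _ hs1 hs2 (by
      intro k hk
      rw [mul_assoc, hHc h hh k hk, ← mul_assoc, hsinv0 k hk, mul_assoc])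
    refine ⟨s0 * h, hs1, hs2, F1, hF1, hF1H, ?_⟩
    apply hθinj
    rw [← (hF1 1 one_ne_zero).1, mul_smul, hHθ _ hh, (hF0 _ (mul_ne_zero (hχ0 _ hh) one_ne_zero)).1,
      hF0H _ hh 1 one_ne_zero, e1']
    congr 1
    field_simp
  have hF1all : ∀ x : K, x ≠ 0 → F1 x = -x⁻¹ := by
    intro x hx
    obtain ⟨h, hh, e1⟩ := hχsurj (Units.mk0 x hx)
    have e1' : χ h = x := e1
    have := hF1H h hh 1 one_ne_zero
    rw [mul_one, e1', hF11] at this
    rw [this, mul_neg, mul_one]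
  -- the permutation representation
  let e : Option K ≃ Ω := Equiv.ofBijective ι hιbij
  let ψ : G →* Equiv.Perm (Option K) := (e.permCongrHom.symm.toMonoidHom).comp (MulAction.toPermHom G Ω)
  have hψ : ∀ g p, ι (ψ g p) = g • ι p := by
    intro g p
    change e (e.symm (g • e p)) = g • e p
    rw [Equiv.apply_symm_apply]
  have hψ' : ∀ g (σ : Equiv.Perm (Option K)), (∀ p, g • ι p = ι (σ p)) → ψ g = σ := by
    intro g σ hg
    apply Equiv.ext
    intro p
    apply hιbij.1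
    rw [hψ, hg]
  have hinj : Function.Injective ψ := by
    rw [injective_iff_map_eq_one]
    intro g hg
    apply FaithfulSMul.eq_of_smul_eq_smul (α := Ω)
    intro y
    obtain ⟨p, rfl⟩ := hιbij.2 y
    rw [← hψ, hg, one_smul]
    rfl
  have hψtr : ∀ c : K, ψ (φ c) = tr c := by
    intro c
    apply hψ'
    intro p
    cases p with
    | none => rw [tr_none, hιinf, hFa _ (hφmem c)]
    | some x => rw [tr_some, hιK, hιK, hφθ]
  have hψmu : ∀ h ∈ H, ∀ c : Kˣ, χ h = c → ψ h = mu c := by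
    intro h hh c hc
    apply hψ'
    intro p
    cases p with
    | none => rw [mu_none, hιinf, hHa _ hh]
    | some x => rw [mu_some, hιK, hιK, hHθ h hh, hc]
  obtain ⟨n, hn1, hn2⟩ := FiniteField.card K (ringChar K)
  have hpr : ringChar K = p := by
    rw [hKcard] at hn2
    have h1 : ringChar K ∣ p ^ f := by
      rw [hn2]; exact dvd_pow_self _ n.ne_zero
    exact (Nat.prime_dvd_prime_iff_eq hn1 hp).mp (hn1.dvd_of_dvd_pow h1)
  have hchar : CharP K p := by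
    rw [← hpr]; exact inferInstance
  refine ⟨K, iK, iKf, p, ⟨hp⟩, hchar, hKF, ?_, ?_⟩
  · intro u hu
    obtain ⟨x, rfl⟩ := (hφF u).mp hu
    have h1 : ∀ n : ℕ, φ x ^ n = φ ((n : K) * x) := by
      intro n
      induction n with
      | zero => rw [pow_zero, Nat.cast_zero, zero_mul, hφ0]
      | succ n ih => rw [pow_succ, ih, ← hφadd, Nat.cast_succ, add_mul, one_mul]
    rw [h1, CharP.cast_eq_zero, zero_mul, hφ0]
  · apply H66.PGLRecog.iso (K := K) ψ hinj (fun c => ⟨φ c, hψtr c⟩) (w := ψ s)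
    · intro c
      obtain ⟨h, hh, hc⟩ := hχsurj c
      exact ⟨h, hψmu h hh c hc⟩
    · exact ⟨s, rfl⟩
    · apply hιbij.1
      rw [hψ, hιinf, hs1, hιK, hθ0]
    · apply hιbij.1
      rw [hψ, hιinf, hιK, hθ0, hs2]
    · intro x hx
      apply hιbij.1
      rw [hψ, hιK, hιK, (hF1 x hx).1, hF1all x hx]
    · rintro _ ⟨g, rfl⟩ hg0
      have hga : g • a = a := by
        rw [← hιinf, ← hψ, hg0]
      have hgb : g • b ≠ a := by
        intro h
        rw [← hga] at h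
        exact hab (smul_left_cancel g h).symm
      obtain ⟨c, hc⟩ := hθsurj _ hgb
      have hinvφ : (φ c)⁻¹ • θ c = b := by rw [hθ, inv_smul_smul]
      have hmem : (φ c)⁻¹ * g ∈ H := by
        rw [hH]
        refine ⟨?_, ?_⟩
        · rw [mul_smul, hga, hFa _ (F.inv_mem (hφmem c))]
        · rw [mul_smul, ← hc, hinvφ]
      refine ⟨c, Units.mk0 (χ ((φ c)⁻¹ * g)) (hχ0 _ hmem), ?_⟩
      rw [← hψtr, ← hψmu _ hmem (Units.mk0 (χ ((φ c)⁻¹ * g)) (hχ0 _ hmem)) rfl, ← map_mul, mul_inv_cancel_left]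

end H66.PGLMain
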