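import Cfsg.Agent.Lib.H66.LargeA
import Cfsg.Agent.Lib.H66.PGLMain
import Cfsg.Agent.Lib.H16.ZassPSL
import Cfsg.Agent.Lib.H1.FrobSyl

/-!
Bender's theorem on groups with large TI-subgroups, second part: `|Fix(z)| = 2`.
-/

set_option autoImplicit false
set_option linter.unusedSectionVars false

open Subgroup MulAction

namespace H66.Large

variable {G : Type*} [Group G] [Finite G] {M : Subgroup G} {z : G}

/-- base point -/
abbrev pt (M : Subgroup G) : G ⧸ normalizer (M : Set G) := ((1 : G) : G ⧸ normalizer (M : Set G))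

namespace Hyp

variable (h : Hyp M z)
include h

theorem fix_pt (g : G) : g • pt M = pt M ↔ g ∈ normalizer (M : Set G) := h.fix_base g

theorem exists_swap_z {α : G ⧸ normalizer (M : Set G)} (hα : α ≠ pt M) (hzα : z • α = α) :
    ∃ u : G, orderOf u = 2 ∧ u ∉ normalizer (M : Set G) ∧ u • pt M = α ∧ u * z = z * u := by
  obtain ⟨u, hu, huN, rfl⟩ := h.exists_swap0 hα
  obtain ⟨v, hv, hv2, huv⟩ := h.exists_comm hu huN
  have h1 : v • u • pt M = u • pt M := by
    rw [← mul_smul, ← huv, mul_smul, (h.fix_pt v).mpr hv]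
  have h2 := h.uniq0 hα h.hz h.hzN hv2 hv hzα h1
  exact ⟨u, hu, huN, rfl, by rw [h2]; exact huv⟩

theorem cent_inv {g : G} (hg : g * z = z * g) (hgN : g ∉ normalizer (M : Set G)) : orderOf g = 2 := by
  obtain ⟨m, hm, hm2⟩ := h.exists_inv hgN
  have h1 : (g * m) • pt M = g • pt M := by
    rw [mul_smul, (h.fix_pt m).mpr (h.M_le hm)]
  have hne : g • pt M ≠ pt M := fun h2 => hgN ((h.fix_pt g).mp h2)
  have hzg : z • g • pt M = g • pt M := by
    rw [← mul_smul, ← hg, mul_smul, (h.fix_pt z).mpr h.hzN]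
  have hmN : g * m ∉ normalizer (M : Set G) := h.mul_not_mem hgN (h.M_le hm)
  obtain ⟨w, hw, hw2, huw⟩ := h.exists_comm hm2 hmN
  have h2 : w • g • pt M = g • pt M := by
    rw [← h1, ← mul_smul, ← huw, mul_smul, (h.fix_pt w).mpr hw]
  have h3 := h.uniq0 hne h.hz h.hzN hw2 hw hzg h2
  rw [← h3] at huw
  have h4 : z * m = m * z := by
    have e : g * (m * z) = g * (z * m) := by
      rw [← mul_assoc, huw, ← mul_assoc, ← hg, mul_assoc]
    exact (mul_left_cancel e).symm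
  have h5 := h.fix_z h.hz hm h4
  rwa [h5, mul_one] at hm2

theorem exists_sqrt {x : G} (hx : x ∈ M) : ∃ y ∈ M, y * y = x := by
  let f : M → M := fun y => y * y
  have hf : Function.Injective f := by
    intro a b hab
    have h1 : (a : G) * a = b * b := congrArg Subtype.val hab
    have h2 : ((a : G) * (b : G)⁻¹) * (a * (b : G)⁻¹) = 1 := by
      have h3 : (b : G)⁻¹ * a = a * (b : G)⁻¹ := h.comm (M.inv_mem b.2) a.2
      calc ((a : G) * (b : G)⁻¹) * (a * (b : G)⁻¹) = a * ((b : G)⁻¹ * a) * (b : G)⁻¹ := by group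
        _ = (a * a) * (b : G)⁻¹ * (b : G)⁻¹ := by rw [h3]; group
        _ = 1 := by rw [h1]; group
    have h3 := h.sq_ne (M.mul_mem a.2 (M.inv_mem b.2)) h2
    rw [mul_inv_eq_one] at h3
    exact Subtype.ext h3
  obtain ⟨y, hy⟩ := Finite.surjective_of_injective hf ⟨x, hx⟩
  exact ⟨y, y.2, congrArg Subtype.val hy⟩

theorem exists_conj {v : G} (hv : orderOf v = 2) (hvN : v ∈ normalizer (M : Set G)) :
    ∃ y ∈ M, y * z * y⁻¹ = v := by
  obtain ⟨y, hy, hyy⟩ := h.exists_sqrt (h.mul_mem_M hv hvN h.hz h.hzN)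
  refine ⟨y, hy, ?_⟩
  have h1 := h.inverts h.hz h.hzN hy
  have h2 : z * y⁻¹ = y * z := by
    have h3 := h.inverts h.hz h.hzN (M.inv_mem hy)
    rw [inv_inv] at h3
    exact mul_inv_eq_iff_eq_mul.mp h3
  rw [mul_assoc, h2, ← mul_assoc, hyy, mul_assoc, inv_sq h.hz, mul_one]

theorem exists_fix_z (hN : normalizer (M : Set G) ≠ ⊤) :
    ∃ α : G ⧸ normalizer (M : Set G), α ≠ pt M ∧ z • α = α := by
  obtain ⟨g, hg⟩ : ∃ g, g ∉ normalizer (M : Set G) := by
    by_contra hcon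
    push Not at hcon
    exact hN (eq_top_iff.mpr fun g _ => hcon g)
  have hne : g • pt M ≠ pt M := fun h2 => hg ((h.fix_pt g).mp h2)
  obtain ⟨v, hv, hv2, hvg⟩ := h.exists_fix0 hne
  obtain ⟨y, hy, hyv⟩ := h.exists_conj hv2 hv
  refine ⟨y⁻¹ • g • pt M, ?_, ?_⟩
  · intro h1
    apply hne
    rw [inv_smul_eq_iff] at h1
    rw [h1, (h.fix_pt y).mpr (h.M_le hy)]
  · have h1 : z = y⁻¹ * v * y := by rw [← hyv]; group
    rw [h1, mul_smul, smul_inv_smul, mul_smul, hvg]

/-! ### Case I -/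

section caseI

variable {u : G} (hu : orderOf u = 2) (huN : u ∉ normalizer (M : Set G)) (huz : u * z = z * u)
  (hI : ∀ a b : G, a * z = z * a → a ∉ normalizer (M : Set G) → b * z = z * b → b ∉ normalizer (M : Set G) →
    a * b ∈ normalizer (M : Set G))

include hu huN huz

theorem z_fix_u : z • u • pt M = u • pt M := by
  rw [← mul_smul, ← huz, mul_smul, (h.fix_pt z).mpr h.hzN]

theorem u_ne : u • pt M ≠ pt M := fun h2 => huN ((h.fix_pt u).mp h2)

theorem u_swap : u • u • pt M = pt M := by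
  rw [← mul_smul, inv_sq hu, one_smul]

theorem D_inv {g : G} (hg : g ∈ normalizer (M : Set G)) (hgα : g • u • pt M = u • pt M) :
    u * g * u⁻¹ = g⁻¹ := by
  apply h.inv_H hu huN hg
  rw [← h.fix_pt, mul_smul, mul_smul, inv_inv' hu, hgα, h.u_swap hu huN huz]

theorem D_z {g : G} (hg : g ∈ normalizer (M : Set G)) (hgα : g • u • pt M = u • pt M) : g * z = z * g := by
  have h1 : orderOf (g * z * g⁻¹) = 2 := h.conj_inv g h.hz
  have hz := h.z_fix_u hu huN huz
  have hg' : g⁻¹ • u • pt M = u • pt M := by rw [inv_smul_eq_iff, hgα]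
  have h2 := h.uniq0 (h.u_ne hu huN huz) h1 (mul_mem (mul_mem hg h.hzN) (inv_mem hg)) h.hz h.hzN (by
    rw [mul_smul, hg', mul_smul, hz, hgα]) hz
  exact mul_inv_eq_iff_eq_mul.mp h2

include hI

theorem fix_two {α : G ⧸ normalizer (M : Set G)} (hα : α ≠ pt M) (hzα : z • α = α) : α = u • pt M := by
  obtain ⟨v, hv, hvN, rfl, hvz⟩ := h.exists_swap_z hα hzα
  have h1 := hI v u hvz hvN huz huN
  have h2 := (h.fix_pt _).mpr h1
  rw [mul_smul] at h2
  have h3 : v • pt M = v • (v • (u • pt M)) := by rw [h2]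
  rw [h3, ← mul_smul v v, inv_sq hv, one_smul]

theorem M_trans {β : G ⧸ normalizer (M : Set G)} (hβ : β ≠ pt M) : ∃ y ∈ M, y • u • pt M = β := by
  obtain ⟨v, hv, hv2, hvβ⟩ := h.exists_fix0 hβ
  obtain ⟨y, hy, hyv⟩ := h.exists_conj hv2 hv
  refine ⟨y, hy, ?_⟩
  have h1 : z • y⁻¹ • β = y⁻¹ • β := by
    have e : z = y⁻¹ * v * y := by rw [← hyv]; group
    rw [e, mul_smul, smul_inv_smul, mul_smul, hvβ]
  have h2 : y⁻¹ • β ≠ pt M := by
    intro h3
    apply hβ
    rw [inv_smul_eq_iff] at h3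
    rw [h3, (h.fix_pt y).mpr (h.M_le hy)]
  have h3 := h.fix_two hu huN huz hI h2 h1
  rw [← h3, smul_inv_smul]

theorem comm_of_fix {g y : G} (hg : g ∈ normalizer (M : Set G)) (hgα : g • u • pt M = u • pt M) (hy : y ∈ M)
    (hgy : g • y • u • pt M = y • u • pt M) : g * y = y * g := by
  have h1 : (y⁻¹ * (g * y * g⁻¹)) • u • pt M = u • pt M := by
    have hg' : g⁻¹ • u • pt M = u • pt M := by rw [inv_smul_eq_iff, hgα]
    rw [mul_smul, mul_smul, hg', mul_smul, hgy, inv_smul_smul]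
  have h2 := h.M_free (h.u_ne hu huN huz) (M.mul_mem (M.inv_mem hy) (h.conj_mem hg hy)) h1
  rw [inv_mul_eq_one, eq_mul_inv_iff_mul_eq] at h2
  exact h2.symm

theorem three_fix {d y : G} (hd : d ∈ normalizer (M : Set G)) (hdα : d • u • pt M = u • pt M) (hy : y ∈ M)
    (hy1 : y ≠ 1) (hdy : d • y • u • pt M = y • u • pt M) : d = 1 := by
  have hcomm := h.comm_of_fix hu huN huz hI hd hdα hy hdy
  have hdinv := h.D_inv hu huN huz hd hdα
  set x' := u * y * u⁻¹ with hx'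
  have hx'd : d * x' = x' * d := by
    have e1 : d⁻¹ * x' = x' * d⁻¹ := by
      calc d⁻¹ * x' = (u * d * u⁻¹) * (u * y * u⁻¹) := by rw [hdinv]
        _ = u * (d * y) * u⁻¹ := by group
        _ = (u * y * u⁻¹) * (u * d * u⁻¹) := by rw [hcomm]; group
        _ = x' * d⁻¹ := by rw [hdinv]
    calc d * x' = d * (x' * d⁻¹) * d := by group
      _ = d * (d⁻¹ * x') * d := by rw [e1]
      _ = x' * d := by group
  have hx'α : x' • u • pt M = u • pt M := by
    rw [hx', mul_smul, mul_smul, inv_inv' hu, h.u_swap hu huN huz, (h.fix_pt y).mpr (h.M_le hy)]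
  have hx'o : x' • pt M ≠ pt M := by
    intro h1
    exact hy1 (h.M_inf hu huN hy ((h.fix_pt _).mp h1))
  obtain ⟨w, hw, hwx⟩ := h.M_trans hu huN huz hI hx'o
  have hwd : d * w = w * d := by
    apply h.comm_of_fix hu huN huz hI hd hdα hw
    rw [hwx, ← mul_smul, hx'd, mul_smul, (h.fix_pt d).mpr hd]
  -- c = w⁻¹ x' moves the base point to u • pt and commutes with d
  set n := u * (w⁻¹ * x') with hn
  have hnN : n ∈ normalizer (M : Set G) := by
    rw [← h.fix_pt, hn, mul_smul, mul_smul, ← hwx, inv_smul_smul, h.u_swap hu huN huz]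
  have hnd : n * d * n⁻¹ = d⁻¹ := by
    have e1 : w⁻¹ * x' * d = d * (w⁻¹ * x') := by
      have e2 : w⁻¹ * d = d * w⁻¹ := by
        rw [inv_mul_eq_iff_eq_mul, ← mul_assoc, ← hwd, mul_inv_cancel_right]
      rw [mul_assoc, ← hx'd, ← mul_assoc, e2, mul_assoc]
    calc n * d * n⁻¹ = u * (w⁻¹ * x' * d) * (w⁻¹ * x')⁻¹ * u⁻¹ := by rw [hn]; group
      _ = u * d * u⁻¹ := by rw [e1]; group
      _ = d⁻¹ := hdinv
  obtain ⟨m, hm, e, he, hez, hne⟩ := h.exists_md hnN
  -- e commutes with d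
  have heα : e • u • pt M = u • pt M := by
    apply h.fix_two hu huN huz hI
    · intro h1
      apply h.u_ne hu huN huz
      have h2 : u • pt M = e⁻¹ • pt M := by rw [eq_inv_smul_iff]; exact h1
      rw [h2, (h.fix_pt _).mpr (inv_mem he)]
    · rw [← mul_smul, ← hez, mul_smul, h.z_fix_u hu huN huz]
  have hed : e * d = d * e := by
    have e1 := h.D_inv hu huN huz he heα
    have e2 := h.D_inv hu huN huz (mul_mem he hd) (by rw [mul_smul, hdα, heα])
    have e3 : u * (e * d) * u⁻¹ = (u * e * u⁻¹) * (u * d * u⁻¹) := by group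
    rw [e3, e1, hdinv, ← mul_inv_rev, inv_inj] at e2
    exact e2.symm
  have h1 : d⁻¹ * d⁻¹ = m * (d * m * d⁻¹)⁻¹ := by
    have e1 : n * d * n⁻¹ = m * (e * d) * e⁻¹ * m⁻¹ := by rw [hne]; group
    rw [hed] at e1
    have e2 : d⁻¹ = m * d * m⁻¹ := by
      rw [← hnd, e1]; group
    calc d⁻¹ * d⁻¹ = (m * d * m⁻¹) * d⁻¹ := by rw [← e2]
      _ = m * (d * m * d⁻¹)⁻¹ := by group
  have h2 : d⁻¹ * d⁻¹ ∈ M := by
    rw [h1]; exact M.mul_mem hm (M.inv_mem (h.conj_mem hd hm))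
  have hdz := h.D_z hu huN huz hd hdα
  have h3 : d⁻¹ * d⁻¹ = 1 := by
    apply h.fix_z h.hz h2
    have e2 : z * d⁻¹ = d⁻¹ * z := by
      rw [eq_inv_mul_iff_mul_eq, ← mul_assoc, hdz, mul_inv_cancel_right]
    rw [← mul_assoc, e2, mul_assoc, e2, mul_assoc]
  apply h.comm_odd hy hy1 hcomm
  rw [← mul_inv_rev, inv_eq_one] at h3
  exact h3

end caseI

end Hyp

end H66.Large
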