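import Cfsg.Agent.Lib.H66.LargeB
import Cfsg.Prelude.Def_Transfer

/-!
Bender's theorem on groups with large TI-subgroups: identification when `|Fix(z)| = 2`.
-/

set_option autoImplicit false
set_option linter.unusedSectionVars false

open Subgroup MulAction

namespace H66.Large

variable {G : Type*} [Group G] [Finite G] {M : Subgroup G} {z : G}

namespace Hyp

variable (h : Hyp M z)
include h

theorem odd_card : Odd (Nat.card M) := by
  obtain ⟨x, hx, hx1⟩ := h.exists_ne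
  have h1 : M ≤ centralizer ({x} : Set G) := by
    intro y hy
    exact mem_centralizer_singleton_iff.mpr (h.comm hy hx)
  exact (h.odd x hx hx1).of_dvd_nat (card_dvd_of_le h1)

theorem two_lt_card : 2 < Nat.card M := by
  have h1 := h.odd_card
  have h2 : Nat.card M ≠ 1 := fun h2 => h.ne_bot (Subgroup.card_eq_one.mp h2)
  have h3 : 0 < Nat.card M := Nat.card_pos
  obtain ⟨k, hk⟩ := h1
  omega

section caseI

variable {u : G} (hu : orderOf u = 2) (huN : u ∉ normalizer (M : Set G)) (huz : u * z = z * u)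
  (hI : ∀ a b : G, a * z = z * a → a ∉ normalizer (M : Set G) → b * z = z * b → b ∉ normalizer (M : Set G) →
    a * b ∈ normalizer (M : Set G))

include hu huN huz hI

theorem card_pts : Nat.card (G ⧸ normalizer (M : Set G)) = Nat.card M + 1 := by
  rw [← Finite.card_option]
  symm
  refine Nat.card_congr (Equiv.ofBijective (fun p : Option M => p.elim (pt M) (fun y => (y : G) • u • pt M)) ⟨?_, ?_⟩)
  · intro p q hpq
    have key : ∀ y : M, (y : G) • u • pt M ≠ pt M := by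
      intro y hy
      apply h.u_ne hu huN huz
      have : u • pt M = (y : G)⁻¹ • pt M := by rw [eq_inv_smul_iff]; exact hy
      rw [this, (h.fix_pt _).mpr (inv_mem (h.M_le y.2))]
    cases p with
    | none =>
      cases q with
      | none => rfl
      | some y => exact absurd hpq.symm (key y)
    | some x =>
      cases q with
      | none => exact absurd hpq (key x)
      | some y =>
        have h1 : (x : G) • u • pt M = (y : G) • u • pt M := hpq
        have h2 := h.M_free (h.u_ne hu huN huz) (M.mul_mem (M.inv_mem y.2) x.2) (by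
          rw [mul_smul, h1, inv_smul_smul])
        rw [inv_mul_eq_one] at h2
        rw [Subtype.ext h2.symm]
  · intro β
    by_cases hβ : β = pt M
    · exact ⟨none, hβ.symm⟩
    · obtain ⟨y, hy, rfl⟩ := h.M_trans hu huN huz hI hβ
      exact ⟨some ⟨y, hy⟩, rfl⟩

theorem two_trans' {α β : G ⧸ normalizer (M : Set G)} (hαβ : α ≠ β) : ∃ g : G, g • pt M = α ∧ g • u • pt M = β := by
  obtain ⟨g, rfl⟩ := h.exists_point α
  have h1 : g⁻¹ • β ≠ pt M := by
    intro h2
    apply hαβ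
    rw [inv_smul_eq_iff] at h2
    exact h2.symm
  obtain ⟨y, hy, hyβ⟩ := h.M_trans hu huN huz hI h1
  refine ⟨g * y, ?_, ?_⟩
  · rw [mul_smul, (h.fix_pt y).mpr (h.M_le hy)]
  · rw [mul_smul, hyβ, smul_inv_smul]

theorem three_fix' {g : G} {a b c : G ⧸ normalizer (M : Set G)} (hab : a ≠ b) (hbc : b ≠ c) (hac : a ≠ c)
    (ha : g • a = a) (hb : g • b = b) (hc : g • c = c) : g = 1 := by
  obtain ⟨k, rfl, rfl⟩ := h.two_trans' hu huN huz hI hab
  have hne : k⁻¹ • c ≠ pt M := by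
    intro h1
    apply hac
    rw [inv_smul_eq_iff] at h1
    exact h1.symm
  obtain ⟨y, hy, hyc⟩ := h.M_trans hu huN huz hI hne
  have key : ∀ p : G ⧸ normalizer (M : Set G), g • k • p = k • p → (k⁻¹ * g * k) • p = p := by
    intro p hp
    rw [mul_smul, mul_smul, hp, inv_smul_smul]
  have h1 := h.three_fix hu huN huz hI ((h.fix_pt _).mp (key _ ha)) (key _ hb) hy (by
    rintro rfl
    apply hbc
    rw [one_smul] at hyc
    rw [hyc, smul_inv_smul]) (by
    apply key
    rw [hyc, smul_inv_smul]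
    exact hc)
  have h2 : g = k * (k⁻¹ * g * k) * k⁻¹ := by group
  rw [h2, h1]; group

theorem faithful : FaithfulSMul G (G ⧸ normalizer (M : Set G)) := by
  refine ⟨fun {g g'} hg => ?_⟩
  obtain ⟨x, hx, hx1⟩ := h.exists_ne
  have h1 : ∀ p : G ⧸ normalizer (M : Set G), (g'⁻¹ * g) • p = p := by
    intro p
    rw [mul_smul, hg, inv_smul_smul]
  have h2 := h.three_fix hu huN huz hI ((h.fix_pt _).mp (h1 _)) (h1 _) hx hx1 (h1 _)
  rw [inv_mul_eq_one] at h2
  exact h2.symm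

theorem no_regular (hq : 5 ≤ Nat.card M) (K : Subgroup G) (hK : K.Normal)
    (hKt : MulAction.IsPretransitive K (G ⧸ normalizer (M : Set G)))
    (hreg : ∀ k ∈ K, ∀ a : G ⧸ normalizer (M : Set G), k • a = a → k = 1) : False := by
  classical
  obtain ⟨⟨k0, hk0⟩, hk0'⟩ := exists_smul_eq K (pt M) (u • pt M)
  have hk0u : k0 • pt M = u • pt M := hk0'
  have huniq : ∀ k ∈ K, ∀ l ∈ K, k • pt M = l • pt M → k = l := by
    intro k hk l hl hkl
    have h1 := hreg _ (mul_mem (inv_mem hl) hk) (pt M) (by rw [mul_smul, hkl, inv_smul_smul])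
    rw [inv_mul_eq_one] at h1
    exact h1.symm
  have hz' := h.hz
  have hzinv : z⁻¹ = z := inv_inv' hz'
  have hzpt : z • pt M = pt M := (h.fix_pt z).mpr h.hzN
  have hk0z : z * k0 * z⁻¹ = k0 := by
    apply huniq _ (hK.conj_mem _ hk0 z) _ hk0
    rw [mul_smul, mul_smul, hzinv, hzpt, hk0u, h.z_fix_u hu huN huz]
  have hk0N : k0 ∉ normalizer (M : Set G) := by
    intro h1
    apply h.u_ne hu huN huz
    rw [← hk0u, (h.fix_pt _).mpr h1]
  have hk02 : orderOf k0 = 2 := h.cent_inv (mul_inv_eq_iff_eq_mul.mp hk0z).symm hk0N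
  have hk0sq := inv_sq hk02
  have hconj : ∀ k ∈ K, k ≠ 1 → ∃ y ∈ M, k = y * k0 * y⁻¹ := by
    intro k hk hk1
    have hne : k • pt M ≠ pt M := fun h1 => hk1 (hreg k hk _ h1)
    obtain ⟨y, hy, hyk⟩ := h.M_trans hu huN huz hI hne
    refine ⟨y, hy, ?_⟩
    apply huniq k hk _ (hK.conj_mem _ hk0 y)
    rw [mul_smul, mul_smul, (h.fix_pt y⁻¹).mpr (inv_mem (h.M_le hy)), hk0u, hyk]
  have hsq : ∀ k ∈ K, k * k = 1 := by
    intro k hk
    by_cases hk1 : k = 1
    · rw [hk1, one_mul]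
    · obtain ⟨y, hy, rfl⟩ := hconj k hk hk1
      calc y * k0 * y⁻¹ * (y * k0 * y⁻¹) = y * (k0 * k0) * y⁻¹ := by group
        _ = 1 := by rw [hk0sq]; group
  have hcomm : ∀ k ∈ K, ∀ l ∈ K, k * l = l * k := by
    intro k hk l hl
    have h1 := hsq _ (mul_mem hk hl)
    have h2 := hsq k hk
    have h3 := hsq l hl
    calc k * l = k * (k * l * (k * l)) * l := by rw [h1, mul_one]
      _ = (k * k) * (l * k) * (l * l) := by group
      _ = l * k := by rw [h2, h3, one_mul, mul_one]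
  have hcent : ∀ k ∈ K, z * k * z⁻¹ = k → k = 1 ∨ k = k0 := by
    intro k hk hkz
    by_cases hk1 : k = 1
    · exact Or.inl hk1
    right
    have hne : k • pt M ≠ pt M := fun h1 => hk1 (hreg k hk _ h1)
    apply huniq k hk k0 hk0
    rw [hk0u]
    apply h.fix_two hu huN huz hI hne
    have h1 : z * k = k * z := mul_inv_eq_iff_eq_mul.mp hkz
    rw [← mul_smul, h1, mul_smul, hzpt]
  have hzy : ∀ y ∈ M, z * (y * k0 * y⁻¹) * z⁻¹ = y⁻¹ * k0 * y := by
    intro y hy
    have h1 := h.inverts h.hz h.hzN hy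
    have h2 : z * (y * k0 * y⁻¹) * z⁻¹ = (z * y * z⁻¹) * (z * k0 * z⁻¹) * (z * y * z⁻¹)⁻¹ := by group
    rw [h2, h1, hk0z, inv_inv]
  have hyK : ∀ y : G, y * k0 * y⁻¹ ∈ K := fun y => hK.conj_mem _ hk0 y
  have hyK' : ∀ y : G, y⁻¹ * k0 * y ∈ K := fun y => by
    have := hK.conj_mem _ hk0 y⁻¹
    rwa [inv_inv] at this
  have hinjy : ∀ y ∈ M, ∀ w ∈ M, y * k0 * y⁻¹ = w * k0 * w⁻¹ → y = w := by
    intro y hy w hw hyw
    have h1 : (w⁻¹ * y) • u • pt M = u • pt M := by
      have h2 : (y * k0 * y⁻¹) • pt M = (w * k0 * w⁻¹) • pt M := by rw [hyw]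
      rw [mul_smul, mul_smul, mul_smul, mul_smul, (h.fix_pt y⁻¹).mpr (inv_mem (h.M_le hy)),
        (h.fix_pt w⁻¹).mpr (inv_mem (h.M_le hw)), hk0u] at h2
      rw [mul_smul, h2, inv_smul_smul]
    have h2 := h.M_free (h.u_ne hu huN huz) (M.mul_mem (M.inv_mem hw) hy) h1
    rw [inv_mul_eq_one] at h2
    exact h2.symm
  have hstar : ∀ y ∈ M, y ≠ 1 → y⁻¹ * k0 * y = (y * k0 * y⁻¹) * k0 := by
    intro y hy hy1
    have hc : z * ((y * k0 * y⁻¹) * (y⁻¹ * k0 * y)) * z⁻¹ = (y * k0 * y⁻¹) * (y⁻¹ * k0 * y) := by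
      have e1 : z * ((y * k0 * y⁻¹) * (y⁻¹ * k0 * y)) * z⁻¹ =
          (z * (y * k0 * y⁻¹) * z⁻¹) * (z * (y⁻¹ * k0 * y⁻¹⁻¹) * z⁻¹) := by group
      rw [e1, hzy y hy, hzy _ (M.inv_mem hy), inv_inv]
      exact hcomm _ (hyK' y) _ (hyK y)
    rcases hcent _ (mul_mem (hyK y) (hyK' y)) hc with h1 | h1
    · exfalso
      have h2 : y * k0 * y⁻¹ = y⁻¹ * k0 * y⁻¹⁻¹ := by
        rw [inv_inv]
        have h3 := eq_inv_of_mul_eq_one_left h1
        have h4 := hsq _ (hyK' y)
        rw [h3]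
        exact inv_eq_of_mul_eq_one_left h4
      have h3 := hinjy y hy _ (M.inv_mem hy) h2
      apply hy1
      apply h.sq_ne hy
      nth_rewrite 2 [h3]
      rw [mul_inv_cancel]
    · calc y⁻¹ * k0 * y = ((y * k0 * y⁻¹) * (y * k0 * y⁻¹)) * (y⁻¹ * k0 * y) := by
            rw [hsq _ (hyK y), one_mul]
        _ = (y * k0 * y⁻¹) * ((y * k0 * y⁻¹) * (y⁻¹ * k0 * y)) := by group
        _ = _ := by rw [h1]
  have hfin : ∀ y ∈ M, ∀ w ∈ M, y ≠ 1 → w ≠ 1 → w = y ∨ w = y⁻¹ := by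
    intro y hy w hw hy1 hw1
    have hc : z * ((y * k0 * y⁻¹) * (w * k0 * w⁻¹)) * z⁻¹ = (y * k0 * y⁻¹) * (w * k0 * w⁻¹) := by
      have e1 : z * ((y * k0 * y⁻¹) * (w * k0 * w⁻¹)) * z⁻¹ =
          (z * (y * k0 * y⁻¹) * z⁻¹) * (z * (w * k0 * w⁻¹) * z⁻¹) := by group
      rw [e1, hzy y hy, hzy w hw, hstar y hy hy1, hstar w hw hw1]
      rw [hcomm _ (hyK w) _ hk0]
      calc y * k0 * y⁻¹ * k0 * (k0 * (w * k0 * w⁻¹)) = y * k0 * y⁻¹ * (k0 * k0) * (w * k0 * w⁻¹) := by group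
        _ = _ := by rw [hk0sq, mul_one]
    rcases hcent _ (mul_mem (hyK y) (hyK w)) hc with h1 | h1
    · left
      apply (hinjy y hy w hw _).symm
      rw [eq_inv_of_mul_eq_one_left h1]
      exact inv_eq_of_mul_eq_one_left (hsq _ (hyK w))
    · right
      apply hinjy w hw _ (M.inv_mem hy)
      rw [inv_inv, hstar y hy hy1]
      calc w * k0 * w⁻¹ = ((y * k0 * y⁻¹) * (y * k0 * y⁻¹)) * (w * k0 * w⁻¹) := by rw [hsq _ (hyK y), one_mul]
        _ = (y * k0 * y⁻¹) * ((y * k0 * y⁻¹) * (w * k0 * w⁻¹)) := by group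
        _ = _ := by rw [h1]
  -- contradiction
  obtain ⟨y, hy, hy1⟩ := h.exists_ne
  have hsub : (M : Set G) ⊆ ({1, y, y⁻¹} : Finset G) := by
    intro w hw
    by_cases hw1 : w = 1
    · rw [hw1]; simp
    · rcases hfin y hy w hw hy1 hw1 with h1 | h1
      · rw [h1]; simp
      · rw [h1]; simp
  have h1 : Nat.card M ≤ 3 := by
    have h2 : Nat.card M = (M : Set G).ncard := by rw [← Nat.card_coe_set_eq]; rfl
    rw [h2]
    refine (Set.ncard_le_ncard hsub (Finset.finite_toSet _)).trans ?_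
    rw [Set.ncard_coe_finset]
    exact Finset.card_le_three
  omega

theorem zass (hq : 5 ≤ Nat.card M) : Cfsg.IsZassenhausGroup G (G ⧸ normalizer (M : Set G)) := by
  refine ⟨h.faithful hu huN huz hI, ?_, ?_, ?_, ?_⟩
  · rw [is_two_pretransitive_iff]
    intro a b c d hab hcd
    obtain ⟨g, rfl, rfl⟩ := h.two_trans' hu huN huz hI hab
    obtain ⟨k, rfl, rfl⟩ := h.two_trans' hu huN huz hI hcd
    refine ⟨k * g⁻¹, ?_, ?_⟩
    · rw [mul_smul, inv_smul_smul]
    · rw [mul_smul, inv_smul_smul]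
  · intro g a b c hab hbc hac ha hb hc
    exact h.three_fix' hu huN huz hI hab hbc hac ha hb hc
  · exact ⟨z, inv_ne h.hz, pt M, u • pt M, (h.u_ne hu huN huz).symm, (h.fix_pt z).mpr h.hzN, h.z_fix_u hu huN huz⟩
  · intro K hK hKt
    by_contra hcon
    push Not at hcon
    apply h.no_regular hu huN huz hI hq K hK hKt
    intro k hk a hka
    have h1 := (Subgroup.eq_bot_iff_forall _).mp (hcon a) ⟨k, hk⟩ hka
    exact congrArg Subtype.val h1

/-- the conclusion in the first case -/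
theorem caseI : ∃ (F : Type) (_ : Field F) (_ : Fintype F) (p : ℕ) (_ : Fact p.Prime) (_ : CharP F p),
    Fintype.card F = Nat.card M ∧ Cfsg.IsElementaryAbelian p M ∧
        (Nonempty (G ≃* (GL (Fin 2) F ⧸ Subgroup.center (GL (Fin 2) F))) ∨
         (Fintype.card F % 4 = 1 ∧ Nonempty (G ≃* Matrix.ProjectiveSpecialLinearGroup (Fin 2) F))) := by
  classical
  have := Fintype.ofFinite (G ⧸ normalizer (M : Set G))
  have hfaith := h.faithful hu huN huz hI
  have hne := h.u_ne hu huN huz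
  have hMab : IsMulCommutative M := ⟨⟨fun a b => Subtype.ext (h.comm a.2 b.2)⟩⟩
  set D : Subgroup G := stabilizer G (pt M) ⊓ stabilizer G (u • pt M) with hD
  have hDmem : ∀ g : G, g ∈ D ↔ g • pt M = pt M ∧ g • u • pt M = u • pt M := fun g => Iff.rfl
  have hDN : ∀ g ∈ D, g ∈ normalizer (M : Set G) := fun g hg => (h.fix_pt g).mp ((hDmem g).mp hg).1
  have hDinv : ∀ g ∈ D, u * g * u⁻¹ = g⁻¹ := fun g hg => h.D_inv hu huN huz (hDN g hg) ((hDmem g).mp hg).2
  have hDc : ∀ a ∈ D, ∀ b ∈ D, a * b = b * a := by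
    intro a ha b hb
    have e1 := hDinv a ha
    have e2 := hDinv b hb
    have e3 := hDinv _ (mul_mem ha hb)
    have e4 : u * (a * b) * u⁻¹ = (u * a * u⁻¹) * (u * b * u⁻¹) := by group
    rw [e4, e1, e2, ← mul_inv_rev, inv_inj] at e3
    exact e3.symm
  have hDM : ∀ d ∈ D, ∀ x ∈ M, d * x * d⁻¹ ∈ M := fun d hd x hx => h.conj_mem (hDN d hd) hx
  have hfree : ∀ d ∈ D, ∀ x ∈ M, x ≠ 1 → d * x = x * d → d = 1 := by
    intro d hd x hx hx1 hdx
    apply h.three_fix hu huN huz hI (hDN d hd) ((hDmem d).mp hd).2 hx hx1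
    rw [← mul_smul, hdx, mul_smul, ((hDmem d).mp hd).2]
  have hzD : z ∈ D := (hDmem z).mpr ⟨(h.fix_pt z).mpr h.hzN, h.z_fix_u hu huN huz⟩
  have heven : Even (Nat.card D) := by
    rw [even_iff_two_dvd]
    have h1 : orderOf (⟨z, hzD⟩ : D) ∣ Nat.card D := orderOf_dvd_natCard _
    rwa [Subgroup.orderOf_mk, h.hz] at h1
  have hdvd : Nat.card D ∣ Nat.card M - 1 := by
    apply H1.FrobSyl.card_dvd_sub_one
    · intro d hd
      exact hDN d hd
    · intro d hd hd1
      rw [eq_bot_iff]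
      rintro x ⟨hx, hxd⟩
      rw [mem_bot]
      by_contra hx1
      exact hd1 (hfree d hd x hx hx1 (mem_centralizer_singleton_iff.mp hxd).symm)
  have hM3 := h.two_lt_card
  have hMo := h.odd_card
  have hcΩ : Fintype.card (G ⧸ normalizer (M : Set G)) = Nat.card M + 1 := by
    rw [← Nat.card_eq_fintype_card]; exact h.card_pts hu huN huz hI
  have hdpos : 0 < Nat.card D := Nat.card_pos
  obtain ⟨c, hc⟩ := hdvd
  have hcases : Nat.card M - 1 = Nat.card D ∨ (5 ≤ Nat.card M ∧ Nat.card M - 1 = 2 * Nat.card D) := by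
    obtain ⟨e, he⟩ := heven
    obtain ⟨k, hk⟩ := hMo
    by_cases hq : 5 ≤ Nat.card M
    · have h1 := H16.Zass.even_large (h.zass hu huN huz hI hq) hne.symm (by rw [← hD]; exact ⟨e, he⟩)
      rw [← hD, hcΩ] at h1
      have h2 : c ≤ 2 := by
        by_contra hc3
        push Not at hc3
        have h3 : Nat.card D * 3 ≤ Nat.card D * c := Nat.mul_le_mul_left _ hc3
        omega
      interval_cases c
      · omega
      · left; omega
      · right; exact ⟨hq, by omega⟩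
    · left
      have h3 : Nat.card M = 3 := by omega
      have h4 : Nat.card D ∣ 2 := ⟨c, by omega⟩
      have h5 := Nat.le_of_dvd (by norm_num) h4
      omega
  rcases hcases with hcase | ⟨hq, hcase⟩
  · obtain ⟨K, iK, iKf, p, hp, hchar, hK1, hK2, hiso⟩ := H66.PGLMain.main hne.symm M D
      (fun x hx => (h.fix_pt x).mpr (h.M_le hx)) (fun x hx hxu => h.M_free hne hx hxu)
      (fun y hy => h.M_trans hu huN huz hI hy) hDmem hDc (fun x hx y hy => h.comm hx hy) hDM hfree h.ne_bot hcase u rfl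
      (h.u_swap hu huN huz) (by
        intro d hd
        exact mul_inv_eq_iff_eq_mul.mp (hDinv d hd))
    exact ⟨K, iK, iKf, p, hp, hchar, hK1, ⟨hMab, hK2⟩, Or.inl hiso⟩
  · obtain ⟨p, f, K, iK, iKf, hp, hp2, hKc, hΩc, hiso⟩ := H16.ZassPSL.main (h.zass hu huN huz hI hq) hne.symm
      (by rw [← hD]; exact heven) (by rw [← hD, hcΩ]; omega)
    obtain ⟨-, p', f', hp', hMp', hMc'⟩ := H16.ZassKer.elementary M D hDM hfree h.ne_bot (by omega)
    have hcard : p ^ f = Nat.card M := by omega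
    have hf0 : f ≠ 0 := by
      rintro rfl
      rw [pow_zero] at hcard
      omega
    have hpp : p = p' := by
      have h1 : p ∣ p' ^ f' := by
        rw [← hMc', ← hcard]; exact dvd_pow_self _ hf0
      exact (Nat.prime_dvd_prime_iff_eq hp hp').mp (hp.dvd_of_dvd_pow h1)
    obtain ⟨n, hn1, hn2⟩ := FiniteField.card K (ringChar K)
    have hpr : ringChar K = p := by
      rw [hKc] at hn2
      have h1 : ringChar K ∣ p ^ f := by
        rw [hn2]; exact dvd_pow_self _ n.ne_zero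
      exact (Nat.prime_dvd_prime_iff_eq hn1 hp).mp (hn1.dvd_of_dvd_pow h1)
    have hchar : CharP K p := by
      rw [← hpr]; exact inferInstance
    refine ⟨K, iK, iKf, p, ⟨hp⟩, hchar, by rw [hKc, hcard], ⟨hMab, ?_⟩, Or.inr ⟨?_, hiso⟩⟩
    · rw [hpp]; exact hMp'
    · rw [hKc, hcard]
      obtain ⟨e, he⟩ := heven
      omega

end caseI

end Hyp

end H66.Large
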