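import Cfsg.Agent.Lib.H66.LargeC
import Cfsg.Agent.Lib.H18.CharInd

/-!
Bender's theorem on groups with large TI-subgroups: counting when `C_N(z) = ⟨z⟩`.
-/

set_option autoImplicit false
set_option linter.unusedSectionVars false

open Subgroup MulAction

namespace H66.Large

variable {G : Type*} [Group G] [Finite G] {M : Subgroup G} {z : G}

theorem card_split {α : Type*} [Finite α] (P Q : α → Prop) :
    Nat.card {x // P x} = Nat.card {x // P x ∧ Q x} + Nat.card {x // P x ∧ ¬ Q x} := by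
  classical
  rw [← Nat.card_sum]
  refine Nat.card_congr
    { toFun := fun x => if hQ : Q x.1 then Sum.inl ⟨x.1, x.2, hQ⟩ else Sum.inr ⟨x.1, x.2, hQ⟩
      invFun := fun y => y.elim (fun x => ⟨x.1, x.2.1⟩) (fun x => ⟨x.1, x.2.1⟩)
      left_inv := ?_
      right_inv := ?_ }
  · intro x
    by_cases hQ : Q x.1
    · simp [hQ]
    · simp [hQ]
  · rintro (x | x)
    · simp [x.2.2]
    · simp [x.2.2]

namespace Hyp

variable (h : Hyp M z)
include h

theorem dichotomy (a b : G) (haz : a * z = z * a) (haN : a ∉ normalizer (M : Set G)) (hbz : b * z = z * b)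
    (hbN : b ∉ normalizer (M : Set G)) (hab : a * b ∉ normalizer (M : Set G)) :
    ∀ d ∈ normalizer (M : Set G), d * z = z * d → d = 1 ∨ d = z := by
  intro d hd hdz
  have key : ∀ g : G, g * z = z * g → g ∉ normalizer (M : Set G) → g * d * g⁻¹ = d⁻¹ := by
    intro g hg hgN
    have h1 := h.cent_inv hg hgN
    have h2 := h.cent_inv (g := g * d) (by rw [mul_assoc, hdz, ← mul_assoc, hg, mul_assoc]) (h.mul_not_mem hgN hd)
    have h3 := inv_sq h2
    rw [inv_inv' h1]
    apply eq_inv_of_mul_eq_one_left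
    rw [← h3]; group
  have habz : a * b * z = z * (a * b) := by rw [mul_assoc, hbz, ← mul_assoc, haz, mul_assoc]
  have h1 := key a haz haN
  have h2 := key b hbz hbN
  have h3 := key _ habz hab
  have h4 : a * b * d * (a * b)⁻¹ = a * (b * d * b⁻¹) * a⁻¹ := by group
  have h5 : a * d⁻¹ * a⁻¹ = (a * d * a⁻¹)⁻¹ := by group
  rw [h4, h2, h5, h1, inv_inv] at h3
  by_cases hd1 : d = 1
  · exact Or.inl hd1
  right
  have hd2 : orderOf d = 2 := inv_of_sq (by nth_rewrite 1 [h3]; rw [inv_mul_cancel]) hd1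
  exact h.eq_of_comm (α := pt M) hd2 h.hz ((h.fix_pt d).mpr hd) ((h.fix_pt z).mpr h.hzN) hdz

section caseII

variable (hII : ∀ d ∈ normalizer (M : Set G), d * z = z * d → d = 1 ∨ d = z)
include hII

theorem cent_sq {g : G} (hg : g * z = z * g) : g * g = 1 := by
  by_cases hgN : g ∈ normalizer (M : Set G)
  · rcases hII g hgN hg with rfl | rfl
    · rw [one_mul]
    · exact inv_sq h.hz
  · exact inv_sq (h.cent_inv hg hgN)

theorem card_cent : Nat.card (centralizer ({z} : Set G)) =
    2 * Nat.card {α : G ⧸ normalizer (M : Set G) // z • α = α} := by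
  classical
  set E := centralizer ({z} : Set G) with hE
  have h1 := Nat.card_congr (MulAction.orbitProdStabilizerEquivGroup E (pt M))
  rw [← h1, Nat.card_prod, mul_comm]
  congr 1
  · rw [Nat.card_eq_two_iff]
    have hzE : z ∈ E := mem_centralizer_singleton_iff.mpr rfl
    refine ⟨1, ⟨⟨z, hzE⟩, (h.fix_pt z).mpr h.hzN⟩, ?_, ?_⟩
    · intro h2
      have h3 : (1 : G) = z := congrArg (fun t : stabilizer E (pt M) => ((t : E) : G)) h2
      exact inv_ne h.hz h3.symm
    · rw [Set.eq_univ_iff_forall]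
      rintro ⟨⟨g, hgE⟩, hg⟩
      have hg' : g • pt M = pt M := hg
      rcases hII g ((h.fix_pt g).mp hg') (mem_centralizer_singleton_iff.mp hgE) with h2 | h2
      · left
        apply Subtype.ext
        apply Subtype.ext
        exact h2
      · right
        apply Subtype.ext
        apply Subtype.ext
        exact h2
  · have h2 : ∀ α : G ⧸ normalizer (M : Set G), α ∈ orbit E (pt M) ↔ z • α = α := by
      intro α
      constructor
      · rintro ⟨⟨g, hg⟩, rfl⟩
        change z • g • pt M = g • pt M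
        rw [← mul_smul, ← mem_centralizer_singleton_iff.mp hg, mul_smul, (h.fix_pt z).mpr h.hzN]
      · intro hα
        by_cases hαp : α = pt M
        · exact ⟨1, by rw [hαp]; exact one_smul _ _⟩
        · obtain ⟨u, hu, huN, huα, huz⟩ := h.exists_swap_z hαp hα
          exact ⟨⟨u, mem_centralizer_singleton_iff.mpr huz⟩, huα⟩
    exact Nat.card_congr (Equiv.subtypeEquivRight h2)

theorem card_N : Nat.card (normalizer (M : Set G)) = 2 * Nat.card M := by
  have h1 : Nat.card (M ⊕ M) = 2 * Nat.card M := by rw [Nat.card_sum]; ring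
  rw [← h1]
  symm
  refine Nat.card_congr (Equiv.ofBijective (fun x : M ⊕ M => x.elim
    (fun m : M => (⟨(m : G), h.M_le m.2⟩ : normalizer (M : Set G)))
    (fun m : M => ⟨(m : G) * z, mul_mem (h.M_le m.2) h.hzN⟩)) ⟨?_, ?_⟩)
  · rintro (x | x) (y | y) hxy
    · have h2 := congrArg Subtype.val hxy
      have h3 : (x : G) = y := h2
      rw [Subtype.ext h3]
    · exfalso
      have h2 : (x : G) = y * z := congrArg Subtype.val hxy
      apply h.not_mem h.hz
      have h3 : z = (y : G)⁻¹ * x := by rw [h2]; group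
      rw [h3]; exact M.mul_mem (M.inv_mem y.2) x.2
    · exfalso
      have h2 : (x : G) * z = y := congrArg Subtype.val hxy
      apply h.not_mem h.hz
      have h3 : z = (x : G)⁻¹ * y := by rw [← h2]; group
      rw [h3]; exact M.mul_mem (M.inv_mem x.2) y.2
    · have h2 : (x : G) * z = y * z := congrArg Subtype.val hxy
      rw [Subtype.ext (mul_right_cancel h2)]
  · rintro ⟨n, hn⟩
    obtain ⟨m, hm, d, hd, hdz, e⟩ := h.exists_md hn
    rcases hII d hd hdz with h2 | h2
    · refine ⟨Sum.inl ⟨m, hm⟩, Subtype.ext ?_⟩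
      change m = n
      rw [e, h2, mul_one]
    · refine ⟨Sum.inr ⟨m, hm⟩, Subtype.ext ?_⟩
      change m * z = n
      rw [e, h2]

theorem card_pts2 : Nat.card (G ⧸ normalizer (M : Set G)) =
    1 + Nat.card M * (Nat.card {α : G ⧸ normalizer (M : Set G) // z • α = α} - 1) := by
  classical
  have hz := h.hz
  have e1 := card_split (fun _ : G ⧸ normalizer (M : Set G) => True) (fun α => α = pt M)
  have e2 := card_split (fun α : G ⧸ normalizer (M : Set G) => z • α = α) (fun α => α = pt M)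
  have e3 : Nat.card {x : G ⧸ normalizer (M : Set G) // True ∧ x = pt M} = 1 := by
    rw [Nat.card_eq_one_iff_unique]
    refine ⟨⟨?_⟩, ⟨⟨pt M, trivial, rfl⟩⟩⟩
    rintro ⟨a, -, ha⟩ ⟨b, -, hb⟩
    exact Subtype.ext (ha.trans hb.symm)
  have e4 : Nat.card {x : G ⧸ normalizer (M : Set G) // z • x = x ∧ x = pt M} = 1 := by
    rw [Nat.card_eq_one_iff_unique]
    refine ⟨⟨?_⟩, ⟨⟨pt M, (h.fix_pt z).mpr h.hzN, rfl⟩⟩⟩
    rintro ⟨a, -, ha⟩ ⟨b, -, hb⟩
    exact Subtype.ext (ha.trans hb.symm)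
  have e5 : Nat.card {x : G ⧸ normalizer (M : Set G) // True} = Nat.card (G ⧸ normalizer (M : Set G)) :=
    Nat.card_congr (Equiv.subtypeUnivEquiv (fun _ => trivial))
  have e6 : Nat.card M * Nat.card {x : G ⧸ normalizer (M : Set G) // z • x = x ∧ ¬ x = pt M} =
      Nat.card {x : G ⧸ normalizer (M : Set G) // True ∧ ¬ x = pt M} := by
    rw [← Nat.card_prod]
    have hmove : ∀ y ∈ M, ∀ α : G ⧸ normalizer (M : Set G), α ≠ pt M → y • α ≠ pt M := by
      intro y hy α hα h1
      apply hα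
      have : α = y⁻¹ • pt M := by rw [eq_inv_smul_iff]; exact h1
      rw [this, (h.fix_pt _).mpr (inv_mem (h.M_le hy))]
    refine Nat.card_congr (Equiv.ofBijective (fun x : M × {x : G ⧸ normalizer (M : Set G) // z • x = x ∧ ¬ x = pt M} =>
      (⟨(x.1 : G) • x.2.1, trivial, hmove _ x.1.2 _ x.2.2.2⟩ :
        {x : G ⧸ normalizer (M : Set G) // True ∧ ¬ x = pt M})) ⟨?_, ?_⟩)
    · rintro ⟨⟨y, hy⟩, ⟨α, hα, hαp⟩⟩ ⟨⟨w, hw⟩, ⟨β, hβ, hβp⟩⟩ hxy
      have h1 : y • α = w • β := congrArg Subtype.val hxy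
      have key : ∀ y ∈ M, ∀ α : G ⧸ normalizer (M : Set G), z • α = α → (y * z * y⁻¹) • y • α = y • α := by
        intro y hy α hα
        rw [mul_smul, mul_smul, inv_smul_smul, hα]
      have key2 : ∀ y ∈ M, y * z * y⁻¹ ∈ normalizer (M : Set G) := fun y hy =>
        mul_mem (mul_mem (h.M_le hy) h.hzN) (inv_mem (h.M_le hy))
      have h2 := h.uniq0 (hmove y hy α hαp) (h.conj_inv y hz) (key2 y hy) (h.conj_inv w hz) (key2 w hw)
        (key y hy α hα) (by rw [h1]; exact key w hw β hβ)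
      have h3 : z * (w⁻¹ * y) = (w⁻¹ * y) * z := by
        have h4 : w⁻¹ * y * z = w⁻¹ * (y * z * y⁻¹) * y := by group
        rw [h4, h2]; group
      have h4 := h.fix_z hz (M.mul_mem (M.inv_mem hw) hy) h3
      have h5 : y = w := (inv_mul_eq_one.mp h4).symm
      subst h5
      have h6 : α = β := smul_left_cancel _ h1
      subst h6
      rfl
    · rintro ⟨β, -, hβ⟩
      obtain ⟨v, hv, hv2, hvβ⟩ := h.exists_fix0 hβ
      obtain ⟨y, hy, hyv⟩ := h.exists_conj hv2 hv
      have h1 : z • y⁻¹ • β = y⁻¹ • β := by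
        have e : z = y⁻¹ * v * y := by rw [← hyv]; group
        rw [e, mul_smul, smul_inv_smul, mul_smul, hvβ]
      exact ⟨⟨⟨y, hy⟩, ⟨y⁻¹ • β, h1, hmove _ (M.inv_mem hy) _ hβ⟩⟩, Subtype.ext (smul_inv_smul _ _)⟩
  rw [e3] at e1
  rw [e4] at e2
  rw [← e5, e1, ← e6]
  congr 2
  omega

theorem card_inv : Nat.card {g : G // orderOf g = 2} =
    Nat.card M + Nat.card {g : G // orderOf g = 2 ∧ g ∉ normalizer (M : Set G)} := by
  rw [card_split (fun g : G => orderOf g = 2) (fun g => g ∈ normalizer (M : Set G))]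
  congr 1
  symm
  refine Nat.card_congr (Equiv.ofBijective (fun m : M => (⟨z * m, h.mul_inv_of h.hz h.hzN m.2,
    mul_mem h.hzN (h.M_le m.2)⟩ : {g : G // orderOf g = 2 ∧ g ∈ normalizer (M : Set G)})) ⟨?_, ?_⟩)
  · intro x y hxy
    have h1 : z * (x : G) = z * y := congrArg Subtype.val hxy
    exact Subtype.ext (mul_left_cancel h1)
  · rintro ⟨v, hv, hvN⟩
    refine ⟨⟨z * v, h.mul_mem_M h.hz h.hzN hv hvN⟩, Subtype.ext ?_⟩
    change z * (z * v) = v
    rw [← mul_assoc, inv_sq h.hz, one_mul]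

theorem card_out : Nat.card {g : G // orderOf g = 2 ∧ g ∉ normalizer (M : Set G)} * Nat.card M +
    Nat.card (normalizer (M : Set G)) = Nat.card G := by
  have e1 := card_split (fun _ : G => True) (fun g => g ∈ normalizer (M : Set G))
  have e5 : Nat.card {x : G // True} = Nat.card G := Nat.card_congr (Equiv.subtypeUnivEquiv (fun _ => trivial))
  have e6 : Nat.card {x : G // True ∧ x ∈ normalizer (M : Set G)} = Nat.card (normalizer (M : Set G)) :=
    Nat.card_congr (Equiv.subtypeEquivRight (fun x => by simp))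
  have e7 : Nat.card {g : G // orderOf g = 2 ∧ g ∉ normalizer (M : Set G)} * Nat.card M =
      Nat.card {x : G // True ∧ ¬ x ∈ normalizer (M : Set G)} := by
    rw [← Nat.card_prod]
    refine Nat.card_congr (Equiv.ofBijective (fun x : {g : G // orderOf g = 2 ∧ g ∉ normalizer (M : Set G)} × M =>
      (⟨(x.1 : G) * x.2, trivial, h.mul_not_mem x.1.2.2 (h.M_le x.2.2)⟩ :
        {x : G // True ∧ ¬ x ∈ normalizer (M : Set G)})) ⟨?_, ?_⟩)
    · rintro ⟨⟨v, hv, hvN⟩, ⟨x, hx⟩⟩ ⟨⟨w, hw, hwN⟩, ⟨y, hy⟩⟩ hxy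
      have h1 : v * x = w * y := congrArg Subtype.val hxy
      have h2 : v = w := by
        apply h.uniq hv hw hvN
        have h3 : v * w = x * y⁻¹ := by
          have h4 : w = v * x * y⁻¹ := by rw [h1]; group
          rw [h4, ← mul_assoc, ← mul_assoc, inv_sq hv, one_mul]
        rw [h3]
        exact M.mul_mem hx (M.inv_mem hy)
      subst h2
      have h3 : x = y := mul_left_cancel h1
      subst h3
      rfl
    · rintro ⟨g, -, hg⟩
      obtain ⟨m, hm, hm2⟩ := h.exists_inv hg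
      refine ⟨⟨⟨g * m, hm2, h.mul_not_mem hg (h.M_le hm)⟩, ⟨m⁻¹, M.inv_mem hm⟩⟩, Subtype.ext ?_⟩
      change g * m * m⁻¹ = g
      rw [mul_inv_cancel_right]
  rw [e7, ← e5, e1, e6, add_comm]

/-- the numbers -/
theorem numbers (hN : normalizer (M : Set G) ≠ ⊤) {f : ℕ}
    (hf : Nat.card {α : G ⧸ normalizer (M : Set G) // z • α = α} = f) :
    ∃ k : ℕ, f = 2 ^ k ∧ 1 ≤ k ∧ Nat.card (centralizer ({z} : Set G)) = 2 * f ∧
      Nat.card G = 2 * Nat.card M * (1 + Nat.card M * (f - 1)) ∧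
      Nat.card (G ⧸ normalizer (M : Set G)) = 1 + Nat.card M * (f - 1) ∧
      Nat.card {g : G // orderOf g = 2} = Nat.card M * (2 * f - 1) ∧
      Nat.card {g : G // IsConj z g} * (2 * f) = Nat.card G ∧
      (Nat.card M = f + 1 ∨ Nat.card M = 2 * f + 1) := by
  have hE := h.card_cent hII
  have hNc := h.card_N hII
  have hP := h.card_pts2 hII
  have hJ := h.card_inv hII
  have hO := h.card_out hII
  rw [hf] at hE hP
  have hG := Subgroup.card_eq_card_quotient_mul_card_subgroup (normalizer (M : Set G))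
  rw [hP, hNc] at hG
  have hM3 := h.two_lt_card
  have hMo := h.odd_card
  set m := Nat.card M with hm
  have hf2 : 2 ≤ f := by
    obtain ⟨α, hα, hzα⟩ := h.exists_fix_z hN
    rw [← hf]
    have h1 : 1 < Nat.card {α : G ⧸ normalizer (M : Set G) // z • α = α} := by
      rw [Finite.one_lt_card_iff_nontrivial]
      refine ⟨⟨α, hzα⟩, ⟨pt M, (h.fix_pt z).mpr h.hzN⟩, ?_⟩
      intro h2
      exact hα (congrArg Subtype.val h2)
    exact h1
  obtain ⟨F, rfl⟩ : ∃ F, f = F + 1 := ⟨f - 1, by omega⟩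
  rw [Nat.add_sub_cancel] at hP hG
  have hEp : IsPGroup 2 (centralizer ({z} : Set G)) := by
    rintro ⟨g, hg⟩
    refine ⟨1, Subtype.ext ?_⟩
    change g ^ 2 ^ 1 = 1
    rw [pow_one, pow_two]
    exact h.cent_sq hII (mem_centralizer_singleton_iff.mp hg)
  have h2f : Fact (Nat.Prime 2) := ⟨Nat.prime_two⟩
  obtain ⟨n, hn⟩ := IsPGroup.iff_card.mp hEp
  have hn1 : n ≠ 0 := by
    rintro rfl
    rw [pow_zero] at hn
    omega
  obtain ⟨k, rfl⟩ : ∃ k, n = k + 1 := ⟨n - 1, by omega⟩
  have hfk : F + 1 = 2 ^ k := by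
    rw [hE, pow_succ] at hn
    omega
  have hk1 : 1 ≤ k := by
    rcases Nat.eq_zero_or_pos k with h0 | h0
    · rw [h0, pow_zero] at hfk; omega
    · exact h0
  set O := Nat.card {g : G // orderOf g = 2 ∧ g ∉ normalizer (M : Set G)} with hOdef
  have hOv : O = 2 * m * F := by
    have h1 : O * m = 2 * m * F * m := by
      rw [hNc, hG] at hO
      nlinarith
    exact Nat.eq_of_mul_eq_mul_right (by omega) h1
  have hcl := H18.CharInd.card_isConj_mul_card_centralizer z
  rw [hE] at hcl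
  have hJv : Nat.card {g : G // orderOf g = 2} = m * (2 * (F + 1) - 1) := by
    rw [hJ, hOv]
    have : 2 * (F + 1) - 1 = 2 * F + 1 := by omega
    rw [this]; ring
  have hJ1 : Nat.card {g : G // IsConj z g} ≤ Nat.card {g : G // orderOf g = 2} := by
    refine Nat.card_le_card_of_injective (fun x => ⟨x.1, ?_⟩) ?_
    · obtain ⟨c, hc⟩ := isConj_iff.mp x.2
      rw [← hc]
      exact h.conj_inv c h.hz
    · intro x y hxy
      have h2 := congrArg Subtype.val hxy
      exact Subtype.ext h2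
  set J1 := Nat.card {g : G // IsConj z g} with hJ1def
  have hJ1v : J1 * (F + 1) = m * (1 + m * F) := by
    rw [hG] at hcl
    nlinarith
  have hmle : m ≤ 2 * F + 3 := by
    rw [hJv] at hJ1
    have h1 : 2 * (F + 1) - 1 = 2 * F + 1 := by omega
    rw [h1] at hJ1
    have h2 : m * (1 + m * F) ≤ m * (2 * F + 1) * (F + 1) := by
      rw [← hJ1v]; exact Nat.mul_le_mul_right _ hJ1
    have h3 : 1 + m * F ≤ (2 * F + 1) * (F + 1) := by
      rw [mul_assoc] at h2
      exact Nat.le_of_mul_le_mul_left h2 (by omega)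
    have h4 : m * F ≤ (2 * F + 3) * F := by nlinarith
    exact Nat.le_of_mul_le_mul_right h4 (by omega)
  have hdvd : (F + 1) ∣ m - 1 := by
    have h1 : (F + 1) ∣ m * (1 + m * F) := ⟨J1, by rw [← hJ1v]; ring⟩
    have h2 : Nat.Coprime (F + 1) m := by
      rw [hfk]
      apply Nat.Coprime.pow_left
      exact (Nat.coprime_two_left).mpr hMo
    have h3 : (F + 1) ∣ 1 + m * F := h2.dvd_of_dvd_mul_left h1
    have h4 : (F + 1) ∣ m * (F + 1) - (1 + m * F) := Nat.dvd_sub (Dvd.intro_left m rfl) h3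
    have h5 : m * (F + 1) - (1 + m * F) = m - 1 := by
      have : m * (F + 1) = m * F + m := by ring
      omega
    rwa [h5] at h4
  have hcases : m = F + 1 + 1 ∨ m = 2 * (F + 1) + 1 := by
    obtain ⟨c, hc⟩ := hdvd
    have hc2 : c ≤ 2 := by
      by_contra hcon
      push Not at hcon
      have : (F + 1) * 3 ≤ (F + 1) * c := Nat.mul_le_mul_left _ hcon
      omega
    interval_cases c
    · omega
    · left; omega
    · right; omega
  refine ⟨k, hfk, hk1, hE, ?_, ?_, hJv, hcl, hcases⟩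
  · rw [hG, Nat.add_sub_cancel]; ring
  · rw [hP, Nat.add_sub_cancel]

end caseII

end Hyp

end H66.Large
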