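import Cfsg.Agent.Lib.H66.LargeD
import Cfsg.Agent.Lib.H25.ElemCent4
import Cfsg.Agent.Lib.H25.SL2Card
import Cfsg.Agent.Lib.H6.SL2Tor

/-!
Bender's theorem on groups with large TI-subgroups: the group `PSL₂(2^e)`.
-/

set_option autoImplicit false
set_option linter.unusedSectionVars false

open Subgroup MulAction

namespace H66.Large

variable {G : Type*} [Group G] [Finite G] {M : Subgroup G} {z : G}

namespace Hyp

variable (h : Hyp M z)
include h

section caseII

variable (hII : ∀ d ∈ normalizer (M : Set G), d * z = z * d → d = 1 ∨ d = z)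
include hII

theorem isPGroup_E : IsPGroup 2 (centralizer ({z} : Set G)) := by
  rintro ⟨g, hg⟩
  refine ⟨1, Subtype.ext ?_⟩
  change g ^ 2 ^ 1 = 1
  rw [pow_one, pow_two]
  exact h.cent_sq hII (mem_centralizer_singleton_iff.mp hg)

theorem comm_E {a b : G} (ha : a * z = z * a) (hb : b * z = z * b) : a * b = b * a := by
  have h1 := h.cent_sq hII ha
  have h2 := h.cent_sq hII hb
  have h3 := h.cent_sq hII (g := a * b) (by rw [mul_assoc, hb, ← mul_assoc, ha, mul_assoc])
  calc a * b = a * (a * b * (a * b)) * b := by rw [h3, mul_one]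
    _ = (a * a) * (b * a) * (b * b) := by group
    _ = b * a := by rw [h1, h2, one_mul, mul_one]

theorem psl (hN : normalizer (M : Set G) ≠ ⊤) {f : ℕ}
    (hf : Nat.card {α : G ⧸ normalizer (M : Set G) // z • α = α} = f) (hM : Nat.card M = 2 * f + 1) :
    ∃ (F : Type) (_ : Field F) (_ : Fintype F) (e : ℕ), 1 < e ∧ Fintype.card F = 2 ^ e ∧ IsCyclic ↥M ∧
      Nat.card M = 2 ^ e + 1 ∧ Nonempty (G ≃* Matrix.ProjectiveSpecialLinearGroup (Fin 2) F) := by
  classical
  obtain ⟨k, hfk, hk1, hE, hG, hP, hJ, hJ1, -⟩ := h.numbers hII hN hf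
  have hf2 : 2 ≤ f := by
    rw [hfk]
    calc 2 = 2 ^ 1 := by norm_num
      _ ≤ 2 ^ k := Nat.pow_le_pow_right (by norm_num) hk1
  have hJJ : Nat.card {g : G // IsConj z g} = Nat.card {g : G // orderOf g = 2} := by
    rw [hJ]
    rw [hG, hM] at hJ1
    rw [hM]
    obtain ⟨F, rfl⟩ : ∃ F, f = F + 1 := ⟨f - 1, by omega⟩
    rw [Nat.add_sub_cancel] at hJ1
    have e1 : 2 * (F + 1) - 1 = 2 * F + 1 := by omega
    rw [e1]
    have h1 : Nat.card {g : G // IsConj z g} * (2 * (F + 1)) =
        ((2 * (F + 1) + 1) * (2 * F + 1)) * (2 * (F + 1)) := by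
      rw [hJ1]; ring
    exact Nat.eq_of_mul_eq_mul_right (by omega) h1
  have hconj : ∀ t : G, orderOf t = 2 → IsConj z t := by
    let φ : {g : G // IsConj z g} → {g : G // orderOf g = 2} := fun x => ⟨x.1, by
      obtain ⟨c, hc⟩ := isConj_iff.mp x.2
      rw [← hc]
      exact h.conj_inv c h.hz⟩
    have hφ : Function.Injective φ := by
      intro x y hxy
      have h2 := congrArg Subtype.val hxy
      exact Subtype.ext h2
    have hbij : Function.Bijective φ := by
      rw [Nat.bijective_iff_injective_and_card]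
      exact ⟨hφ, hJJ⟩
    intro t ht
    obtain ⟨x, hx⟩ := hbij.2 ⟨t, ht⟩
    have h2 : x.1 = t := congrArg Subtype.val hx
    rw [← h2]; exact x.2
  have hzz : z ∈ centralizer ({z} : Set G) := mem_centralizer_singleton_iff.mpr rfl
  obtain ⟨T, hT⟩ := (h.isPGroup_E hII).exists_le_sylow
  have hHyp : H25.ElemCent.Hyp T := by
    refine ⟨?_, ?_, ?_⟩
    · intro hcyc
      have hc : IsCyclic (centralizer ({z} : Set G)) :=
        isCyclic_of_injective (Subgroup.inclusion hT) (Subgroup.inclusion_injective hT)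
      obtain ⟨g, hg⟩ := IsCyclic.exists_ofOrder_eq_natCard (α := centralizer ({z} : Set G))
      have h1 : orderOf g ∣ 2 := by
        apply orderOf_dvd_of_pow_eq_one
        rw [pow_two]
        exact Subtype.ext (h.cent_sq hII (mem_centralizer_singleton_iff.mp g.2))
      rw [hg, hE] at h1
      have := Nat.le_of_dvd (by norm_num) h1
      omega
    · intro hTn
      obtain ⟨m, hm, hm1⟩ := h.exists_ne
      obtain ⟨y, hy, hyz⟩ := h.exists_conj (h.mul_inv_of h.hz h.hzN hm) (mul_mem h.hzN (h.M_le hm))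
      have h1 : z ∈ (T : Subgroup G) := hT hzz
      have h2 : z * m ∈ (T : Subgroup G) := by
        rw [← hyz]; exact hTn.conj_mem _ h1 y
      have h3 : m ∈ (T : Subgroup G) := by
        have := mul_mem (inv_mem h1) h2
        rwa [inv_mul_cancel_left] at this
      obtain ⟨a, ha⟩ := T.isPGroup' ⟨m, h3⟩
      have h4 : m ^ 2 ^ a = 1 := congrArg Subtype.val ha
      have h5 : orderOf m ∣ 2 ^ a := orderOf_dvd_of_pow_eq_one h4
      have h6 : orderOf m ∣ Nat.card M := by
        have := orderOf_dvd_natCard (⟨m, hm⟩ : M)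
        rwa [Subgroup.orderOf_mk] at this
      have h7 : Nat.Coprime (2 ^ a) (Nat.card M) := Nat.Coprime.pow_left _ (Nat.coprime_two_left.mpr h.odd_card)
      have h8 : orderOf m ∣ 1 := by rw [← h7]; exact Nat.dvd_gcd h5 h6
      exact hm1 (orderOf_eq_one_iff.mp (Nat.dvd_one.mp h8))
    · intro t ht
      obtain ⟨c, hc⟩ := isConj_iff.mp (hconj t ht)
      have key : ∀ g ∈ centralizer ({t} : Set G), (c⁻¹ * g * c) * z = z * (c⁻¹ * g * c) := by
        intro g hg
        have h1 := mem_centralizer_singleton_iff.mp hg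
        rw [← hc] at h1
        calc (c⁻¹ * g * c) * z = c⁻¹ * (g * (c * z * c⁻¹)) * c := by group
          _ = c⁻¹ * ((c * z * c⁻¹) * g) * c := by rw [h1]
          _ = _ := by group
      refine ⟨⟨⟨?_⟩⟩, ?_⟩
      · rintro ⟨a, ha⟩ ⟨b, hb⟩
        apply Subtype.ext
        change a * b = b * a
        have h1 := h.comm_E hII (key a ha) (key b hb)
        have h2 : a * b = c * ((c⁻¹ * a * c) * (c⁻¹ * b * c)) * c⁻¹ := by group
        rw [h2, h1]; group
      · intro g hg
        have h1 := h.cent_sq hII (key g hg)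
        have h2 : g ^ 2 = c * ((c⁻¹ * g * c) * (c⁻¹ * g * c)) * c⁻¹ := by rw [pow_two]; group
        rw [h2, h1]; group
  obtain ⟨F, iF, iFt, hFc, ⟨iso⟩⟩ := H25.ElemCent.isPSL2 hHyp
  have hTe := H25.ElemCent.centralizer_eq hHyp (hT hzz) (inv_ne h.hz)
  have hTc : Nat.card T = 2 * f := by
    rw [← hE, hTe]
  have hFc' : Fintype.card F = 2 ^ (k + 1) := by
    rw [hFc, hTc, hfk, pow_succ]; ring
  refine ⟨F, iF, iFt, k + 1, by omega, hFc', ?_, ?_, ⟨iso⟩⟩
  · -- cyclic
    have hchar : CharP F 2 := by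
      obtain ⟨n, hn1, hn2⟩ := FiniteField.card F (ringChar F)
      have hpr : ringChar F = 2 := by
        rw [hFc'] at hn2
        have h1 : ringChar F ∣ 2 ^ (k + 1) := by
          rw [hn2]; exact dvd_pow_self _ n.ne_zero
        exact (Nat.prime_dvd_prime_iff_eq hn1 Nat.prime_two).mp (hn1.dvd_of_dvd_pow h1)
      rw [← hpr]; exact inferInstance
    have hcen := H25.SL2Card.center_SL2_char_two (K := F)
    let π : Matrix.SpecialLinearGroup (Fin 2) F →* Matrix.ProjectiveSpecialLinearGroup (Fin 2) F :=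
      QuotientGroup.mk' (Subgroup.center (Matrix.SpecialLinearGroup (Fin 2) F))
    have hπ : Function.Bijective π := by
      constructor
      · rw [← MonoidHom.ker_eq_bot_iff, QuotientGroup.ker_mk']
        exact hcen
      · exact QuotientGroup.mk'_surjective _
    let e2 := MulEquiv.ofBijective π hπ
    let φ : M →* Matrix.SpecialLinearGroup (Fin 2) F := (e2.symm.toMonoidHom).comp (iso.toMonoidHom.comp M.subtype)
    have hφ : Function.Injective φ := e2.symm.injective.comp (iso.injective.comp M.subtype_injective)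
    apply H6.SL2Tor.isCyclic_of_comm φ hφ
    · rw [Ne, CharP.cast_eq_zero_iff F 2]
      intro h1
      have := h.odd_card
      rw [← Nat.not_even_iff_odd] at this
      exact this (even_iff_two_dvd.mpr h1)
    · intro a b
      exact Subtype.ext (h.comm a.2 b.2)
  · rw [hM, hfk, pow_succ]; ring

end caseII

end Hyp

end H66.Large
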