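import Mathlib.Topology.Compactification.OnePoint.ProjectiveLine
import Mathlib.LinearAlgebra.Matrix.ProjectiveSpecialLinearGroup
import Mathlib.GroupTheory.QuotientGroup.Basic
import Mathlib.Tactic

/-!
Recognition of `PGL₂(K)` from its action on the projective line.
-/

set_option autoImplicit false

open Matrix Equiv

namespace H66.PGLRecog

variable {K : Type*} [Field K] [DecidableEq K]

/-- translation -/
def tr (b : K) : Perm (Option K) where
  toFun x := x.map (fun y => b + y)
  invFun x := x.map (fun y => -b + y)
  left_inv x := by cases x <;> simp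
  right_inv x := by cases x <;> simp

/-- multiplication -/
def mu (a : Kˣ) : Perm (Option K) where
  toFun x := x.map (fun y => a * y)
  invFun x := x.map (fun y => a⁻¹ * y)
  left_inv x := by cases x <;> simp
  right_inv x := by cases x <;> simp

@[simp] theorem tr_none (b : K) : tr b none = none := rfl
@[simp] theorem tr_some (b x : K) : tr b (some x) = some (b + x) := rfl
@[simp] theorem mu_none (a : Kˣ) : mu a none = none := rfl
@[simp] theorem mu_some (a : Kˣ) (x : K) : mu a (some x) = some (a * x) := rfl

theorem tr_inv (b : K) : (tr b)⁻¹ = tr (-b) := by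
  apply Equiv.ext
  intro x
  rw [Perm.inv_eq_iff_eq]
  cases x <;> simp

theorem iso {G : Type*} [Group G] (ψ : G →* Perm (Option K)) (hinj : Function.Injective ψ)
    (htr : ∀ b : K, tr b ∈ ψ.range) (hall : ∀ a : Kˣ, mu a ∈ ψ.range) {w : Perm (Option K)} (hw : w ∈ ψ.range)
    (hw0 : w none = some 0) (hw1 : w (some 0) = none) (hw2 : ∀ x : K, x ≠ 0 → w (some x) = some (-x⁻¹))
    (haff : ∀ h ∈ ψ.range, h none = none → ∃ (b : K) (a : Kˣ), h = tr b * mu a) :
    Nonempty (G ≃* (GL (Fin 2) K ⧸ Subgroup.center (GL (Fin 2) K))) := by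
  let ρ : GL (Fin 2) K →* Perm (Option K) := MulAction.toPermHom (GL (Fin 2) K) (OnePoint K)
  have hρ0 : ∀ g : GL (Fin 2) K, ρ g none = if g 1 0 = 0 then none else some (g 0 0 / g 1 0) :=
    fun g => OnePoint.smul_infty_eq_ite g
  have hρ1 : ∀ (g : GL (Fin 2) K) (k : K), ρ g (some k) = if g 1 0 * k + g 1 1 = 0 then none else
      some ((g 0 0 * k + g 0 1) / (g 1 0 * k + g 1 1)) := fun g k => OnePoint.smul_some_eq_ite
  have hker : ρ.ker = Subgroup.center (GL (Fin 2) K) := by
    ext g
    rw [MonoidHom.mem_ker, Matrix.GeneralLinearGroup.mem_center_iff_val_mem_range_scalar]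
    constructor
    · intro h
      have h1 : ρ g none = none := by rw [h]; rfl
      have h2 : ρ g (some 0) = some 0 := by rw [h]; rfl
      have h3 : ρ g (some 1) = some 1 := by rw [h]; rfl
      rw [hρ0] at h1
      have c0 : g 1 0 = 0 := by
        by_contra hc
        rw [if_neg hc] at h1
        simp at h1
      rw [hρ1, c0, zero_mul, zero_add] at h2 h3
      have hdet := g.det_ne_zero
      rw [Matrix.det_fin_two, c0, mul_zero, sub_zero] at hdet
      have d0 : g 1 1 ≠ 0 := right_ne_zero_of_mul hdet
      rw [if_neg d0] at h2 h3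
      have h2' := Option.some.inj h2
      have h3' := Option.some.inj h3
      rw [div_eq_iff d0] at h2' h3'
      rw [mul_zero, zero_add, zero_mul] at h2'
      rw [h2', mul_one, add_zero, one_mul] at h3'
      refine ⟨g 0 0, ?_⟩
      ext i j
      fin_cases i <;> fin_cases j <;> simp [c0, h2', h3']
    · rintro ⟨r, hr⟩
      have e00 : g 0 0 = r := by rw [← hr]; simp
      have e11 : g 1 1 = r := by rw [← hr]; simp
      have e01 : g 0 1 = 0 := by rw [← hr]; simp
      have e10 : g 1 0 = 0 := by rw [← hr]; simp
      have hdet := g.det_ne_zero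
      rw [Matrix.det_fin_two, e10, mul_zero, sub_zero, e00] at hdet
      have hr0 : r ≠ 0 := left_ne_zero_of_mul hdet
      apply Equiv.ext
      intro x
      cases x with
      | none => rw [hρ0, if_pos e10]; rfl
      | some x =>
        rw [hρ1, e10, e11, e00, e01, zero_mul, zero_add, if_neg hr0, add_zero,
          mul_div_cancel_left₀ x hr0]
        rfl
  have hT : ∀ b : K, tr b ∈ ρ.range := by
    intro b
    refine ⟨Matrix.GeneralLinearGroup.mkOfDetNeZero !![1, b; 0, 1]
      (by simp [Matrix.det_fin_two]), ?_⟩
    apply Equiv.ext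
    intro x
    cases x with
    | none => rw [hρ0]; simp [Matrix.GeneralLinearGroup.mkOfDetNeZero]
    | some x => rw [hρ1]; simp [Matrix.GeneralLinearGroup.mkOfDetNeZero, add_comm]
  have hM : ∀ a : Kˣ, mu a ∈ ρ.range := by
    intro a
    refine ⟨Matrix.GeneralLinearGroup.mkOfDetNeZero !![(a : K), 0; 0, 1]
      (by simp [Matrix.det_fin_two]), ?_⟩
    apply Equiv.ext
    intro x
    cases x with
    | none => rw [hρ0]; simp [Matrix.GeneralLinearGroup.mkOfDetNeZero]
    | some x => rw [hρ1]; simp [Matrix.GeneralLinearGroup.mkOfDetNeZero]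
  have hW : w ∈ ρ.range := by
    refine ⟨Matrix.GeneralLinearGroup.mkOfDetNeZero !![0, -1; 1, 0]
      (by simp [Matrix.det_fin_two]), ?_⟩
    apply Equiv.ext
    intro x
    cases x with
    | none => rw [hρ0, hw0]; simp [Matrix.GeneralLinearGroup.mkOfDetNeZero]
    | some x =>
      rw [hρ1]
      by_cases hx : x = 0
      · rw [hx, hw1]; simp [Matrix.GeneralLinearGroup.mkOfDetNeZero]
      · rw [hw2 x hx]
        simp [Matrix.GeneralLinearGroup.mkOfDetNeZero, hx]
        field_simp
  have hrange : ρ.range = ψ.range := by
    apply le_antisymm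
    · rintro _ ⟨g, rfl⟩
      have hdet := g.det_ne_zero
      rw [Matrix.det_fin_two] at hdet
      by_cases hc : g 1 0 = 0
      · rw [hc, mul_zero, sub_zero] at hdet
        have d0 : g 1 1 ≠ 0 := right_ne_zero_of_mul hdet
        have a0 : g 0 0 ≠ 0 := left_ne_zero_of_mul hdet
        have : ρ g = tr (g 0 1 / g 1 1) * mu (Units.mk0 (g 0 0 / g 1 1) (div_ne_zero a0 d0)) := by
          apply Equiv.ext
          intro x
          cases x with
          | none => rw [hρ0, if_pos hc]; rfl
          | some x =>
            rw [hρ1, hc, zero_mul, zero_add, if_neg d0, Perm.mul_apply, mu_some, tr_some,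
              Units.val_mk0]
            congr 1
            field_simp
            ring
        rw [this]
        exact mul_mem (htr _) (hall _)
      · set D := g 0 0 * g 1 1 - g 0 1 * g 1 0 with hD
        have : ρ g = tr (g 0 0 / g 1 0) * w * (tr (g 1 0 * g 1 1 / D) *
            mu (Units.mk0 (g 1 0 ^ 2 / D) (div_ne_zero (pow_ne_zero 2 hc) hdet))) := by
          apply Equiv.ext
          intro x
          simp only [Perm.mul_apply]
          cases x with
          | none => rw [hρ0, if_neg hc, mu_none, tr_none, hw0, tr_some, add_zero]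
          | some x =>
            rw [hρ1, mu_some, tr_some, Units.val_mk0]
            have e1 : g 1 0 * g 1 1 / D + g 1 0 ^ 2 / D * x = g 1 0 * (g 1 0 * x + g 1 1) / D := by
              field_simp
              ring
            rw [e1]
            by_cases hz : g 1 0 * x + g 1 1 = 0
            · rw [if_pos hz, hz, mul_zero, zero_div, hw1, tr_none]
            · rw [if_neg hz, hw2 _ (div_ne_zero (mul_ne_zero hc hz) hdet), tr_some]
              congr 1
              obtain ⟨y, hy⟩ : ∃ y, y = g 1 0 * x + g 1 1 := ⟨_, rfl⟩
              rw [← hy] at hz ⊢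
              clear_value D
              field_simp
              linear_combination hD - g 0 0 * hy
        rw [this]
        exact mul_mem (mul_mem (htr _) hw) (mul_mem (htr _) (hall _))
    · intro h hh
      have hstab : ∀ h ∈ ψ.range, h none = none → h ∈ ρ.range := by
        intro h hh h0
        obtain ⟨b, a, e⟩ := haff h hh h0
        rw [e]
        exact mul_mem (hT b) (hM a)
      by_cases h0 : h none = none
      · exact hstab h hh h0
      · obtain ⟨y, hy⟩ := Option.ne_none_iff_exists'.1 h0
        have h3 := hstab (w⁻¹ * tr (-y) * h)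
          (mul_mem (mul_mem (inv_mem hw) (htr _)) hh) (by
            simp only [Perm.mul_apply, hy, tr_some, neg_add_cancel]
            rw [← hw0]; simp)
        have : h = (tr (-y))⁻¹ * w * (w⁻¹ * tr (-y) * h) := by group
        rw [this]
        exact mul_mem (mul_mem (inv_mem (hT _)) hW) h3
  exact ⟨((MonoidHom.ofInjective hinj).trans (MulEquiv.subgroupCongr hrange.symm)).trans
    ((QuotientGroup.quotientMulEquivOfEq hker.symm).trans
      (QuotientGroup.quotientKerEquivRange ρ)).symm⟩

end H66.PGLRecog
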