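import Cfsg.Agent.Lib.H66.Weights
import Cfsg.Agent.Lib.H1.Coprime2

/-!
Groups `Q` of class at most two and the radical of the commutator form attached to a character of the centre.
-/

set_option autoImplicit false

open scoped commutatorElement
open Subgroup H66.Weights H66.Crit

namespace H66.Rad

variable {K V X : Type*} [Field K] [AddCommGroup V] [Module K V] [Group X]

section

variable {Q : Subgroup X} (hQQ : ⁅Q, Q⁆ ≤ Q ⊓ centralizer (Q : Set X))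
include hQQ

theorem comm_mem {x y : X} (hx : x ∈ Q) (hy : y ∈ Q) : ⁅x, y⁆ ∈ Q ⊓ centralizer (Q : Set X) :=
  hQQ (commutator_mem_commutator hx hy)

theorem comm_central {x y z : X} (hx : x ∈ Q) (hy : y ∈ Q) (hz : z ∈ Q) : z * ⁅x, y⁆ = ⁅x, y⁆ * z :=
  mem_centralizer_iff.mp (comm_mem hQQ hx hy).2 z hz

theorem comm_mul_left {x x' y : X} (hx : x ∈ Q) (hx' : x' ∈ Q) (hy : y ∈ Q) :
    ⁅x * x', y⁆ = ⁅x, y⁆ * ⁅x', y⁆ := by
  have h1 : ⁅x * x', y⁆ = (x * ⁅x', y⁆) * x⁻¹ * ⁅x, y⁆ := by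
    simp only [commutatorElement_def]; group
  rw [h1, comm_central hQQ hx' hy hx, mul_inv_cancel_right]
  have h2 := comm_central hQQ hx' hy (comm_mem hQQ hx hy).1
  exact h2.symm

theorem comm_inv_left {x y : X} (hx : x ∈ Q) (hy : y ∈ Q) : ⁅x⁻¹, y⁆ = ⁅x, y⁆⁻¹ := by
  have h1 := comm_mul_left hQQ hx (Q.inv_mem hx) hy
  rw [mul_inv_cancel, commutatorElement_one_left] at h1
  exact eq_inv_of_mul_eq_one_right h1.symm

theorem comm_mul_right {x y y' : X} (hx : x ∈ Q) (hy : y ∈ Q) (hy' : y' ∈ Q) :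
    ⁅x, y * y'⁆ = ⁅x, y⁆ * ⁅x, y'⁆ := by
  have h1 := comm_mul_left hQQ hy hy' hx
  rw [← commutatorElement_inv (y * y') x, h1, mul_inv_rev, commutatorElement_inv, commutatorElement_inv]
  have h2 := comm_central hQQ hx hy' (comm_mem hQQ hx hy).1
  exact h2.symm

end

variable {Q : Subgroup X} {χ : X → K}

/-- the radical -/
def rad (hQQ : ⁅Q, Q⁆ ≤ Q ⊓ centralizer (Q : Set X))
    (hχ : IsChar (Q ⊓ centralizer (Q : Set X)) χ) : Subgroup X where
  carrier := {x | x ∈ Q ∧ ∀ y ∈ Q, χ ⁅x, y⁆ = 1}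
  one_mem' := ⟨one_mem Q, by intro y _; rw [commutatorElement_one_left]; exact hχ.one⟩
  mul_mem' := by
    rintro x x' ⟨hx, h1⟩ ⟨hx', h2⟩
    refine ⟨mul_mem hx hx', ?_⟩
    intro y hy
    rw [comm_mul_left hQQ hx hx' hy, hχ.mul _ (comm_mem hQQ hx hy) _ (comm_mem hQQ hx' hy), h1 y hy,
      h2 y hy, one_mul]
  inv_mem' := by
    rintro x ⟨hx, h1⟩
    refine ⟨inv_mem hx, ?_⟩
    intro y hy
    rw [comm_inv_left hQQ hx hy]
    have h2 := hχ.mul_inv (comm_mem hQQ hx hy)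
    rwa [h1 y hy, one_mul] at h2

variable (hQQ : ⁅Q, Q⁆ ≤ Q ⊓ centralizer (Q : Set X)) (hχ : IsChar (Q ⊓ centralizer (Q : Set X)) χ)

theorem mem_rad {x : X} : x ∈ rad hQQ hχ ↔ x ∈ Q ∧ ∀ y ∈ Q, χ ⁅x, y⁆ = 1 := Iff.rfl

theorem rad_le : rad hQQ hχ ≤ Q := fun _ h => h.1

theorem center_le : Q ⊓ centralizer (Q : Set X) ≤ rad hQQ hχ := by
  intro x hx
  refine ⟨hx.1, ?_⟩
  intro y hy
  have h1 : ⁅x, y⁆ = 1 := by
    rw [commutatorElement_eq_one_iff_mul_comm]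
    exact (mem_centralizer_iff.mp hx.2 y hy).symm
  rw [h1, hχ.one]

theorem char_comm {x y : X} (hx : x ∈ rad hQQ hχ) (hy : y ∈ Q) : χ ⁅x, y⁆ = 1 := hx.2 y hy

theorem char_comm' {x y : X} (hx : x ∈ rad hQQ hχ) (hy : y ∈ Q) : χ ⁅y, x⁆ = 1 := by
  have h1 := hχ.mul_inv (comm_mem hQQ hx.1 hy)
  rw [hx.2 y hy, one_mul, commutatorElement_inv] at h1
  exact h1

theorem le_normalizer_rad : Q ≤ normalizer (rad hQQ hχ : Set X) := by
  apply H1.Coprime.le_normalizer_of_conj_mem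
  intro y hy x hx
  have h1 : y * x * y⁻¹ = ⁅y, x⁆ * x := by rw [commutatorElement_def]; group
  rw [h1]
  exact mul_mem (center_le hQQ hχ (comm_mem hQQ hy hx.1)) hx

theorem mem_normalizer_rad {a : X} (ha : a ∈ normalizer (Q : Set X))
    (hst : ∀ b ∈ Q ⊓ centralizer (Q : Set X), χ (a⁻¹ * b * a) = χ b) : a ∈ normalizer (rad hQQ hχ : Set X) := by
  rw [mem_normalizer_iff]
  have haQ : ∀ x, x ∈ Q ↔ a * x * a⁻¹ ∈ Q := mem_normalizer_iff.mp ha
  have haQ' : ∀ x, x ∈ Q → a⁻¹ * x * a ∈ Q := by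
    intro x hx
    rw [haQ]
    have : a * (a⁻¹ * x * a) * a⁻¹ = x := by group
    rwa [this]
  intro x
  constructor
  · rintro ⟨hx, h1⟩
    refine ⟨(haQ x).mp hx, ?_⟩
    intro y hy
    have h2 := h1 _ (haQ' y hy)
    rw [← hst _ (comm_mem hQQ ((haQ x).mp hx) hy), ← h2]
    congr 1
    simp only [commutatorElement_def]; group
  · rintro ⟨hx, h1⟩
    have hx' : x ∈ Q := (haQ x).mpr hx
    refine ⟨hx', ?_⟩
    intro y hy
    have h2 := h1 _ ((haQ y).mp hy)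
    rw [← hst _ (comm_mem hQQ hx ((haQ y).mp hy))] at h2
    rw [← h2]
    congr 1
    simp only [commutatorElement_def]; group

variable {ρ : Representation K X V}

/-- the weight space of the centre is `Q`-invariant -/
theorem wt_center_inv {x : X} (hx : x ∈ Q) {v : V} (hv : v ∈ wt ρ (Q ⊓ centralizer (Q : Set X)) χ) :
    ρ x v ∈ wt ρ (Q ⊓ centralizer (Q : Set X)) χ := by
  intro b hb
  have h1 : b * x = x * b := (mem_centralizer_iff.mp hb.2 x hx).symm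
  rw [← Module.End.mul_apply, ← map_mul, h1, map_mul, Module.End.mul_apply, hv b hb, map_smul]

include hQQ hχ in
/-- elements of the radical commute with `Q` on the weight space. -/
theorem commute_on {b x : X} (hb : b ∈ rad hQQ hχ) (hx : x ∈ Q) {v : V}
    (hv : v ∈ wt ρ (Q ⊓ centralizer (Q : Set X)) χ) : ρ b (ρ x v) = ρ x (ρ b v) := by
  have h1 : b * x = ⁅b, x⁆ * (x * b) := by rw [commutatorElement_def]; group
  have h2 : ρ x (ρ b v) ∈ wt ρ (Q ⊓ centralizer (Q : Set X)) χ := wt_center_inv hx (wt_center_inv hb.1 hv)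
  calc ρ b (ρ x v) = ρ (b * x) v := by rw [map_mul]; rfl
    _ = ρ ⁅b, x⁆ (ρ x (ρ b v)) := by rw [h1, map_mul, map_mul]; rfl
    _ = ρ x (ρ b v) := by
      rw [h2 _ (comm_mem hQQ hb.1 hx), hb.2 x hx, one_smul]

/-- the space `W_μ` -/
def W (ρ : Representation K X V) (hQQ : ⁅Q, Q⁆ ≤ Q ⊓ centralizer (Q : Set X))
    (hχ : IsChar (Q ⊓ centralizer (Q : Set X)) χ) (μ : X → K) : Submodule K V :=
  wt ρ (rad hQQ hχ) μ ⊓ wt ρ (Q ⊓ centralizer (Q : Set X)) χ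

theorem W_inv {μ : X → K} {x : X} (hx : x ∈ Q) {v : V} (hv : v ∈ W ρ hQQ hχ μ) : ρ x v ∈ W ρ hQQ hχ μ := by
  refine ⟨?_, wt_center_inv hx hv.2⟩
  intro b hb
  rw [commute_on hQQ hχ hb hx hv.2, hv.1 b hb, map_smul]

/-- existence of `μ` -/
theorem exists_mu [IsAlgClosed K] [FiniteDimensional K V] [Finite X]
    (h : wt ρ (Q ⊓ centralizer (Q : Set X)) χ ≠ ⊥) : ∃ μ : X → K, W ρ hQQ hχ μ ≠ ⊥ :=
  exists_weight (B := rad hQQ hχ) h (fun b hb w hw => wt_center_inv hb.1 hw)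
    (fun b hb c hc w hw => commute_on hQQ hχ hb hc.1 hw)

theorem cdata {μ : X → K} (h : W ρ hQQ hχ μ ≠ ⊥) [Finite X] : CData ρ (W ρ hQQ hχ μ) Q (rad hQQ hχ) where
  inv := fun x hx w hw => W_inv hQQ hχ hx hw
  le := rad_le hQQ hχ
  scal := fun z hz => ⟨μ z, fun w hw => hw.1 z hz⟩
  comm := fun x hx y hy => center_le hQQ hχ (comm_mem hQQ hx hy)
  nondeg := by
    intro x hx h1
    refine ⟨hx, ?_⟩
    intro y hy
    obtain ⟨v, hv, hv0⟩ := (Submodule.ne_bot_iff _).mp h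
    have h2 := h1 y hy v hv
    rw [hv.2 _ (comm_mem hQQ hx hy)] at h2
    exact smul_right_cancel' hv0 (by rw [one_smul]; exact h2)

/-- if `χ` is nontrivial on `⁅Q, Q⁆` then the radical is proper. -/
theorem rad_ne (h : ∃ b ∈ ⁅Q, Q⁆, χ b ≠ 1) : rad hQQ hχ ≠ Q := by
  intro hcon
  obtain ⟨b, hb, hne⟩ := h
  apply hne
  let S : Subgroup X :=
    { carrier := {b | b ∈ Q ⊓ centralizer (Q : Set X) ∧ χ b = 1}
      one_mem' := ⟨one_mem _, hχ.one⟩
      mul_mem' := by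
        rintro a c ⟨ha, h1⟩ ⟨hc, h2⟩
        exact ⟨mul_mem ha hc, by rw [hχ.mul a ha c hc, h1, h2, one_mul]⟩
      inv_mem' := by
        rintro a ⟨ha, h1⟩
        refine ⟨inv_mem ha, ?_⟩
        have := hχ.mul_inv ha
        rwa [h1, one_mul] at this }
  have h1 : ⁅Q, Q⁆ ≤ S := by
    rw [commutator_le]
    intro x hx y hy
    refine ⟨comm_mem hQQ hx hy, ?_⟩
    rw [← hcon] at hx
    exact hx.2 y hy
  exact (h1 hb).2

/-- triviality of a character on commutators with its stabilizer -/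
theorem trivial_on_commutator {B D : Subgroup X} (h : IsChar B χ)
    (hDB : D ≤ normalizer (B : Set X)) (hst : ∀ d ∈ D, ∀ b ∈ B, χ (d⁻¹ * b * d) = χ b) {b : X}
    (hb : b ∈ ⁅B, D⁆) : χ b = 1 := by
  let S : Subgroup X :=
    { carrier := {b | b ∈ B ∧ χ b = 1}
      one_mem' := ⟨one_mem _, h.one⟩
      mul_mem' := by
        rintro a c ⟨ha, h1⟩ ⟨hc, h2⟩
        exact ⟨mul_mem ha hc, by rw [h.mul a ha c hc, h1, h2, one_mul]⟩
      inv_mem' := by
        rintro a ⟨ha, h1⟩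
        refine ⟨inv_mem ha, ?_⟩
        have := h.mul_inv ha
        rwa [h1, one_mul] at this }
  have h1 : ⁅B, D⁆ ≤ S := by
    rw [commutator_le]
    intro x hx d hd
    have h2 : d * x⁻¹ * d⁻¹ ∈ B := (mem_normalizer_iff.mp (hDB hd) _).mp (B.inv_mem hx)
    have h3 : ⁅x, d⁆ = x * (d * x⁻¹ * d⁻¹) := by rw [commutatorElement_def]; group
    have h4 := hst d⁻¹ (D.inv_mem hd) x⁻¹ (B.inv_mem hx)
    rw [inv_inv] at h4
    refine ⟨by rw [h3]; exact mul_mem hx h2, ?_⟩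
    rw [h3, h.mul x hx _ h2, h4, h.mul_inv hx]
  exact (h1 hb).2

end H66.Rad
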