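import Cfsg.Agent.Lib.H66.Crit3

/-!
Weight spaces of subgroups in representations, and the orbit lemma for a group without fixed vectors
permuting weights.
-/

set_option autoImplicit false

open scoped commutatorElement
open Module

namespace H66.Weights

variable {K V Γ : Type*} [Field K] [AddCommGroup V] [Module K V] [Group Γ]
  (ρ : Representation K Γ V)

/-- weight space -/
def wt (B : Subgroup Γ) (χ : Γ → K) : Submodule K V where
  carrier := {v | ∀ b ∈ B, ρ b v = χ b • v}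
  zero_mem' := by intro b _; simp
  add_mem' := by
    intro v w hv hw b hb
    rw [map_add, hv b hb, hw b hb, smul_add]
  smul_mem' := by
    intro c v hv b hb
    rw [map_smul, hv b hb, smul_comm]

variable {ρ} {B : Subgroup Γ} {χ : Γ → K}

theorem mem_wt {v : V} : v ∈ wt ρ B χ ↔ ∀ b ∈ B, ρ b v = χ b • v := Iff.rfl

theorem smul_right_cancel' {v : V} (hv : v ≠ 0) {a b : K} (h : a • v = b • v) : a = b := by
  have h1 : (a - b) • v = 0 := by rw [sub_smul, h, sub_self]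
  exact sub_eq_zero.mp ((smul_eq_zero.mp h1).resolve_right hv)

/-- weights are multiplicative -/
structure IsChar (B : Subgroup Γ) (χ : Γ → K) : Prop where
  one : χ 1 = 1
  mul : ∀ b ∈ B, ∀ c ∈ B, χ (b * c) = χ b * χ c

theorem isChar_of_mem {v : V} (hv : v ∈ wt ρ B χ) (hv0 : v ≠ 0) : IsChar B χ where
  one := by
    have h1 := hv 1 (one_mem B)
    rw [map_one, Module.End.one_apply] at h1
    exact (smul_right_cancel' hv0 (by rw [one_smul]; exact h1)).symm
  mul := by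
    intro b hb c hc
    have h1 := hv _ (mul_mem hb hc)
    rw [map_mul, Module.End.mul_apply, hv c hc, map_smul, hv b hb, smul_smul] at h1
    rw [mul_comm (χ b)]
    exact (smul_right_cancel' hv0 h1).symm

theorem isChar_of_ne_bot (h : wt ρ B χ ≠ ⊥) : IsChar B χ := by
  obtain ⟨v, hv, hv0⟩ := (Submodule.ne_bot_iff _).mp h
  exact isChar_of_mem hv hv0

theorem IsChar.inv_mul (h : IsChar B χ) {b : Γ} (hb : b ∈ B) : χ b⁻¹ * χ b = 1 := by
  rw [← h.mul _ (inv_mem hb) _ hb, inv_mul_cancel, h.one]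

theorem IsChar.mul_inv (h : IsChar B χ) {b : Γ} (hb : b ∈ B) : χ b * χ b⁻¹ = 1 := by
  rw [← h.mul _ hb _ (inv_mem hb), mul_inv_cancel, h.one]

theorem IsChar.ne_zero (h : IsChar B χ) {b : Γ} (hb : b ∈ B) : χ b ≠ 0 := by
  intro h0
  have := h.mul_inv hb
  rw [h0, zero_mul] at this
  exact zero_ne_one this

theorem IsChar.comm (h : IsChar B χ) {b c : Γ} (hb : b ∈ B) (hc : c ∈ B) : χ ⁅b, c⁆ = 1 := by
  rw [commutatorElement_def, h.mul _ (mul_mem (mul_mem hb hc) (inv_mem hb)) _ (inv_mem hc),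
    h.mul _ (mul_mem hb hc) _ (inv_mem hb), h.mul _ hb _ hc]
  have h1 := h.mul_inv hb
  have h2 := h.mul_inv hc
  calc χ b * χ c * χ b⁻¹ * χ c⁻¹ = (χ b * χ b⁻¹) * (χ c * χ c⁻¹) := by ring
    _ = 1 := by rw [h1, h2, one_mul]

/-- existence of weights -/
theorem exists_weight [IsAlgClosed K] [FiniteDimensional K V] [Finite Γ] {W : Submodule K V} (hW : W ≠ ⊥)
    (hinv : ∀ b ∈ B, ∀ w ∈ W, ρ b w ∈ W)
    (hcomm : ∀ b ∈ B, ∀ c ∈ B, ∀ w ∈ W, ρ b (ρ c w) = ρ c (ρ b w)) :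
    ∃ χ : Γ → K, wt ρ B χ ⊓ W ≠ ⊥ := by
  classical
  obtain ⟨U, hUW, hU, hUinv, hUmin⟩ := H66.Crit.exists_minimal ρ (B : Set Γ) W hW hinv
  have hscal : ∀ b ∈ B, ∃ c : K, ∀ u ∈ U, ρ b u = c • u := by
    intro b hb
    have : Nontrivial U := by
      obtain ⟨v, hv, hv0⟩ := (Submodule.ne_bot_iff _).mp hU
      exact ⟨⟨⟨v, hv⟩, 0, fun h => hv0 (congrArg Subtype.val h)⟩⟩
    let f : Module.End K U := (ρ b).restrict (hUinv b hb)
    obtain ⟨c, hc⟩ := Module.End.exists_eigenvalue f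
    refine ⟨c, ?_⟩
    let U' : Submodule K V := (Module.End.eigenspace f c).map U.subtype
    have hU' : U' ≠ ⊥ := by
      obtain ⟨v, hv⟩ := hc.exists_hasEigenvector
      have hv1 : v ≠ 0 := hv.2
      rw [Submodule.ne_bot_iff]
      exact ⟨v, ⟨v, hv.1, rfl⟩, fun h => hv1 (Subtype.ext h)⟩
    rcases hUmin U' (Submodule.map_subtype_le U _) (by
      rintro x hx w ⟨v, hv, rfl⟩
      refine ⟨⟨ρ x v, hUinv x hx v v.2⟩, ?_, rfl⟩
      rw [SetLike.mem_coe, Module.End.mem_eigenspace_iff] at hv ⊢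
      apply Subtype.ext
      change ρ b (ρ x v) = c • ρ x v
      rw [hcomm b hb x hx v (hUW v.2)]
      have h1 : ρ b v = c • (v : V) := congrArg Subtype.val hv
      rw [h1, map_smul]) with h | h
    · exact absurd h hU'
    · intro u hu
      rw [← h] at hu
      obtain ⟨v, hv, rfl⟩ := hu
      rw [SetLike.mem_coe, Module.End.mem_eigenspace_iff] at hv
      exact congrArg Subtype.val hv
  choose! χ hχ using hscal
  refine ⟨χ, ?_⟩
  obtain ⟨v, hv, hv0⟩ := (Submodule.ne_bot_iff _).mp hU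
  rw [Submodule.ne_bot_iff]
  exact ⟨v, ⟨fun b hb => hχ b hb v hv, hUW hv⟩, hv0⟩

/-- projection onto a weight space (up to the factor `|B|`) -/
noncomputable def proj (ρ : Representation K Γ V) (B : Subgroup Γ) [Fintype B] (χ : Γ → K) : Module.End K V :=
  ∑ b : B, χ (b : Γ)⁻¹ • ρ (b : Γ)

theorem proj_of_mem [Fintype B] (h : IsChar B χ) {v : V} (hv : v ∈ wt ρ B χ) :
    proj ρ B χ v = (Fintype.card B : K) • v := by
  rw [proj, LinearMap.sum_apply]
  have h1 : ∀ b : B, (χ (b : Γ)⁻¹ • ρ (b : Γ)) v = v := by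
    intro b
    rw [LinearMap.smul_apply, hv b b.2, smul_smul, h.inv_mul b.2, one_smul]
  rw [Finset.sum_congr rfl (fun b _ => h1 b), Finset.sum_const, Finset.card_univ, Nat.cast_smul_eq_nsmul]

theorem proj_of_mem' [Fintype B] (h : IsChar B χ) {χ' : Γ → K} {v : V} (hv : v ∈ wt ρ B χ') {c : Γ}
    (hc : c ∈ B) (hne : χ c ≠ χ' c) : proj ρ B χ v = 0 := by
  by_cases hv0 : v = 0
  · rw [hv0, map_zero]
  have h' := isChar_of_mem hv hv0
  rw [proj, LinearMap.sum_apply]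
  have h1 : ∀ b : B, (χ (b : Γ)⁻¹ • ρ (b : Γ)) v = (χ (b : Γ)⁻¹ * χ' b) • v := by
    intro b
    rw [LinearMap.smul_apply, hv b b.2, smul_smul]
  rw [Finset.sum_congr rfl (fun b _ => h1 b), ← Finset.sum_smul]
  have h2 : χ c⁻¹ * χ' c * ∑ b : B, χ (b : Γ)⁻¹ * χ' b = ∑ b : B, χ (b : Γ)⁻¹ * χ' b := by
    rw [Finset.mul_sum]
    refine Fintype.sum_equiv (Equiv.mulLeft (⟨c, hc⟩ : B)) _ _ ?_
    intro b
    simp only [Equiv.coe_mulLeft, Subgroup.coe_mul, mul_inv_rev]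
    rw [h.mul _ (inv_mem b.2) _ (inv_mem hc), h'.mul _ hc _ b.2]
    ring
  have h3 : (χ c⁻¹ * χ' c - 1) * ∑ b : B, χ (b : Γ)⁻¹ * χ' b = 0 := by
    rw [sub_mul, h2, one_mul, sub_self]
  have h4 : χ c⁻¹ * χ' c - 1 ≠ 0 := by
    intro h5
    apply hne
    have h6 : χ c⁻¹ * χ' c = 1 := sub_eq_zero.mp h5
    calc χ c = χ c * (χ c⁻¹ * χ' c) := by rw [h6, mul_one]
      _ = χ' c := by rw [← mul_assoc, h.mul_inv hc, one_mul]
  rw [(mul_eq_zero.mp h3).resolve_left h4, zero_smul]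

/-- moving weight spaces -/
theorem map_wt {a : Γ} (ha : a ∈ Subgroup.normalizer (B : Set Γ)) {v : V} (hv : v ∈ wt ρ B χ) :
    ρ a v ∈ wt ρ B (fun b => χ (a⁻¹ * b * a)) := by
  intro b hb
  have h1 : b * a = a * (a⁻¹ * b * a) := by group
  have h2 : a⁻¹ * b * a ∈ B := by
    have := (Subgroup.mem_normalizer_iff.mp (inv_mem ha) b).mp hb
    rwa [inv_inv] at this
  rw [← Module.End.mul_apply, ← map_mul, h1, map_mul, Module.End.mul_apply, hv _ h2, map_smul]

theorem wt_congr {χ' : Γ → K} (h : ∀ b ∈ B, χ b = χ' b) : wt ρ B χ = wt ρ B χ' := by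
  ext v
  rw [mem_wt, mem_wt]
  constructor
  · intro hv b hb; rw [hv b hb, h b hb]
  · intro hv b hb; rw [hv b hb, h b hb]

/-- stabilizer of a weight in `A` -/
def stb (A B : Subgroup Γ) (hAB : A ≤ Subgroup.normalizer (B : Set Γ)) (χ : Γ → K) : Subgroup Γ where
  carrier := {a | a ∈ A ∧ ∀ b ∈ B, χ (a⁻¹ * b * a) = χ b}
  one_mem' := ⟨one_mem A, by intro b _; simp⟩
  mul_mem' := by
    rintro a c ⟨ha, ha'⟩ ⟨hc, hc'⟩
    refine ⟨mul_mem ha hc, ?_⟩
    intro b hb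
    have h1 : (a * c)⁻¹ * b * (a * c) = c⁻¹ * (a⁻¹ * b * a) * c := by group
    have h2 : a⁻¹ * b * a ∈ B := by
      have := (Subgroup.mem_normalizer_iff.mp (inv_mem (hAB ha)) b).mp hb
      rwa [inv_inv] at this
    rw [h1, hc' _ h2, ha' b hb]
  inv_mem' := by
    rintro a ⟨ha, ha'⟩
    refine ⟨inv_mem ha, ?_⟩
    intro b hb
    have h2 : a * b * a⁻¹ ∈ B := (Subgroup.mem_normalizer_iff.mp (hAB ha) b).mp hb
    have h1 := ha' _ h2
    have h3 : a⁻¹ * (a * b * a⁻¹) * a = b := by group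
    rw [h3] at h1
    rw [inv_inv]; exact h1.symm

theorem mem_stb {A : Subgroup Γ} {hAB : A ≤ Subgroup.normalizer (B : Set Γ)} {a : Γ} :
    a ∈ stb A B hAB χ ↔ a ∈ A ∧ ∀ b ∈ B, χ (a⁻¹ * b * a) = χ b := Iff.rfl

theorem stb_le {A : Subgroup Γ} (hAB : A ≤ Subgroup.normalizer (B : Set Γ)) : stb A B hAB χ ≤ A :=
  fun _ h => h.1

theorem map_wt_stb {A : Subgroup Γ} {hAB : A ≤ Subgroup.normalizer (B : Set Γ)} {a : Γ}
    (ha : a ∈ stb A B hAB χ) {v : V} (hv : v ∈ wt ρ B χ) : ρ a v ∈ wt ρ B χ := by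
  have h1 := map_wt (hAB ha.1) hv
  rwa [wt_congr ha.2] at h1

/-- **orbit lemma** -/
theorem orbit [Finite Γ] {A : Subgroup Γ} (hAB : A ≤ Subgroup.normalizer (B : Set Γ))
    (hA : (Nat.card A : K) ≠ 0) (hB : (Nat.card B : K) ≠ 0) {W : Submodule K V}
    (hWA : ∀ a ∈ A, ∀ w ∈ W, ρ a w ∈ W) (hfix : ∀ w ∈ W, (∀ a ∈ A, ρ a w = w) → w = 0)
    {v : V} (hv : v ∈ wt ρ B χ) (hvW : v ∈ W) (hvA : ∀ a ∈ stb A B hAB χ, ρ a v = v) : v = 0 := by
  classical
  by_contra hv0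
  letI := Fintype.ofFinite A
  letI := Fintype.ofFinite B
  have hχ := isChar_of_mem hv hv0
  have h1 : ∑ a : A, ρ (a : Γ) v = 0 := by
    have hmem : ∑ a : A, ρ (a : Γ) v ∈ W := Submodule.sum_mem W (fun a _ => hWA (a : Γ) a.2 v hvW)
    apply hfix _ hmem
    intro c hc
    rw [map_sum]
    refine Fintype.sum_equiv (Equiv.mulLeft (⟨c, hc⟩ : A)) _ _ ?_
    intro a
    simp only [Equiv.coe_mulLeft, Subgroup.coe_mul, map_mul, Module.End.mul_apply]
  have h2 := congrArg (proj ρ B χ) h1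
  rw [map_sum, map_zero] at h2
  have h3 : ∀ a : A, proj ρ B χ (ρ (a : Γ) v) = if (a : Γ) ∈ stb A B hAB χ then (Fintype.card B : K) • v else 0 := by
    intro a
    split_ifs with ha
    · rw [hvA _ ha, proj_of_mem hχ hv]
    · rw [mem_stb] at ha
      push Not at ha
      obtain ⟨b, hb, hne⟩ := ha a.2
      exact proj_of_mem' hχ (map_wt (hAB a.2) hv) hb (Ne.symm hne)
  rw [Finset.sum_congr rfl (fun a _ => h3 a), ← Finset.sum_filter, Finset.sum_const] at h2
  have h4 : (Finset.univ.filter (fun a : A => (a : Γ) ∈ stb A B hAB χ)).card = Nat.card (stb A B hAB χ) := by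
    rw [← Fintype.card_subtype, ← Nat.card_eq_fintype_card]
    apply Nat.card_congr
    exact
      { toFun := fun y => ⟨y.1, y.2⟩
        invFun := fun z => ⟨⟨z, z.2.1⟩, z.2⟩
        left_inv := fun _ => rfl
        right_inv := fun _ => rfl }
  rw [h4, ← Nat.cast_smul_eq_nsmul K, smul_smul] at h2
  have h5 : (Nat.card (stb A B hAB χ) : K) ≠ 0 := H66.Crit.cast_card_ne_zero (stb_le hAB) hA
  rw [← Nat.card_eq_fintype_card] at h2
  exact hv0 ((smul_eq_zero.mp h2).resolve_left (mul_ne_zero h5 hB))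

/-- `[V, B]` -/
def cmt (ρ : Representation K Γ V) (B : Subgroup Γ) : Submodule K V :=
  Submodule.span K {v | ∃ b ∈ B, ∃ w, ρ b w - w = v}

theorem mem_cmt {b : Γ} (hb : b ∈ B) (w : V) : ρ b w - w ∈ cmt ρ B :=
  Submodule.subset_span ⟨b, hb, w, rfl⟩

/-- no nonzero fixed vectors in `[V, B]` -/
theorem eq_zero_of_mem_cmt [Finite Γ] (hB : (Nat.card B : K) ≠ 0) {v : V} (hv : v ∈ cmt ρ B)
    (hfix : ∀ b ∈ B, ρ b v = v) : v = 0 := by
  classical
  letI := Fintype.ofFinite B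
  have h1 : ∀ u ∈ cmt ρ B, ∑ b : B, ρ (b : Γ) u = 0 := by
    intro u hu
    induction hu using Submodule.span_induction with
    | mem x hx =>
      obtain ⟨c, hc, w, rfl⟩ := hx
      simp only [map_sub, Finset.sum_sub_distrib]
      rw [sub_eq_zero]
      refine Fintype.sum_equiv (Equiv.mulRight (⟨c, hc⟩ : B)) _ _ ?_
      intro b
      simp only [Equiv.coe_mulRight, Subgroup.coe_mul, map_mul, Module.End.mul_apply]
    | zero => simp
    | add x y _ _ h1 h2 => simp only [map_add, Finset.sum_add_distrib, h1, h2, add_zero]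
    | smul c x _ h1 => simp only [map_smul, ← Finset.smul_sum, h1, smul_zero]
  have h2 := h1 v hv
  have h3 : ∀ b : B, ρ (b : Γ) v = v := fun b => hfix b b.2
  rw [Finset.sum_congr rfl (fun b _ => h3 b), Finset.sum_const, Finset.card_univ,
    ← Nat.card_eq_fintype_card, ← Nat.cast_smul_eq_nsmul K] at h2
  exact (smul_eq_zero.mp h2).resolve_left hB

theorem cmt_invariant {a : Γ} (ha : a ∈ Subgroup.normalizer (B : Set Γ)) {v : V} (hv : v ∈ cmt ρ B) :
    ρ a v ∈ cmt ρ B := by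
  induction hv using Submodule.span_induction with
  | mem x hx =>
    obtain ⟨b, hb, w, rfl⟩ := hx
    have h1 : ρ a (ρ b w - w) = ρ (a * b * a⁻¹) (ρ a w) - ρ a w := by
      rw [map_sub, ← Module.End.mul_apply, ← Module.End.mul_apply (ρ (a * b * a⁻¹)), ← map_mul, ← map_mul,
        inv_mul_cancel_right]
    rw [h1]
    exact mem_cmt ((Subgroup.mem_normalizer_iff.mp ha b).mp hb) _
  | zero => rw [map_zero]; exact zero_mem _
  | add x y _ _ h1 h2 => rw [map_add]; exact add_mem h1 h2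
  | smul c x _ h1 => rw [map_smul]; exact Submodule.smul_mem _ c h1

end H66.Weights
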